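import Cfsg.Agent.H569.DG.GenJOne_m3
import Cfsg.Agent.H79.FieldAuts
import Cfsg.Agent.H79.DiagSymm
import Cfsg.Agent.H70.OutE
import Cfsg.Agent.H135.TwoGenTab
import Cfsg.Agent.H70.OutCount
import Cfsg.Agent.H135.TwoGen
import Cfsg.Agent.CpAut.RgdUntw
import Cfsg.Agent.H490.Der_m3
import Cfsg.Agent.H69.OutGF
import Cfsg.Agent.LieRecognition.FieldSemilinear
import Cfsg.Agent.H245.DG.GTwo
import Cfsg.Agent.S1082
import Cfsg.Agent.ChevFast.E6
import Cfsg.Agent.ChevFast.E8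
import Cfsg.Agent.ChevFast.F4
import Cfsg.Agent.ChevFast.Lin
import Cfsg.Agent.H487.Gen.SporRows_mg_m3
import Cfsg.Agent.H95.DG.F4
import Cfsg.Agent.H136.TwE6
import Cfsg.Agent.H166.OutTwESix
import Cfsg.Agent.H440.TwoGen.Spor_m3
import Cfsg.Agent.S2060
import Cfsg.Agent.S2063
import Cfsg.Agent.S2064
import Cfsg.Agent.S2065
import Cfsg.Agent.S2068
import Cfsg.Agent.S2069
import Cfsg.Agent.S2070
import Cfsg.Agent.S2071
import Cfsg.Agent.S2076
import Cfsg.Agent.S2077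
import Cfsg.Agent.S2080
import Cfsg.Agent.S2083
import Cfsg.Agent.S2084
import Cfsg.Agent.S2085
import Cfsg.Agent.H831.DG.PermAut_mg_m3
import Cfsg.Agent.H994.TwoGen.Words
import Cfsg.Agent.OddHalf.Table.OutJ2
import Cfsg.Agent.S2066
import Cfsg.Agent.H55.JThreeOut
import Cfsg.Agent.S2067
import Cfsg.Agent.McLType.Model
import Cfsg.Agent.TypeM.FactsMcL
import Cfsg.Agent.S2073
import Cfsg.Agent.H994.TwoGen.Suz
import Cfsg.Agent.H997.OutSuz
import Cfsg.Agent.S2074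
import Cfsg.Agent.S2082
import Cfsg.Agent.FastGrp
import Cfsg.Agent.Prune
set_option linter.all false

section
prune_inst 0x7fbcbef9efb805dfdfff7e7ffedddffe38d4dfffbfdfff4bffe8e1efafdf230a3de52b8d9de058ff0ec262b430b87853fb7eeeffef6fdc7ffffdfff45ffbee1fe5f7bd8851d78c340f380fff03f077ce7f3fffffffffdfffffffffffffffffbeffffffffffff

-- part: H65/Cos/E78_mg
section
prune_inst 0x4040000000a0000000000000200001c128200000000080000004100000480080008000020000000014000000400300008110000000200000000000000011800800020100280080000000000000080000000000000000000000000000000000000000000000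
set_option linter.all false
open scoped Cfsg.Agent.FastGrp

-- part: H65/Cos/Reduce
section
/-!
# S4180, Cos2 rows of the untwisted Chevalley groups: reduction to trivial field part (helper65)

* `lift_of_rel` : Euclid with a relation instead of a homomorphism to a cyclic group;
* `cos2_of_mono` : if every automorphism is `conj g * W`, `W` monomial with root map in a class `Ω` closed under
  composition, then it is enough to lift the pairs `W, W'` of such monomial automorphisms with trivial field part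
  of `W`;
* `exists_mono_id` : every automorphism is `conj g * W`, `W` monomial with trivial root map, if there is no diagram
  symmetry;
* `Lift.transport` : transport along isomorphisms.
-/

set_option autoImplicit false

namespace Cfsg.Agent.H65.Cos

open Cfsg.Lie Cfsg.Agent.ChevalleyStructure Cfsg.Agent.ChevalleyStructure.Elts
  Cfsg.Agent.H70.ChevFix Cfsg.Agent.H70.ChevField Cfsg.Agent.H70.OutCount Cfsg.Agent.H70.ChevDiag
  Cfsg.Agent.H20.Cos2 Cfsg.Agent.H891.Gen Cfsg.Agent.H891.DG Cfsg.Agent.H891.DG.Nielsen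
  Cfsg.Agent.H135.TwoG Cfsg.Agent.H440.TwoGen

universe u

/-! ### Euclid with a relation -/

section Rel

variable {G : Type u} [Group G] {N : Subgroup G} {C : Type*} [Group C] [Finite C] [IsCyclic C] {R : G → C → Prop}

theorem rel_pow [Finite G] (hmul : ∀ x y a b, R x a → R y b → R (x * y) (a * b)) {x : G} {a : C} (h : R x a) :
    ∀ n : ℕ, R (x ^ (n + 1)) (a ^ (n + 1)) := by
  intro n
  induction n with
  | zero => simpa using h
  | succ n ih =>
    rw [pow_succ x, pow_succ a]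
    exact hmul _ _ _ _ ih h

theorem rel_inv [Finite G] (hmul : ∀ x y a b, R x a → R y b → R (x * y) (a * b)) {x : G} {a : C} (h : R x a) :
    R x⁻¹ a⁻¹ := by
  have h1 : 0 < Nat.card G * Nat.card C := Nat.mul_pos Nat.card_pos Nat.card_pos
  obtain ⟨n, hn⟩ : ∃ n, Nat.card G * Nat.card C * 2 = n + 2 := ⟨Nat.card G * Nat.card C * 2 - 2, by omega⟩
  have h2 : x ^ (n + 1) = x⁻¹ := by
    rw [eq_inv_iff_mul_eq_one, ← pow_succ, show n + 1 + 1 = Nat.card G * Nat.card C * 2 by omega, mul_assoc, pow_mul,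
      pow_card_eq_one', one_pow]
  have h3 : a ^ (n + 1) = a⁻¹ := by
    rw [eq_inv_iff_mul_eq_one, ← pow_succ, show n + 1 + 1 = Nat.card C * (Nat.card G * 2) by rw [← hn]; ring, pow_mul,
      pow_card_eq_one', one_pow]
  rw [← h2, ← h3]
  exact rel_pow hmul h n

/-- Euclid: it is enough to lift the pairs whose first member is related to `1`. -/
theorem lift_of_rel [Finite G] (hN : N.Normal) (hmul : ∀ x y a b, R x a → R y b → R (x * y) (a * b))
    (hex : ∀ x, ∃ a, R x a) (h : ∀ x y : G, R x 1 → Lift N x y) (x y : G) : Lift N x y := by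
  obtain ⟨c, hc⟩ := IsCyclic.exists_generator (α := C)
  have hexp : ∀ g : C, ∃ n : ℕ, g = c ^ n := by
    intro g
    obtain ⟨n, hn⟩ := (mem_powers_iff_mem_zpowers.2 (hc g))
    exact ⟨n, hn.symm⟩
  have key : ∀ k a b : ℕ, a + b ≤ k → ∀ x y : G, R x (c ^ a) → R y (c ^ b) → Lift N x y := by
    intro k
    induction k with
    | zero =>
      intro a b hab x y hx hy
      have ha : a = 0 := by omega
      subst ha
      exact h x y (by rwa [pow_zero] at hx)
    | succ k ih =>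
      intro a b hab x y hx hy
      rcases Nat.eq_zero_or_pos a with ha | ha
      · subst ha
        exact h x y (by rwa [pow_zero] at hx)
      rcases Nat.eq_zero_or_pos b with hb | hb
      · subst hb
        exact (h y x (by rwa [pow_zero] at hy)).symm
      rcases le_total a b with hle | hle
      · have h1 : Lift N x (x⁻¹ * y) := by
          refine ih a (b - a) (by omega) _ _ hx ?_
          have h2 := hmul _ _ _ _ (rel_inv hmul hx) hy
          have h3 : (c ^ a)⁻¹ * c ^ b = c ^ (b - a) := by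
            rw [inv_mul_eq_iff_eq_mul, ← pow_add, Nat.add_sub_cancel' hle]
          rwa [h3] at h2
        have h2 := Lift.mul_left hN h1
        rwa [mul_inv_cancel_left] at h2
      · have h1 : Lift N y (y⁻¹ * x) := by
          refine ih b (a - b) (by omega) _ _ hy ?_
          have h2 := hmul _ _ _ _ (rel_inv hmul hy) hx
          have h3 : (c ^ b)⁻¹ * c ^ a = c ^ (a - b) := by
            rw [inv_mul_eq_iff_eq_mul, ← pow_add, Nat.add_sub_cancel' hle]
          rwa [h3] at h2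
        have h2 := Lift.mul_left hN h1
        rw [mul_inv_cancel_left] at h2
        exact h2.symm
  obtain ⟨f, hf⟩ := hex x
  obtain ⟨g, hg⟩ := hex y
  obtain ⟨a, ha⟩ := hexp f
  obtain ⟨b, hb⟩ := hexp g
  exact key (a + b) a b le_rfl x y (ha ▸ hf) (hb ▸ hg)

end Rel

/-! ### transport -/

section Transport

/-- `Cos2` is invariant under isomorphisms -/
theorem cos2_of_equiv {T : Type u} {T' : Type*} [Group T] [Group T'] (e : T ≃* T')
    (h : ∀ x y : MulAut T', Lift (MulAut.conj : T' →* MulAut T').range x y) : Cos2 T := by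
  intro x y
  let E : MulAut T ≃* MulAut T' := MulAut.congr e
  have hE : ∀ g : T, E (MulAut.conj g) = MulAut.conj (e g) := by
    intro g
    ext z
    show e (g * e.symm z * g⁻¹) = _
    rw [MulAut.conj_apply, map_mul, map_mul, map_inv, e.apply_symm_apply]
  obtain ⟨s, ⟨a, ha⟩, t, ⟨b, hb⟩, hle⟩ := h (E x) (E y)
  subst ha hb
  refine ⟨MulAut.conj (e.symm a), ⟨_, rfl⟩, MulAut.conj (e.symm b), ⟨_, rfl⟩, ?_⟩
  rintro _ ⟨g, rfl⟩
  have h1 : MulAut.conj (e g) ∈ Subgroup.closure {E x * MulAut.conj a, E y * MulAut.conj b} := hle ⟨e g, rfl⟩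
  have h2 : Subgroup.closure {E x * MulAut.conj a, E y * MulAut.conj b} =
      (Subgroup.closure {x * MulAut.conj (e.symm a), y * MulAut.conj (e.symm b)}).map E.toMonoidHom := by
    rw [MonoidHom.map_closure, Set.image_pair]
    have h3 : E.toMonoidHom (x * MulAut.conj (e.symm a)) = E x * MulAut.conj a := by
      show E (x * MulAut.conj (e.symm a)) = _
      rw [map_mul, hE, e.apply_symm_apply]
    have h4 : E.toMonoidHom (y * MulAut.conj (e.symm b)) = E y * MulAut.conj b := by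
      show E (y * MulAut.conj (e.symm b)) = _
      rw [map_mul, hE, e.apply_symm_apply]
    rw [h3, h4]
  rw [h2, ← hE] at h1
  obtain ⟨z, hz, hz'⟩ := h1
  have : z = MulAut.conj g := E.injective hz'
  exact this ▸ hz

end Transport

/-! ### monomial automorphisms -/

variable {D : ChevalleyDatum} {F : Type u} [Field F]

/-- **Reduction to trivial field part.** -/
theorem cos2_of_mono [Finite F] (hD : InList D) (Ω : (ℕ → ℕ) → Prop)
    (hΩ : ∀ ω ω', Ω ω → Ω ω' → Ω (fun r => ω (ω' r)))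
    (hM : ∀ θ : MulAut ↥(D.group F), ∃ (g : ↥(D.group F)) (W : MulAut ↥(D.group F)) (ω : ℕ → ℕ) (d : ℕ → Fˣ)
      (σ : F ≃+* F), Ω ω ∧ Mono hD W ω d σ ∧ θ = MulAut.conj g * W)
    (h : ∀ (W W' : MulAut ↥(D.group F)) (ω ω' : ℕ → ℕ) (d d' : ℕ → Fˣ) (σ' : F ≃+* F), Ω ω → Ω ω' →
      Mono hD W ω d (RingEquiv.refl F) → Mono hD W' ω' d' σ' →
        Lift (MulAut.conj : ↥(D.group F) →* MulAut ↥(D.group F)).range W W') :
    ∀ x y : MulAut ↥(D.group F), Lift (MulAut.conj : ↥(D.group F) →* MulAut ↥(D.group F)).range x y := by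
  have hfin : Finite (MulAut ↥(D.group F)) :=
    Finite.of_injective (fun f : MulAut ↥(D.group F) => (f : ↥(D.group F) → ↥(D.group F))) DFunLike.coe_injective
  have hcyc : IsCyclic (RingAut F) := H79.FieldAuts.isCyclic_ringAut F
  have hfin2 : Finite (RingAut F) :=
    Finite.of_injective (fun f : RingAut F => (f : F → F)) DFunLike.coe_injective
  have hN := inn_normal ↥(D.group F)
  refine lift_of_rel (C := RingAut F) hN (R := fun θ σ => ∃ (g : ↥(D.group F)) (W : MulAut ↥(D.group F)) (ω : ℕ → ℕ)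
    (d : ℕ → Fˣ), Ω ω ∧ Mono hD W ω d σ ∧ θ = MulAut.conj g * W) ?_ ?_ ?_
  · rintro x y a b ⟨g, W, ω, d, h1, h2, rfl⟩ ⟨g', W', ω', d', h1', h2', rfl⟩
    refine ⟨g * W g', W * W', _, _, hΩ _ _ h1 h1', h2.mul h2', ?_⟩
    rw [map_mul, ← H65.Cos.conj_conj]
    group
  · intro x
    obtain ⟨g, W, ω, d, σ, h1, h2, h3⟩ := hM x
    exact ⟨σ, g, W, ω, d, h1, h2, h3⟩
  · rintro x y ⟨g, W, ω, d, h1, h2, rfl⟩
    obtain ⟨g', W', ω', d', σ', h1', h2', rfl⟩ := hM y
    have hl := h W W' ω ω' d d' σ' h1 h1' h2 h2'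
    refine Lift.congr ?_ ?_ hl
    · have e : (MulAut.conj g * W)⁻¹ * W = W⁻¹ * (MulAut.conj g)⁻¹ * (W⁻¹)⁻¹ := by group
      rw [e]
      exact hN.conj_mem _ (inv_mem ⟨g, rfl⟩) _
    · have e : (MulAut.conj g' * W')⁻¹ * W' = W'⁻¹ * (MulAut.conj g')⁻¹ * (W'⁻¹)⁻¹ := by group
      rw [e]
      exact hN.conj_mem _ (inv_mem ⟨g', rfl⟩) _

/-- an automorphism fixing the fundamental root subgroups and their negatives is monomial -/
theorem mono_of_perm_one (hD : InList D) {φ : MulAut ↥(D.group F)} (hφ : Perm D F φ 1) :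
    ∃ (χ : ℕ → Fˣ) (τ : F ≃+* F), Mono hD φ id χ τ := by
  obtain ⟨c, σ, hc, h1, h2, h3⟩ := exists_field hD hφ
  obtain ⟨τ, hτ⟩ := sigma_eq hD (σ := σ) h3
  obtain ⟨χ, hχ, h4, h5⟩ := exists_diagAut (F := F) hD fun i => Units.mk0 (c i) (hc i)
  obtain ⟨α, hα⟩ := exists_fieldAut hD τ
  have e : φ = diagAut hD hχ * α := by
    apply ext_values hD
    · intro i t
      rw [h1, hτ, MulAut.mul_apply, hα _ (Cfsg.Agent.S1042.simple_lt hD i.2), diagAut_xe, h4]
      rfl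
    · intro i t
      rw [h2, hτ, MulAut.mul_apply, hα _ (neg_simple_lt hD i.2), diagAut_xe, h5, Units.val_inv_eq_inv_val]
      rfl
  refine ⟨χ, τ, fun r hr => hr, fun r hr => ⟨r, hr, rfl⟩, fun r hr t => ?_⟩
  rw [e, MulAut.mul_apply, hα r hr, diagAut_xe]
  rfl

/-- no diagram symmetries: every automorphism is the product of an inner, a diagonal and a field automorphism -/
theorem exists_mono_id [Finite F] (hD : InList D)
    (hs : ∀ π : Equiv.Perm (Fin D.rank), D.IsDiagramSymmetry π → π = 1) (θ : MulAut ↥(D.group F)) :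
    ∃ (g : ↥(D.group F)) (W : MulAut ↥(D.group F)) (χ : ℕ → Fˣ) (τ : F ≃+* F), Mono hD W id χ τ ∧
      θ = MulAut.conj g * W := by
  obtain ⟨x, π, -, -, h1, h2⟩ := exists_conj_perm (F := F) hD θ
  have hp : Perm D F (MulAut.conj x * θ) π := ⟨h1, h2⟩
  have hπ : π = 1 := hs π (H70.DiagSym.isDiagramSymmetry hD hp)
  rw [hπ] at hp
  obtain ⟨χ, τ, h3⟩ := mono_of_perm_one hD hp
  refine ⟨x⁻¹, _, χ, τ, h3, ?_⟩
  rw [map_inv, inv_mul_cancel_left]

end Cfsg.Agent.H65.Cos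
end

-- part: H65/Cos/E78
section
/-!
# S4180, Cos2 rows E7(q) and E8(q) (helper65)
-/

set_option autoImplicit false

namespace Cfsg.Agent.H65.Cos

open Cfsg.Lie Cfsg.Agent.ChevalleyStructure Cfsg.Agent.ChevalleyStructure.Elts
  Cfsg.Agent.H70.ChevFix Cfsg.Agent.H70.ChevField Cfsg.Agent.H70.OutCount Cfsg.Agent.H70.ChevDiag
  Cfsg.Agent.H20.Cos2 Cfsg.Agent.H891.Gen Cfsg.Agent.H891.DG Cfsg.Agent.H891.DG.Nielsen
  Cfsg.Agent.H135.TwoG Cfsg.Agent.H440.TwoGen
open Cfsg.Agent.ChevalleyStructure.W0E7 (tabE7 tabE7_ok)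
open Cfsg.Agent.ChevalleyStructure.W0E8 (tabE8 tabE8_ok)

universe u

variable {D : ChevalleyDatum} {F : Type u} [Field F]

/-- a pair of automorphisms of inner-diagonal-field type, the first one with trivial field part -/
theorem lift_id [Finite F] (hD : InList D) {l : List ℕ} (hl : ∀ i ∈ l, i < D.rank)
    {W₀ : ℕ → ℕ} (hW₀ : ∀ s < D.nroots, W₀ s = wact D l s) {a a' : ℕ} (ha : a < D.nroots) (ha' : a' < D.nroots)
    (h1 : W₀ a' = a) {n1 n2 : ℕ → ℤ} (p1 : pr D n1 a D.rank = 1) (p2 : pr D n1 a' D.rank = 0)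
    (p3 : pr D n2 a D.rank = 0) (p4 : pr D n2 a' D.rank = 1) {steps : List (ℕ × ℕ)}
    (hrun : run D W₀ (1 <<< a) steps = 2 ^ D.nroots - 1)
    {W W' : MulAut ↥(D.group F)} {d d' : ℕ → Fˣ} {σ' : F ≃+* F}
    (h2 : Mono hD W id d (RingEquiv.refl F)) (h3 : Mono hD W' id d' σ') :
    Lift (MulAut.conj : ↥(D.group F) →* MulAut ↥(D.group F)).range W W' := by
  classical
  obtain ⟨k, hk⟩ := IsCyclic.exists_generator (α := Fˣ)
  obtain ⟨c, hc⟩ := mono_word (F := F) (hD := hD) hl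
  set wd : ↥(D.group F) := ⟨wG hD F l, wG_mem_group hD l⟩ with hwd
  obtain ⟨dd, hm⟩ : ∃ dd, Mono hD (MulAut.conj wd * W') (wact D l) dd (σ'.trans (RingEquiv.refl F)) :=
    ⟨_, hc.mul h3⟩
  have hw : ∀ r < D.nroots, ∃ c : F, c ≠ 0 ∧ ∀ t : F, (MulAut.conj wd * W') (xe hD r t) = xe hD (W₀ r)
      (c * (σ'.trans (RingEquiv.refl F)) t) := by
    intro r hr
    refine ⟨dd r, (dd r).ne_zero, fun t => ?_⟩
    rw [hm.eq r hr t, hW₀ r hr]
  have hWs : ∀ s < D.nroots, ∃ r < D.nroots, W₀ r = s := by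
    intro s hs
    obtain ⟨r, hr, h⟩ := hc.surj s hs
    exact ⟨r, hr, (hW₀ r hr).trans h⟩
  have hN := inn_normal ↥(D.group F)
  have e : W' * (W'⁻¹ * (xa hD a 1 * MulAut.conj wd) * (W'⁻¹)⁻¹) = xa hD a 1 * (MulAut.conj wd * W') := by group
  by_cases hk1 : k = 1
  · -- the field with two elements
    have hu : ∀ x : Fˣ, x = 1 := by
      intro x
      obtain ⟨n, hn⟩ := hk x
      have hn' : k ^ n = x := hn
      rw [← hn', hk1, one_zpow]
    have hF : ∀ x : F, x = 0 ∨ x = 1 := by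
      intro x
      by_cases hx : x = 0
      · exact Or.inl hx
      · exact Or.inr (congrArg Units.val (hu (Units.mk0 x hx)))
    have hW1 : W = 1 := by
      apply aut_ext hD
      intro r hr t
      rw [h2.eq r hr, hu (d r), Units.val_one, one_mul]
      rfl
    have hσ : ∀ t : F, σ' t = t := by
      intro t
      rcases hF t with rfl | rfl
      · exact map_zero _
      · exact map_one _
    have hW1' : W' = 1 := by
      apply aut_ext hD
      intro r hr t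
      rw [h3.eq r hr, hu (d' r), Units.val_one, one_mul, hσ]
      rfl
    refine ⟨xa hD a 1, ⟨_, rfl⟩, MulAut.conj wd, ⟨_, rfl⟩, ?_⟩
    subst hW1 hW1'
    rw [one_mul]
    refine range_le_of_one (W := W₀) (τ := fun _ => σ'.trans (RingEquiv.refl F)) hw ?_ (a := a) ?_ hrun
    · rw [mul_one, one_mul]
      exact Subgroup.subset_closure (by simp)
    · intro t
      rcases hF t with rfl | rfl
      · rw [xa_zero]
        exact one_mem _
      · exact Subgroup.subset_closure (by simp)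
  · obtain ⟨g, χ, h4, h5, h6⟩ := adjust' hD h2.eq p1 p2 p3 p4 k k
    refine ⟨MulAut.conj g, ⟨g, rfl⟩, W'⁻¹ * (xa hD a 1 * MulAut.conj wd) * (W'⁻¹)⁻¹,
      hN.conj_mem _ (mul_mem ⟨_, rfl⟩ ⟨_, rfl⟩) _, ?_⟩
    rw [e]
    exact gen_one hD (_root_.Cfsg.Agent.H70.OutCount.conj_injective hD) hk hk1 hWs h4 hw ha ha' h1 h5 (by rw [h6]; exact hk1) hrun

/-- the untwisted types without diagram symmetries -/
theorem cos_id [Finite F] (hD : InList D) (hs : ∀ π : Equiv.Perm (Fin D.rank), D.IsDiagramSymmetry π → π = 1)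
    {l : List ℕ} (hl : ∀ i ∈ l, i < D.rank)
    {W₀ : ℕ → ℕ} (hW₀ : ∀ s < D.nroots, W₀ s = wact D l s) {a a' : ℕ} (ha : a < D.nroots) (ha' : a' < D.nroots)
    (h1 : W₀ a' = a) {n1 n2 : ℕ → ℤ} (p1 : pr D n1 a D.rank = 1) (p2 : pr D n1 a' D.rank = 0)
    (p3 : pr D n2 a D.rank = 0) (p4 : pr D n2 a' D.rank = 1) {steps : List (ℕ × ℕ)}
    (hrun : run D W₀ (1 <<< a) steps = 2 ^ D.nroots - 1) :
    ∀ x y : MulAut ↥(D.group F), Lift (MulAut.conj : ↥(D.group F) →* MulAut ↥(D.group F)).range x y := by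
  refine cos2_of_mono hD (fun ω => ω = id) (fun ω ω' h h' => by rw [h, h']; rfl) ?_ ?_
  · intro θ
    obtain ⟨g, W, χ, τ, h2, h3⟩ := exists_mono_id hD hs θ
    exact ⟨g, W, id, χ, τ, rfl, h2, h3⟩
  · rintro W W' ω ω' d d' σ' rfl rfl h2 h3
    exact lift_id hD hl hW₀ ha ha' h1 p1 p2 p3 p4 hrun h2 h3

theorem cosE7 (F : Type u) [Field F] [Finite F] : ∀ x y : MulAut ↥(chevE7.group F),
    Lift (MulAut.conj : ↥(chevE7.group F) →* MulAut ↥(chevE7.group F)).range x y :=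
  cos_id (D := chevE7) (by simp) (fun _ h => H79.DiagSymm.eq_one_E7 h) (l := [0, 1, 2, 3, 4, 5, 6]) (by decide +kernel)
    (W₀ := wT tabE7 [0, 1, 2, 3, 4, 5, 6]) (wT_eq (by simp) tabE7_ok (by decide +kernel)) (a := 3) (a' := 10)
    (by decide +kernel) (by decide +kernel) (by decide +kernel) (n1 := fun i => if i = 4 then -1 else 0)
    (n2 := fun i => if i = 6 then 1 else 0) (by decide +kernel) (by decide +kernel) (by decide +kernel)
    (by decide +kernel) (steps := twoStepsE7) (by decide +kernel)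

theorem cosE8 (F : Type u) [Field F] [Finite F] : ∀ x y : MulAut ↥(chevE8.group F),
    Lift (MulAut.conj : ↥(chevE8.group F) →* MulAut ↥(chevE8.group F)).range x y :=
  cos_id (D := chevE8) (by simp) (fun _ h => H79.DiagSymm.eq_one_E8 h) (l := [0, 1, 2, 3, 4, 5, 6, 7])
    (by decide +kernel) (W₀ := wT tabE8 [0, 1, 2, 3, 4, 5, 6, 7]) (wT_eq (by simp) tabE8_ok (by decide +kernel))
    (a := 0) (a' := 1) (by decide +kernel) (by decide +kernel) (by decide +kernel)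
    (n1 := fun i => if i = 6 ∨ i = 7 then -1 else 0) (n2 := fun i => if i = 6 then -1 else 0) (by decide +kernel)
    (by decide +kernel) (by decide +kernel) (by decide +kernel) (steps := twoStepsE8) (by (delta Cfsg.Agent.H135.TwoG.run Cfsg.Agent.H135.TwoG.step; rewrite [Cfsg.Agent.ChevFast.E8.commTerms, Cfsg.Agent.ChevFast.E8.neg]; decide +kernel))

/-- **Row E7.** -/
theorem cos2_e7 (T : Type u) [Group T] [Finite T] [IsSimpleGroup T] (h : Cfsg.Lie.IsoE7 T) : Cos2 T := by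
  obtain ⟨F, _, _, ⟨e⟩⟩ := h
  exact cos2_of_equiv e (cosE7 F)

/-- **Row E8.** -/
theorem cos2_e8 (T : Type u) [Group T] [Finite T] [IsSimpleGroup T] (h : Cfsg.Lie.IsoE8 T) : Cos2 T := by
  obtain ⟨F, _, _, ⟨e⟩⟩ := h
  exact cos2_of_equiv e (cosE8 F)

end Cfsg.Agent.H65.Cos
end

-- part: H134/Cos/Core
section
/-!
# Generating pairs in cosets of `Inn T`, `T = D.group F` (helper134, for S4180)

`T = D.group F`, `D` one of the tabulated data, `F` a finite field.

* `Mono v W c σ` : the automorphism `v` maps `x_s(t)` to `x_{W s}(c_s σ_s(t))`, for all roots `s`;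
* `exists_mono` : every automorphism of `T` is an inner one times a `Mono`;
* `exists_adjust` : a torus element in a given coset with prescribed values at two roots;
* `core` : the torus trick;
* `inn_le_of_run` : the closure computation with the permutation `W`.
-/

set_option autoImplicit false
set_option linter.unusedSectionVars false

namespace Cfsg.Agent.H134.Cos

open scoped Pointwise
open Cfsg Cfsg.Lie Cfsg.Agent.ChevalleyStructure Cfsg.Agent.ChevalleyStructure.Elts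
  Cfsg.Agent.ChevalleyStructure.NConj Cfsg.Agent.ChevalleyStructure.BNChev Cfsg.Agent.S1042
  Cfsg.Agent.Schreier.ChevLocal Cfsg.Agent.H70.AutFix Cfsg.Agent.H70.ChevTab Cfsg.Agent.H70.ChevFix
  Cfsg.Agent.H70.ChevField Cfsg.Agent.H70.OutCount Cfsg.Agent.H135.TwoG
open Cfsg.Agent.H891.Gen (Lift)

universe u

variable {D : ChevalleyDatum} (hD : InList D) {F : Type u} [Field F]

/-! ### monomial automorphisms -/

/-- `v x_s(t) = x_{W s}(c_s σ_s(t))` for all roots `s` -/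
structure Mono (v : MulAut ↥(D.group F)) (W : ℕ → ℕ) (c : ℕ → F) (σ : ℕ → (F ≃+* F)) : Prop where
  lt : ∀ s < D.nroots, W s < D.nroots
  ne : ∀ s < D.nroots, c s ≠ 0
  eq : ∀ s < D.nroots, ∀ t, v (xe hD s t) = xe hD (W s) (c s * σ s t)

variable {hD}

theorem Mono.mul {v v' : MulAut ↥(D.group F)} {W W' : ℕ → ℕ} {c c' : ℕ → F} {σ σ' : ℕ → (F ≃+* F)}
    (h : Mono hD v W c σ) (h' : Mono hD v' W' c' σ') :
    Mono hD (v * v') (fun s => W (W' s)) (fun s => c (W' s) * σ (W' s) (c' s)) fun s => σ (W' s) * σ' s where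
  lt s hs := h.lt _ (h'.lt s hs)
  ne s hs := mul_ne_zero (h.ne _ (h'.lt s hs)) ((map_ne_zero _).2 (h'.ne s hs))
  eq s hs t := by
    rw [MulAut.mul_apply, h'.eq s hs, h.eq _ (h'.lt s hs), map_mul, mul_assoc]
    rfl

theorem Mono.congr {v : MulAut ↥(D.group F)} {W W' : ℕ → ℕ} {c c' : ℕ → F} {σ σ' : ℕ → (F ≃+* F)}
    (h : Mono hD v W c σ) (hW : ∀ s < D.nroots, W' s = W s) (hc : ∀ s < D.nroots, c' s = c s)
    (hσ : ∀ s < D.nroots, σ' s = σ s) : Mono hD v W' c' σ' where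
  lt s hs := by rw [hW s hs]; exact h.lt s hs
  ne s hs := by rw [hc s hs]; exact h.ne s hs
  eq s hs t := by rw [hW s hs, hc s hs, hσ s hs]; exact h.eq s hs t

theorem mono_one : Mono hD (1 : MulAut ↥(D.group F)) (fun s => s) (fun _ => 1) fun _ => 1 where
  lt _ hs := hs
  ne _ _ := one_ne_zero
  eq s _ t := by rw [one_mul]; rfl

/-- the word in the `n`'s as an element of `T` -/
def we (hD : InList D) (F : Type u) [Field F] (l : List ℕ) : ↥(D.group F) := ⟨wG hD F l, wG_mem_group hD l⟩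

theorem mono_we {l : List ℕ} (hl : ∀ i ∈ l, i < D.rank) :
    ∃ c, Mono hD (MulAut.conj (we hD F l)) (wact D l) c fun _ => 1 := by
  choose! c hc h using fun (s : ℕ) (hs : s < D.nroots) => wG_conj (F := F) hD hl hs
  refine ⟨c, ⟨fun s hs => wact_lt hD hl hs, fun s hs => ?_, fun s hs t => ?_⟩⟩
  · rcases hc s hs with h1 | h1 <;> rw [h1]
    · exact one_ne_zero
    · exact neg_ne_zero.2 one_ne_zero
  · apply Subtype.ext
    exact h s hs t

/-- the field automorphism -/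
noncomputable abbrev fl (D : ChevalleyDatum) {F : Type u} [Field F] (τ : F ≃+* F) : MulAut ↥(D.group F) :=
  Cfsg.Agent.CpAut.RgdUntw.fld D τ

theorem fl_xe (τ : F ≃+* F) (r : ℕ) (t : F) : fl D τ (xe hD r t) = xe hD r (τ t) := by
  apply Subtype.ext
  apply Units.ext
  rw [Cfsg.Agent.CpAut.RgdUntw.fld_coe]
  exact ChevStructure.FieldMap.x_map D (τ : F →+* F) r t

theorem mono_fl (τ : F ≃+* F) : Mono hD (fl D τ) (fun s => s) (fun _ => 1) fun _ => τ where
  lt _ hs := hs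
  ne _ _ := one_ne_zero
  eq s _ t := by rw [fl_xe, one_mul]

/-- conjugation by the torus element `h_{p_i}(c)` -/
theorem mono_he {i : ℕ} (hi : i < D.rank) {c : F} (hc : c ≠ 0) :
    Mono hD (MulAut.conj (he hD (D.simple i) c)) (fun s => s) (fun s => c ^ D.cartan i s) fun _ => 1 where
  lt _ hs := hs
  ne s _ := zpow_ne_zero _ hc
  eq s hs t := by rw [MulAut.conj_apply, he_conj hD hi hs hc]; rfl

/-- two automorphisms which agree on the root elements are equal -/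
theorem ext_xe {φ ψ : MulAut ↥(D.group F)} (h : ∀ s < D.nroots, ∀ t : F, φ (xe hD s t) = ψ (xe hD s t)) : φ = ψ :=
  ext_values hD (fun i t => h _ (simple_lt hD i.2) t) fun i t => h _ (neg_simple_lt hD i.2) t

/-! ### every automorphism is monomial up to an inner one -/

/-- the function `P` on the roots extends the permutation `π` of the nodes -/
def Ext (D : ChevalleyDatum) (π : Equiv.Perm (Fin D.rank)) (P : ℕ → ℕ) : Prop :=
  (∀ i : Fin D.rank, P (D.simple i) = D.simple (π i)) ∧ (∀ s < D.nroots, P s < D.nroots) ∧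
    ∀ i : Fin D.rank, ∀ s < D.nroots, P (D.reflectRoot i s) = D.reflectRoot (π i) (P s)

instance (D : ChevalleyDatum) (π : Equiv.Perm (Fin D.rank)) (P : ℕ → ℕ) : Decidable (Ext D π P) := by
  unfold Ext; infer_instance

theorem ne_conj {i s : ℕ} (hi : i < D.rank) (hs : s < D.nroots) {c : F} (hc : c ≠ 0) :
    ∃ η : F, η ≠ 0 ∧ ∀ t : F, ne hD (D.simple i) c * xe hD s t * (ne hD (D.simple i) c)⁻¹ =
      xe hD (D.reflectRoot i s) (η * t) := by
  obtain ⟨η, hη, h⟩ := n_conj (F := F) hD hi hs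
  have h' : ∀ t : F, ne hD (D.simple i) 1 * xe hD s t * (ne hD (D.simple i) 1)⁻¹ =
      xe hD (D.reflectRoot i s) (η * t) := fun t => Subtype.ext (h t)
  have hη0 : η ≠ 0 := by
    rcases hη with rfl | rfl
    · exact one_ne_zero
    · exact neg_ne_zero.2 one_ne_zero
  refine ⟨c ^ D.cartan i (D.reflectRoot i s) * η, mul_ne_zero (zpow_ne_zero _ hc) hη0, fun t => ?_⟩
  rw [_root_.Cfsg.Agent.H70.ChevField.ne_eq hD (D.simple i) c, mul_inv_rev]
  calc he hD (D.simple i) c * ne hD (D.simple i) 1 * xe hD s t *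
        ((ne hD (D.simple i) 1)⁻¹ * (he hD (D.simple i) c)⁻¹)
      = he hD (D.simple i) c * (ne hD (D.simple i) 1 * xe hD s t * (ne hD (D.simple i) 1)⁻¹) *
          (he hD (D.simple i) c)⁻¹ := by group
    _ = _ := by rw [h', he_conj hD hi (Reach.reflect_lt hD hi hs) hc, mul_assoc]

/-- an automorphism given on the fundamental roots is monomial -/
theorem mono_of_simple {φ : MulAut ↥(D.group F)} {π : Equiv.Perm (Fin D.rank)} {c : Fin D.rank → F}
    {σ : Fin D.rank → (F ≃+* F)} (hc : ∀ i, c i ≠ 0)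
    (h1 : ∀ (i : Fin D.rank) (t : F), φ (xe hD (D.simple i) t) = xe hD (D.simple (π i)) (c i * σ i t))
    (h2 : ∀ (i : Fin D.rank) (t : F), φ (xe hD (D.neg (D.simple i)) t) = xe hD (D.neg (D.simple (π i))) ((c i)⁻¹ * σ i t))
    {P : ℕ → ℕ} (hP : Ext D π P) : ∃ c' σ', Mono hD φ P c' σ' ∧ ∀ s < D.nroots, ∃ i, σ' s = σ i := by
  obtain ⟨hP1, hP2, hP3⟩ := hP
  have key : ∀ s < D.nroots, s < D.nroots ∧ ∃ (d : F) (i : Fin D.rank), d ≠ 0 ∧ ∀ t, φ (xe hD s t) = xe hD (P s) (d * σ i t) := by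
    refine Reach.reach hD (fun s => s < D.nroots ∧ ∃ (d : F) (i : Fin D.rank), d ≠ 0 ∧
      ∀ t, φ (xe hD s t) = xe hD (P s) (d * σ i t)) ?_ ?_
    · intro i hi
      exact ⟨simple_lt hD hi, c ⟨i, hi⟩, ⟨i, hi⟩, hc _, fun t => by rw [hP1 ⟨i, hi⟩]; exact h1 ⟨i, hi⟩ t⟩
    · rintro i hi s hs ⟨-, d, k, hd, h⟩
      refine ⟨Reach.reflect_lt hD hi hs, ?_⟩
      obtain ⟨η, hη, hn⟩ := n_conj (F := F) hD hi hs
      have hn' : ∀ t : F, ne hD (D.simple i) 1 * xe hD s t * (ne hD (D.simple i) 1)⁻¹ =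
          xe hD (D.reflectRoot i s) (η * t) := fun t => Subtype.ext (hn t)
      have hη2 : η * η = 1 := by rcases hη with rfl | rfl <;> simp
      have hφn : φ (ne hD (D.simple i) 1) = ne hD (D.simple (π ⟨i, hi⟩)) (c ⟨i, hi⟩) := by
        have := Cfsg.Agent.H70.PermFix.map_ne hD (i := ⟨i, hi⟩) (h1 ⟨i, hi⟩) (h2 ⟨i, hi⟩) 1
        rw [map_one, mul_one] at this
        exact this
      obtain ⟨ζ, hζ, hz⟩ := ne_conj (F := F) (hD := hD) (π ⟨i, hi⟩).2 (hP2 s hs) (hc ⟨i, hi⟩)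
      refine ⟨ζ * d * σ k η, k, ?_, fun t => ?_⟩
      · refine mul_ne_zero (mul_ne_zero hζ hd) ((map_ne_zero _).2 ?_)
        intro h0
        rw [h0, zero_mul] at hη2
        exact zero_ne_one hη2
      · have h3 := hn' (η * t)
        rw [← mul_assoc, hη2, one_mul] at h3
        rw [← h3, map_mul, map_mul, map_inv, hφn, h, hz, hP3 ⟨i, hi⟩ s hs, map_mul]
        congr 1
        ring
  have key' : ∀ s, ∃ (d : F) (τ : F ≃+* F), s < D.nroots → (d ≠ 0 ∧ ∃ i, τ = σ i) ∧ ∀ t, φ (xe hD s t) = xe hD (P s) (d * τ t) := by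
    intro s
    by_cases hs : s < D.nroots
    · obtain ⟨-, d, i, hd, h⟩ := key s hs
      exact ⟨d, σ i, fun _ => ⟨⟨hd, i, rfl⟩, h⟩⟩
    · exact ⟨1, 1, fun h => absurd h hs⟩
  choose d τ h using key'
  exact ⟨d, τ, ⟨hP2, fun s hs => (h s hs).1.1, fun s hs => (h s hs).2⟩, fun s hs => (h s hs).1.2⟩

/-- **Steinberg's theorem.** -/
theorem exists_perm_form (hD : InList D) [Finite F] (θ : MulAut ↥(D.group F)) :
    ∃ (g : ↥(D.group F)) (ψ : MulAut ↥(D.group F)) (π : Equiv.Perm (Fin D.rank)), θ = MulAut.conj g * ψ ∧ Perm D F ψ π := by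
  obtain ⟨x, π, -, -, h1, h2⟩ := exists_conj_perm (F := F) hD θ
  exact ⟨x⁻¹, MulAut.conj x * θ, π, by rw [map_inv]; group, ⟨h1, h2⟩⟩

/-! ### torus elements -/

/-! ### the torus trick -/

/-- the subgroup of `D.group F` of the elements whose inner automorphism is in `M` -/
def ofM (M : Subgroup (MulAut ↥(D.group F))) : Subgroup (GL D.Idx F) := (M.comap MulAut.conj).map (D.group F).subtype

theorem has_iff {M : Subgroup (MulAut ↥(D.group F))} {r : ℕ} : Has hD (ofM M) r ↔ ∀ t, MulAut.conj (xe hD r t) ∈ M := by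
  constructor
  · intro h t
    obtain ⟨g, hg, he⟩ := h t
    have : g = xe hD r t := Subtype.ext he
    rw [← this]
    exact hg
  · intro h t
    exact ⟨xe hD r t, h t, rfl⟩

theorem conj_conj (v : MulAut ↥(D.group F)) (g : ↥(D.group F)) : v * MulAut.conj g * v⁻¹ = MulAut.conj (v g) := by
  ext s
  simp only [MulAut.mul_apply, MulAut.conj_apply, _root_.MulAut.inv_apply, _root_.map_mul, _root_.MulEquiv.apply_symm_apply, _root_.map_inv, _root_.Subgroup.coe_mul, _root_.InvMemClass.coe_inv, _root_.Units.val_mul, _root_.Matrix.coe_units_inv]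

theorem conj_conj' (v : MulAut ↥(D.group F)) (g : ↥(D.group F)) : v⁻¹ * MulAut.conj g * v = MulAut.conj (v⁻¹ g) := by
  have := conj_conj v⁻¹ g
  rwa [inv_inv] at this

/-- **The torus trick.** -/
theorem core {M : Subgroup (MulAut ↥(D.group F))} {h v : MulAut ↥(D.group F)} {χ : ℕ → F}
    (hh : ∀ s < D.nroots, χ s ≠ 0 ∧ ∀ t, h (xe hD s t) = xe hD s (χ s * t)) {W : ℕ → ℕ} {c : ℕ → F}
    {σ : ℕ → (F ≃+* F)} (hv : Mono hD v W c σ) (hW : ∀ s < D.nroots, ∃ s' < D.nroots, W s' = s) (hM : h ∈ M)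
    {a a' : ℕ} (hy : MulAut.conj (xe hD a 1) * v ∈ M) (ha : a < D.nroots) (ha' : a' < D.nroots) (e : W a' = a)
    (hirr : ∀ Y : AddSubgroup F, (∀ t ∈ Y, χ a * t ∈ Y) → Y = ⊥ ∨ Y = ⊤) (h1 : χ a ≠ 1) (h1' : χ a' ≠ 1) :
    Has hD (ofM M) a ∧ v ∈ M := by
  -- the conjugate of `h`
  have hv' : ∀ s < D.nroots, ∀ t, v⁻¹ (xe hD (W s) t) = xe hD s ((σ s).symm ((c s)⁻¹ * t)) := by
    intro s hs t
    apply v.injective
    rw [MulAut.apply_inv_self, hv.eq s hs, RingEquiv.apply_symm_apply, ← mul_assoc, mul_inv_cancel₀ (hv.ne s hs),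
      one_mul]
  have hh1 : ∀ s < D.nroots, ∀ t, (v * h * v⁻¹) (xe hD (W s) t) = xe hD (W s) (σ s (χ s) * t) := by
    intro s hs t
    rw [MulAut.mul_apply, MulAut.mul_apply, hv' s hs, (hh s hs).2, hv.eq s hs, map_mul, RingEquiv.apply_symm_apply]
    congr 1
    have := hv.ne s hs
    field_simp
  have hcomm : h * (v * h * v⁻¹) = (v * h * v⁻¹) * h := by
    apply ext_xe (hD := hD)
    intro s hs t
    obtain ⟨s', hs', rfl⟩ := hW s hs
    change h ((v * h * v⁻¹) (xe hD (W s') t)) = (v * h * v⁻¹) (h (xe hD (W s') t))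
    rw [hh1 s' hs', (hh _ hs).2, (hh _ hs).2, hh1 s' hs', mul_left_comm]
  have hinv : ∀ s < D.nroots, ∀ t, (v * h * v⁻¹)⁻¹ (xe hD (W s) t) = xe hD (W s) ((σ s (χ s))⁻¹ * t) := by
    intro s hs t
    apply (v * h * v⁻¹).injective
    rw [MulAut.apply_inv_self, hh1 s hs, ← mul_assoc, mul_inv_cancel₀ ((map_ne_zero _).2 (hh s hs).1), one_mul]
  let X : Subgroup (MulAut ↥(D.group F)) := (XX D F a).map MulAut.conj
  have hX : ∀ {y}, y ∈ X ↔ ∃ t, MulAut.conj (xe hD a t) = y := by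
    intro y
    constructor
    · rintro ⟨g, hg, rfl⟩
      obtain ⟨t, rfl⟩ := (mem_XX hD).1 hg
      exact ⟨t, rfl⟩
    · rintro ⟨t, rfl⟩
      exact ⟨_, xe_mem_XX hD a t, rfl⟩
  have hinj := _root_.Cfsg.Agent.H70.OutCount.conj_injective (F := F) hD
  suffices H : X ≤ M ∧ v ∈ M from ⟨has_iff.2 fun t => H.1 (hX.2 ⟨t, rfl⟩), H.2⟩
  refine Cfsg.Agent.H136.TwoGen.torus_trick M X (h := h) (w := v) (u := MulAut.conj (xe hD a 1)) hM hy
    (hX.2 ⟨1, rfl⟩) ?_ ?_ ?_ ?_ ?_ hcomm ?_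
  · intro x hx
    obtain ⟨t, rfl⟩ := hX.1 hx
    rw [conj_conj, ← e, hh1 a' ha', e]
    exact hX.2 ⟨_, rfl⟩
  · intro x hx
    obtain ⟨t, rfl⟩ := hX.1 hx
    rw [conj_conj', ← e, hinv a' ha', e]
    exact hX.2 ⟨_, rfl⟩
  · intro Y hYX hY
    let C : AddSubgroup F :=
      { carrier := {t | MulAut.conj (xe hD a t) ∈ Y}
        zero_mem' := by
          change MulAut.conj (xe hD a 0) ∈ Y
          rw [xe_zero, map_one]
          exact one_mem _
        add_mem' := by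
          intro s t hs ht
          change MulAut.conj (xe hD a (s + t)) ∈ Y
          rw [xe_add, map_mul]
          exact mul_mem hs ht
        neg_mem' := by
          intro s hs
          change MulAut.conj (xe hD a (-s)) ∈ Y
          rw [xe_neg, map_inv]
          exact inv_mem hs }
    have hC : ∀ t, t ∈ C ↔ MulAut.conj (xe hD a t) ∈ Y := fun _ => Iff.rfl
    rcases hirr C (fun t ht => by
      rw [hC] at ht ⊢
      have := hY _ ht
      rwa [conj_conj, (hh a ha).2] at this) with h5 | h5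
    · left
      rw [eq_bot_iff]
      intro y hy
      obtain ⟨t, rfl⟩ := hX.1 (hYX hy)
      have h6 : t ∈ C := hy
      rw [h5, AddSubgroup.mem_bot] at h6
      rw [h6, xe_zero, map_one]
      exact one_mem _
    · right
      refine le_antisymm hYX fun y hy => ?_
      obtain ⟨t, rfl⟩ := hX.1 hy
      have h6 : t ∈ C := by rw [h5]; exact AddSubgroup.mem_top t
      exact h6
  · refine ⟨MulAut.conj (xe hD a 1), hX.2 ⟨1, rfl⟩, fun h6 => ?_⟩
    have h7 := conj_conj h (xe hD a 1)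
    rw [h6, mul_inv_cancel_right, (hh a ha).2, mul_one] at h7
    exact h1 (xe_inj hD ha (hinj h7)).symm
  · intro x hx
    obtain ⟨t, rfl⟩ := hX.1 hx
    rw [conj_conj, (hh a ha).2]
    exact hX.2 ⟨_, rfl⟩
  · intro h6
    have h7 := conj_conj (v * h * v⁻¹) (xe hD a 1)
    rw [h6, mul_inv_cancel_right, ← e, hh1 a' ha', e, mul_one] at h7
    have h8 := xe_inj hD ha (hinj h7)
    exact h1' ((σ a').injective (h8.symm.trans (map_one _).symm))

/-! ### closure -/

theorem has_rot {M : Subgroup (MulAut ↥(D.group F))} {v : MulAut ↥(D.group F)} {W : ℕ → ℕ} {c : ℕ → F}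
    {σ : ℕ → (F ≃+* F)} (hv : Mono hD v W c σ) (hM : v ∈ M) {s : ℕ} (hs : s < D.nroots) (h : Has hD (ofM M) s) :
    Has hD (ofM M) (W s) := by
  rw [has_iff] at h ⊢
  intro t
  have h1 := M.mul_mem (M.mul_mem hM (h ((σ s).symm ((c s)⁻¹ * t)))) (M.inv_mem hM)
  rwa [conj_conj, hv.eq s hs, RingEquiv.apply_symm_apply, ← mul_assoc, mul_inv_cancel₀ (hv.ne s hs), one_mul] at h1

theorem step_sound' {M : Subgroup (GL D.Idx F)} {W : ℕ → ℕ} (hrot : ∀ s < D.nroots, Has hD M s → Has hD M (W s))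
    {S : ℕ} (hS : ∀ k, Nat.testBit S k = true → Has hD M k) (p : ℕ × ℕ) :
    ∀ k, Nat.testBit (step D W S p) k = true → Has hD M k := by
  intro k hk
  unfold step at hk
  split_ifs at hk with h1 h2 h3
  · rcases testBit_insert hk with h | rfl
    · exact hS k h
    · exact hrot _ h2.2 (hS _ h2.1)
  · exact hS k hk
  · obtain ⟨ha, hb, hr, hs, hneg⟩ := h3
    split at hk
    · rename_i e he
      split_ifs at hk with hg
      · rcases testBit_insert hk with h | rfl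
        · exact hS k h
        · intro v
          obtain ⟨t, u, rfl⟩ := good_spec (F := F) hg v
          have hm := comm_mem hD hr hs (Ne.symm h1) hneg (t := t) (u := u) (hS _ ha t) (hS _ hb u)
          exact mem_of_filter hD (P := fun k => Nat.testBit S k) hS
            (fun c : ℤ × ℕ × ℕ => (c.1 : F) * (-t) ^ c.2.1 * u ^ c.2.2) _ he hm
      · exact hS k hk
    · exact hS k hk
  · exact hS k hk

theorem run_sound' {M : Subgroup (GL D.Idx F)} {W : ℕ → ℕ} (hrot : ∀ s < D.nroots, Has hD M s → Has hD M (W s))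
    (steps : List (ℕ × ℕ)) : ∀ {S : ℕ} (_ : ∀ k, Nat.testBit S k = true → Has hD M k),
    ∀ k, Nat.testBit (run D W S steps) k = true → Has hD M k := by
  induction steps with
  | nil => intro S hS; exact hS
  | cons p steps ih =>
    intro S hS
    exact ih (step_sound' hrot hS p)

/-- **The closure computation.** -/
theorem inn_le_of_run {M : Subgroup (MulAut ↥(D.group F))} {v : MulAut ↥(D.group F)} {W : ℕ → ℕ} {c : ℕ → F}
    {σ : ℕ → (F ≃+* F)} (hv : Mono hD v W c σ) (hM : v ∈ M) {S : ℕ}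
    (hS : ∀ k, Nat.testBit S k = true → Has hD (ofM M) k) {steps : List (ℕ × ℕ)}
    (h : run D W S steps = 2 ^ D.nroots - 1) : (MulAut.conj : ↥(D.group F) →* MulAut ↥(D.group F)).range ≤ M := by
  have h1 : D.group F ≤ ofM M := by
    rw [group_le_iff hD]
    intro r hr
    refine run_sound' (fun s hs => has_rot hv hM hs) steps hS r ?_
    rw [h, Nat.testBit_two_pow_sub_one]
    exact decide_eq_true hr
  rintro _ ⟨g, rfl⟩
  obtain ⟨g', hg', he⟩ := h1 g.2
  have : g' = g := Subtype.ext he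
  rw [← this]
  exact hg'

end Cfsg.Agent.H134.Cos
end

-- part: H134/Cos/Pair
section
/-!
# Generating pairs in cosets of `Inn T`, `T = D.group F`: the pair theorems (helper134, for S4180)

* `lift_of_cyclic` : it is enough to treat the pairs `(x, y)` with `φ x = 1`, `φ` a homomorphism to a cyclic group;
* `lift_one` : one root, any cosets (fields with at least three elements);
* `lift_two` : two roots, `x` inner; `lift_two'` : the same with a given torus element in the coset of `x`;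
* `lift_F2` : the field with two elements, `x` inner;
* `KK`, `cyclic_of_full` : the automorphisms without field part.
-/

set_option autoImplicit false
set_option linter.unusedSectionVars false

namespace Cfsg.Agent.H134.Cos

open scoped Pointwise
open Cfsg Cfsg.Lie Cfsg.Agent.ChevalleyStructure Cfsg.Agent.ChevalleyStructure.Elts
  Cfsg.Agent.ChevalleyStructure.NConj Cfsg.Agent.ChevalleyStructure.BNChev Cfsg.Agent.S1042
  Cfsg.Agent.Schreier.ChevLocal Cfsg.Agent.H70.AutFix Cfsg.Agent.H70.ChevTab Cfsg.Agent.H70.ChevFix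
  Cfsg.Agent.H70.ChevField Cfsg.Agent.H70.OutCount Cfsg.Agent.H135.TwoG
open Cfsg.Agent.H891.Gen (Lift)

universe u

/-! ### generalities -/

section gen

variable {G : Type*} [Group G] {N : Subgroup G}

/-- `Lift` depends only on the cosets -/
theorem lift_congr {x y x' y' : G} (hx : x⁻¹ * x' ∈ N) (hy : y⁻¹ * y' ∈ N) (h : Lift N x' y') : Lift N x y := by
  obtain ⟨s, hs, t, ht, h⟩ := h
  refine ⟨x⁻¹ * x' * s, N.mul_mem hx hs, y⁻¹ * y' * t, N.mul_mem hy ht, ?_⟩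
  have e1 : x * (x⁻¹ * x' * s) = x' * s := by group
  have e2 : y * (y⁻¹ * y' * t) = y' * t := by group
  rw [e1, e2]
  exact h

theorem lift_of {x y x' y' : G} (hx : x⁻¹ * x' ∈ N) (hy : y⁻¹ * y' ∈ N) (h : N ≤ Subgroup.closure {x', y'}) :
    Lift N x y :=
  lift_congr hx hy ⟨1, one_mem _, 1, one_mem _, by rwa [mul_one, mul_one]⟩

/-- a Nielsen move -/
theorem lift_mul [N.Normal] {x y : G} (h : Lift N x (x⁻¹ * y)) : Lift N x y := by
  obtain ⟨s, hs, t, ht, h⟩ := h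
  refine ⟨s, hs, y⁻¹ * (x * s) * (x⁻¹ * y * t), ?_, ?_⟩
  · have e : y⁻¹ * (x * s) * (x⁻¹ * y * t) = (y⁻¹ * x) * s * (y⁻¹ * x)⁻¹ * t := by group
    rw [e]
    exact N.mul_mem (‹N.Normal›.conj_mem s hs _) ht
  · have e : y * (y⁻¹ * (x * s) * (x⁻¹ * y * t)) = (x * s) * (x⁻¹ * y * t) := by group
    rw [e]
    refine h.trans ?_
    rw [Subgroup.closure_le]
    rintro z (rfl | rfl)
    · exact Subgroup.subset_closure (by simp only [_root_.Set.mem_insert_iff, _root_.Set.mem_singleton_iff, _root_.left_eq_mul, _root_.true_or])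
    · have h1 : x * s ∈ Subgroup.closure {x * s, (x * s) * (x⁻¹ * y * t)} := Subgroup.subset_closure (by simp only [_root_.Set.mem_insert_iff, _root_.Set.mem_singleton_iff, _root_.left_eq_mul, _root_.true_or])
      have h2 : (x * s) * (x⁻¹ * y * t) ∈ Subgroup.closure {x * s, (x * s) * (x⁻¹ * y * t)} :=
        Subgroup.subset_closure (by simp only [_root_.Set.mem_insert_iff, _root_.mul_eq_left, _root_.Set.mem_singleton_iff, _root_.or_true])
      have h3 := mul_mem (inv_mem h1) h2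
      rwa [inv_mul_cancel_left] at h3

/-- **Nielsen reduction.** -/
theorem lift_of_cyclic [N.Normal] {C : Type*} [Group C] [Finite C] [IsCyclic C] (φ : G →* C)
    (h : ∀ x y, φ x = 1 → Lift N x y) (x y : G) : Lift N x y := by
  obtain ⟨c, hc⟩ := IsCyclic.exists_generator (α := C)
  have key : ∀ n i j : ℕ, i + j ≤ n → ∀ x y, φ x = c ^ i → φ y = c ^ j → Lift N x y := by
    intro n
    induction n with
    | zero =>
      intro i j hij x y hx _
      apply h
      rw [hx, show i = 0 by omega, pow_zero]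
    | succ n ih =>
      intro i j hij x y hx hy
      rcases Nat.eq_zero_or_pos i with hi | hi
      · apply h
        rw [hx, hi, pow_zero]
      rcases Nat.eq_zero_or_pos j with hj | hj
      · apply Cfsg.Agent.H891.Gen.Lift.symm
        apply h
        rw [hy, hj, pow_zero]
      rcases le_total i j with hle | hle
      · apply lift_mul
        refine ih i (j - i) (by omega) x _ hx ?_
        rw [map_mul, map_inv, hx, hy, pow_sub c hle, (Commute.pow_pow_self c j i).inv_right.eq]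
      · apply Cfsg.Agent.H891.Gen.Lift.symm
        apply lift_mul
        refine ih j (i - j) (by omega) y _ hy ?_
        rw [map_mul, map_inv, hx, hy, pow_sub c hle, (Commute.pow_pow_self c i j).inv_right.eq]
  have hpow : ∀ u : C, ∃ i : ℕ, u = c ^ i := by
    intro u
    obtain ⟨i, hi⟩ := mem_powers_iff_mem_zpowers.2 (hc u)
    exact ⟨i, hi.symm⟩
  obtain ⟨i, hi⟩ := hpow (φ x)
  obtain ⟨j, hj⟩ := hpow (φ y)
  exact key (i + j) i j le_rfl x y hi hj

end gen

variable {D : ChevalleyDatum} {hD : InList D} {F : Type u} [Field F]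

/-- the inner automorphisms -/
abbrev NI (D : ChevalleyDatum) (F : Type u) [Field F] : Subgroup (MulAut ↥(D.group F)) :=
  (MulAut.conj : ↥(D.group F) →* MulAut ↥(D.group F)).range

instance instNormalNI (D : ChevalleyDatum) (F : Type u) [Field F] : (NI D F).Normal where
  conj_mem := by
    rintro _ ⟨g, rfl⟩ φ
    exact ⟨φ g, (conj_conj φ g).symm⟩

theorem inv_mul_conj_mul (ψ : MulAut ↥(D.group F)) (g : ↥(D.group F)) : ψ⁻¹ * (MulAut.conj g * ψ) ∈ NI D F := by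
  rw [← mul_assoc, conj_conj']
  exact ⟨_, rfl⟩

/-- a subgroup of `F` stable under a generator of the multiplicative group (or its inverse, or its square) -/
theorem irr_of_gen [Finite F] {k : Fˣ} (hk : ∀ x : Fˣ, x ∈ Subgroup.zpowers k) {u : F} {e : ℤ}
    (he : e = 1 ∨ e = -1 ∨ e = 2 ∨ e = -2) (hu : u = (k : F) ^ e) (Y : AddSubgroup F) (hY : ∀ t ∈ Y, u * t ∈ Y) :
    Y = ⊥ ∨ Y = ⊤ := by
  have hk' : ∀ x : Fˣ, x ∈ Subgroup.zpowers k⁻¹ := by
    intro x
    rw [Subgroup.zpowers_inv]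
    exact hk x
  rcases he with rfl | rfl | rfl | rfl
  · apply Cfsg.Agent.H136.FieldLem.eq_bot_or_top hk
    intro t ht
    have h2 := hY _ (hY _ ht)
    rwa [hu, zpow_one, ← mul_assoc, ← sq] at h2
  · apply Cfsg.Agent.H136.FieldLem.eq_bot_or_top hk'
    intro t ht
    have h2 := hY _ (hY _ ht)
    rwa [hu, zpow_neg, zpow_one, ← mul_assoc, ← sq, ← Units.val_inv_eq_inv_val] at h2
  · apply Cfsg.Agent.H136.FieldLem.eq_bot_or_top hk
    intro t ht
    have h2 := hY _ ht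
    rw [hu] at h2
    exact_mod_cast h2
  · apply Cfsg.Agent.H136.FieldLem.eq_bot_or_top hk'
    intro t ht
    have h2 := hY _ ht
    rw [hu, zpow_neg] at h2
    rw [Units.val_inv_eq_inv_val, inv_pow]
    exact_mod_cast h2

theorem gen_ne_one (hq : ∃ x : F, x ≠ 0 ∧ x ≠ 1) {k : Fˣ} (hk : ∀ x : Fˣ, x ∈ Subgroup.zpowers k) : (k : F) ≠ 1 := by
  intro h0
  obtain ⟨x, hx0, hx1⟩ := hq
  have hk' : k = 1 := Units.ext h0
  obtain ⟨n, hn⟩ := hk (Units.mk0 x hx0)
  have hn' : k ^ n = Units.mk0 x hx0 := hn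
  rw [hk', one_zpow] at hn'
  have := congrArg Units.val hn'
  exact hx1 this.symm

/-! ### two roots -/

/-- `h x_b(1) ∈ M` with `χ_h(b) = 1` -/
theorem split [Finite F] {M : Subgroup (MulAut ↥(D.group F))} {h : MulAut ↥(D.group F)} {χ : ℕ → F}
    (hh : ∀ s < D.nroots, χ s ≠ 0 ∧ ∀ t, h (xe hD s t) = xe hD s (χ s * t)) {b : ℕ} (hb : b < D.nroots) (hχb : χ b = 1)
    (hM : h * MulAut.conj (xe hD b 1) ∈ M) : h ∈ M ∧ MulAut.conj (xe hD b 1) ∈ M := by
  obtain ⟨p, hp⟩ := CharP.exists F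
  have hpp : Nat.Prime p := (CharP.char_is_prime_or_zero F p).resolve_right (CharP.char_ne_zero_of_finite F p)
  have hcomm : Commute h (MulAut.conj (xe hD b 1)) := by
    have := conj_conj h (xe hD b 1)
    rw [(hh b hb).2, hχb, one_mul, mul_inv_eq_iff_eq_mul] at this
    exact this
  have hN : h ^ Nat.card Fˣ = 1 := by
    apply ext_xe (hD := hD)
    intro s hs t
    have h1 : ∀ n : ℕ, (h ^ n) (xe hD s t) = xe hD s (χ s ^ n * t) := by
      intro n
      induction n with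
      | zero => rw [pow_zero, pow_zero, one_mul]; rfl
      | succ n ih => rw [pow_succ', MulAut.mul_apply, ih, (hh s hs).2, pow_succ', mul_assoc]
    have h2 : χ s ^ Nat.card Fˣ = 1 := by
      have := congrArg Units.val (pow_card_eq_one' (x := Units.mk0 (χ s) (hh s hs).1))
      rwa [Units.val_pow_eq_pow_val, Units.val_mk0, Units.val_one] at this
    rw [h1, h2, one_mul]
    rfl
  have hxp : (MulAut.conj (xe hD b (1 : F))) ^ p = 1 := by
    have h : ∀ n : ℕ, (xe hD b (1 : F)) ^ n = xe hD b (n : F) := by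
      intro n
      induction n with
      | zero => rw [pow_zero, Nat.cast_zero, xe_zero]
      | succ n ih => rw [pow_succ, ih, ← xe_add, Nat.cast_succ]
    rw [← map_pow, h, CharP.cast_eq_zero, xe_zero, map_one]
  have hco : Nat.Coprime (Nat.card Fˣ) p := by
    have : Fintype F := Fintype.ofFinite F
    rw [Nat.card_units, Nat.card_eq_fintype_card]
    have h3 : p ∣ Fintype.card F := (CharP.cast_eq_zero_iff F p _).1 (Nat.cast_card_eq_zero F)
    have h4 : 0 < Fintype.card F := Fintype.card_pos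
    refine Nat.Coprime.symm ((Nat.Prime.coprime_iff_not_dvd hpp).2 fun h5 => ?_)
    have h6 : p ∣ 1 := by
      have := Nat.dvd_sub h3 h5
      have e : Fintype.card F - (Fintype.card F - 1) = 1 := by omega
      rwa [e] at this
    exact hpp.one_lt.ne' (Nat.dvd_one.1 h6)
  exact mem_of_coprime hcomm hN hxp hco hM

/-- a nontrivial element of a root group is enough -/
theorem has_of_mem {M : Subgroup (MulAut ↥(D.group F))} {h : MulAut ↥(D.group F)} {b : ℕ} {u χb : F} (hu : u ≠ 0)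
    (hhb : ∀ t, h (xe hD b t) = xe hD b (χb * t)) (hM : h ∈ M) (hm : MulAut.conj (xe hD b u) ∈ M)
    (hirr : ∀ Y : AddSubgroup F, (∀ t ∈ Y, χb * t ∈ Y) → Y = ⊥ ∨ Y = ⊤) : Has hD (ofM M) b := by
  let C : AddSubgroup F :=
    { carrier := {t | MulAut.conj (xe hD b t) ∈ M}
      zero_mem' := by
        change MulAut.conj (xe hD b 0) ∈ M
        rw [xe_zero, map_one]
        exact one_mem _
      add_mem' := by
        intro s t hs ht
        change MulAut.conj (xe hD b (s + t)) ∈ M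
        rw [xe_add, map_mul]
        exact mul_mem hs ht
      neg_mem' := by
        intro s hs
        change MulAut.conj (xe hD b (-s)) ∈ M
        rw [xe_neg, map_inv]
        exact inv_mem hs }
  rw [has_iff]
  rcases hirr C (fun t ht => by
    change MulAut.conj (xe hD b (χb * t)) ∈ M
    rw [← hhb, ← conj_conj]
    exact M.mul_mem (M.mul_mem hM ht) (M.inv_mem hM)) with h5 | h5
  · exfalso
    have h6 : u ∈ C := hm
    rw [h5, AddSubgroup.mem_bot] at h6
    exact hu h6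
  · intro t
    have h6 : t ∈ C := by rw [h5]; exact AddSubgroup.mem_top t
    exact h6

/-- **Two roots, a given torus element.** -/
theorem lift_two' [Finite F] {ξ ψ : MulAut ↥(D.group F)} {χ : ℕ → F}
    (hh : ∀ s < D.nroots, χ s ≠ 0 ∧ ∀ t, ξ (xe hD s t) = xe hD s (χ s * t)) {P : ℕ → ℕ} {c : ℕ → F}
    {σ : ℕ → (F ≃+* F)} (hψ : Mono hD ψ P c σ) {l : List ℕ} (hl : ∀ i ∈ l, i < D.rank) {W : ℕ → ℕ}
    (hW : ∀ s < D.nroots, W s = wact D l (P s)) (hW' : ∀ s < D.nroots, ∃ s' < D.nroots, W s' = s)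
    {a a' b b' : ℕ} (ha : a < D.nroots) (ha' : a' < D.nroots) (haa : W a' = a) (hb : b < D.nroots)
    (hb' : b' < D.nroots) (hbb : W b' = b)
    (ia : ∀ Y : AddSubgroup F, (∀ t ∈ Y, χ a * t ∈ Y) → Y = ⊥ ∨ Y = ⊤) (h1 : χ a ≠ 1) (h1' : χ a' ≠ 1)
    (hχb : χ b = 1) (ib : ∀ Y : AddSubgroup F, (∀ t ∈ Y, χ b' * t ∈ Y) → Y = ⊥ ∨ Y = ⊤)
    {steps : List (ℕ × ℕ)} (hrun : run D W ((1 <<< a) ||| (1 <<< b')) steps = 2 ^ D.nroots - 1) :
    Lift (NI D F) ξ ψ := by
  obtain ⟨c', hc'⟩ := mono_we (F := F) (hD := hD) hl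
  set v := MulAut.conj (we hD F l) * ψ with hv
  have hvm : Mono hD v W (fun s => c' (P s) * (1 : F ≃+* F) (c s)) fun s => 1 * σ s :=
    (hc'.mul hψ).congr (fun s hs => hW s hs) (fun _ _ => rfl) fun _ _ => rfl
  apply lift_of (x' := ξ * MulAut.conj (xe hD b 1)) (y' := MulAut.conj (xe hD a 1) * v)
  · exact ⟨xe hD b 1, by group⟩
  · have e : MulAut.conj (xe hD a 1) * v = MulAut.conj (xe hD a 1 * we hD F l) * ψ := by
      rw [hv, map_mul, mul_assoc]
    rw [e]
    exact inv_mul_conj_mul _ _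
  · set M := Subgroup.closure {ξ * MulAut.conj (xe hD b 1), MulAut.conj (xe hD a 1) * v} with hM
    have m1 : ξ * MulAut.conj (xe hD b 1) ∈ M := Subgroup.subset_closure (by simp only [_root_.Set.mem_insert_iff, _root_.Set.mem_singleton_iff, _root_.true_or])
    have m2 : MulAut.conj (xe hD a 1) * v ∈ M := Subgroup.subset_closure (by simp only [_root_.Set.mem_insert_iff, _root_.Set.mem_singleton_iff, _root_.or_true])
    obtain ⟨m3, m4⟩ := split hh hb hχb m1
    obtain ⟨h5, h6⟩ := core hh hvm hW' m3 m2 ha ha' haa ia h1 h1'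
    have h7 : Has hD (ofM M) b' := by
      obtain ⟨u, hu, h8⟩ : ∃ u : F, u ≠ 0 ∧ v (xe hD b' u) = xe hD b 1 := by
        have h9 := hvm.ne b' hb'
        refine ⟨(((1 : F ≃+* F) * σ b').symm ((c' (P b') * (1 : F ≃+* F) (c b'))⁻¹)), ?_, ?_⟩
        · rw [Ne, EmbeddingLike.map_eq_zero_iff]
          exact inv_ne_zero h9
        · rw [hvm.eq b' hb', hbb, RingEquiv.apply_symm_apply, mul_inv_cancel₀ h9]
      refine has_of_mem hu (hh b' hb').2 m3 ?_ ib
      have h9 := M.mul_mem (M.mul_mem (M.inv_mem h6) m4) h6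
      rw [conj_conj', ← h8, MulAut.inv_apply_self] at h9
      exact h9
    refine inn_le_of_run hvm h6 (S := (1 <<< a) ||| (1 <<< b')) ?_ hrun
    intro k hk
    rcases testBit_insert hk with h | rfl
    · rw [Nat.one_shiftLeft, Nat.testBit_two_pow] at h
      have : a = k := by simpa using h
      exact this ▸ h5
    · exact h7

/-! ### the field with two elements -/

theorem has_of_two (hF : ∀ x : F, x = 0 ∨ x = 1) {M : Subgroup (MulAut ↥(D.group F))} {r : ℕ}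
    (h : MulAut.conj (xe hD r 1) ∈ M) : Has hD (ofM M) r := by
  rw [has_iff]
  intro t
  rcases hF t with rfl | rfl
  · rw [xe_zero, map_one]; exact M.one_mem
  · exact h

/-- **The field with two elements, `x` inner.** -/
theorem lift_F2 (hF : ∀ x : F, x = 0 ∨ x = 1) {ψ : MulAut ↥(D.group F)} {P : ℕ → ℕ} {c : ℕ → F}
    {σ : ℕ → (F ≃+* F)} (hψ : Mono hD ψ P c σ) {l : List ℕ} (hl : ∀ i ∈ l, i < D.rank) {W : ℕ → ℕ}
    (hW : ∀ s < D.nroots, W s = wact D l (P s)) {a : ℕ}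
    {steps : List (ℕ × ℕ)} (hrun : run D W (1 <<< a) steps = 2 ^ D.nroots - 1)
    {x : MulAut ↥(D.group F)} (hx : x ∈ NI D F) : Lift (NI D F) x ψ := by
  obtain ⟨c', hc'⟩ := mono_we (F := F) (hD := hD) hl
  set v := MulAut.conj (we hD F l) * ψ with hv
  have hvm : Mono hD v W (fun s => c' (P s) * (1 : F ≃+* F) (c s)) fun s => 1 * σ s :=
    (hc'.mul hψ).congr (fun s hs => hW s hs) (fun _ _ => rfl) fun _ _ => rfl
  apply lift_of (x' := MulAut.conj (xe hD a 1)) (y' := v)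
  · exact (NI D F).mul_mem ((NI D F).inv_mem hx) ⟨_, rfl⟩
  · rw [hv]
    exact inv_mul_conj_mul _ _
  · set M := Subgroup.closure {MulAut.conj (xe hD a 1), v} with hM
    have m1 : MulAut.conj (xe hD a 1) ∈ M := Subgroup.subset_closure (by simp)
    have m2 : v ∈ M := Subgroup.subset_closure (by simp)
    refine inn_le_of_run hvm m2 (S := 1 <<< a) ?_ hrun
    intro r hr
    rw [Nat.one_shiftLeft, Nat.testBit_two_pow] at hr
    have : a = r := by simpa using hr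
    exact this ▸ has_of_two hF m1

/-! ### the automorphisms without field part -/

theorem fl_mul_inv (τ : F ≃+* F) : (fl D τ)⁻¹ = fl D τ⁻¹ := by
  rw [inv_eq_iff_mul_eq_one, ← Cfsg.Agent.CpAut.RgdUntw.fld_mul, mul_inv_cancel, Cfsg.Agent.CpAut.RgdUntw.fld_one]

end Cfsg.Agent.H134.Cos
end

-- part: H134/Cos/Tabs
section
/-!
# Diagram symmetries as permutations of the roots (helper134, for S4180)

* `PE6`, `PF4`, `PG2`, `PB2`, `PD4 k` : the extensions of the diagram symmetries to the roots (`Ext`);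
* `KX`, `lift_of_KX` : reduction to `x` without field part, `KX` = inner times monomial along a diagram symmetry;
* `full_of` : every automorphism is in `KX` times a field automorphism if the diagram symmetries preserve the Cartan
  integers.
-/

set_option autoImplicit false
set_option linter.unusedSectionVars false

namespace Cfsg.Agent.H134.Cos

open scoped Pointwise
open Cfsg Cfsg.Lie Cfsg.Agent.ChevalleyStructure Cfsg.Agent.ChevalleyStructure.Elts
  Cfsg.Agent.ChevalleyStructure.NConj Cfsg.Agent.ChevalleyStructure.BNChev Cfsg.Agent.S1042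
  Cfsg.Agent.Schreier.ChevLocal Cfsg.Agent.H70.AutFix Cfsg.Agent.H70.ChevTab Cfsg.Agent.H70.ChevFix
  Cfsg.Agent.H70.ChevField Cfsg.Agent.H70.OutCount Cfsg.Agent.H135.TwoG
open Cfsg.Agent.H891.Gen (Lift)

universe u

/-! ### the tables -/

/-! ### generalities on `Ext` -/

section ext

variable {D : ChevalleyDatum}

theorem Ext.one : Ext D 1 fun s => s := ⟨fun _ => rfl, fun _ hs => hs, fun _ _ _ => rfl⟩

theorem Ext.mul {π π' : Equiv.Perm (Fin D.rank)} {P P' : ℕ → ℕ} (h : Ext D π P) (h' : Ext D π' P') :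
    Ext D (π * π') fun s => P (P' s) := by
  refine ⟨fun i => ?_, fun s hs => h.2.1 _ (h'.2.1 s hs), fun i s hs => ?_⟩
  · change P (P' _) = _
    rw [h'.1, h.1]
    rfl
  · change P (P' _) = _
    rw [h'.2.2 i s hs, h.2.2 _ _ (h'.2.1 s hs)]
    rfl

/-- the extension is unique -/
theorem Ext.unique (hD : InList D) {π : Equiv.Perm (Fin D.rank)} {P P' : ℕ → ℕ} (h : Ext D π P) (h' : Ext D π P') :
    ∀ s < D.nroots, P s = P' s := by
  have key : ∀ s < D.nroots, s < D.nroots ∧ P s = P' s := by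
    refine Reach.reach hD (fun s => s < D.nroots ∧ P s = P' s) ?_ ?_
    · intro i hi
      exact ⟨simple_lt hD hi, by rw [h.1 ⟨i, hi⟩, h'.1 ⟨i, hi⟩]⟩
    · rintro i hi s hs ⟨-, e⟩
      exact ⟨Reach.reflect_lt hD hi hs, by rw [h.2.2 ⟨i, hi⟩ s hs, h'.2.2 ⟨i, hi⟩ s hs, e]⟩
  exact fun s hs => (key s hs).2

end ext

variable {D : ChevalleyDatum} {hD : InList D} {F : Type u} [Field F]

/-- the symmetry preserves the Cartan integers -/
def Sym (D : ChevalleyDatum) (π : Equiv.Perm (Fin D.rank)) : Prop :=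
  ∀ i j : Fin D.rank, D.cartan (π i) (D.simple (π j)) = D.cartan i (D.simple j)

instance (D : ChevalleyDatum) (π : Equiv.Perm (Fin D.rank)) : Decidable (Sym D π) := by
  unfold Sym; infer_instance

theorem Sym.one : Sym D 1 := fun _ _ => rfl

/-- **The automorphisms along a symmetry preserving the Cartan integers.** -/
theorem mono_of_sym {ψ : MulAut ↥(D.group F)} {π : Equiv.Perm (Fin D.rank)} (h : Perm D F ψ π) (hs : Sym D π)
    {P : ℕ → ℕ} (hP : Ext D π P) : ∃ c τ, Mono hD ψ P c fun _ => τ := by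
  obtain ⟨c, σ, hc, h1, h2, h3⟩ := exists_field hD h
  obtain ⟨τ, hτ⟩ := sigma_eq hD (σ := σ) fun i j a ha => by rw [h3 i j a ha, hs]
  obtain ⟨c', σ', hm, hσ⟩ := mono_of_simple (hD := hD) hc h1 h2 hP
  refine ⟨c', τ, hm.congr (fun _ _ => rfl) (fun _ _ => rfl) fun s hs => ?_⟩
  obtain ⟨i, hi⟩ := hσ s hs
  rw [hi, hτ]

/-- a `Mono` along a symmetry is a `Perm` -/
theorem perm_of_mono {ψ : MulAut ↥(D.group F)} {π : Equiv.Perm (Fin D.rank)} {P : ℕ → ℕ} (hP : Ext D π P)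
    (hPn : ∀ i : Fin D.rank, P (D.neg (D.simple i)) = D.neg (D.simple (π i))) {c : ℕ → F}
    {σ : ℕ → (F ≃+* F)} (h : Mono hD ψ P c σ) : Perm D F ψ π := by
  have key : ∀ s < D.nroots, Function.Surjective fun t : F => c s * σ s t := fun s hs u =>
    ⟨(σ s).symm ((c s)⁻¹ * u), by
      change c s * σ s ((σ s).symm ((c s)⁻¹ * u)) = u
      rw [RingEquiv.apply_symm_apply, ← mul_assoc, mul_inv_cancel₀ (h.ne s hs), one_mul]⟩
  refine ⟨fun i => ?_, fun i => ?_⟩
  · rw [← hP.1]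
    exact Cfsg.Agent.H69.OutGF.smul_XX hD (key _ (simple_lt hD i.2)) (h.eq _ (simple_lt hD i.2))
  · rw [← hPn]
    exact Cfsg.Agent.H69.OutGF.smul_XX hD (key _ (neg_simple_lt hD i.2)) (h.eq _ (neg_simple_lt hD i.2))

/-- negatives -/
theorem Ext.neg (hD : InList D) {π : Equiv.Perm (Fin D.rank)} {P : ℕ → ℕ} (h : Ext D π P) (i : Fin D.rank) :
    P (D.neg (D.simple i)) = D.neg (D.simple (π i)) := by
  have h1 : ∀ i : ℕ, D.reflectRoot i (D.simple i) = D.neg (D.simple i) := fun i => if_pos rfl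
  have h2 := h.2.2 i _ (simple_lt hD i.2)
  rw [h1, h.1, h1] at h2
  exact h2

/-! ### the automorphisms without field part -/

variable (hD F) in
/-- inner times monomial along a diagram symmetry, without field part -/
def KX [Finite F] : Subgroup (MulAut ↥(D.group F)) where
  carrier := {θ | ∃ g ψ π P c, θ = MulAut.conj g * ψ ∧ Ext D π P ∧ Mono hD ψ P c fun _ => 1}
  one_mem' := ⟨1, 1, 1, _, _, by simp, Ext.one, mono_one⟩
  mul_mem' := by
    rintro _ _ ⟨g, ψ, π, P, c, rfl, hP, h⟩ ⟨g', ψ', π', P', c', rfl, hP', h'⟩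
    refine ⟨g * ψ g', ψ * ψ', π * π', _, _, ?_, hP.mul hP', (h.mul h').congr (fun _ _ => rfl) (fun _ _ => rfl) fun _ _ => rfl⟩
    rw [map_mul, ← conj_conj]
    group
  inv_mem' := by
    intro θ hθ
    have hm : ∀ {θ θ' : MulAut ↥(D.group F)}, (∃ g ψ π P c, θ = MulAut.conj g * ψ ∧ Ext D π P ∧ Mono hD ψ P c fun _ => 1) →
        (∃ g ψ π P c, θ' = MulAut.conj g * ψ ∧ Ext D π P ∧ Mono hD ψ P c fun _ => 1) →
        ∃ g ψ π P c, θ * θ' = MulAut.conj g * ψ ∧ Ext D π P ∧ Mono hD ψ P c fun _ => 1 := by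
      rintro _ _ ⟨g, ψ, π, P, c, rfl, hP, h⟩ ⟨g', ψ', π', P', c', rfl, hP', h'⟩
      refine ⟨g * ψ g', ψ * ψ', π * π', _, _, ?_, hP.mul hP', (h.mul h').congr (fun _ _ => rfl) (fun _ _ => rfl) fun _ _ => rfl⟩
      rw [map_mul, ← conj_conj]
      group
    have hpow : ∀ n : ℕ, ∃ g ψ π P c, θ ^ n = MulAut.conj g * ψ ∧ Ext D π P ∧ Mono hD ψ P c fun _ => 1 := by
      intro n
      induction n with
      | zero => exact ⟨1, 1, 1, _, _, by simp, Ext.one, mono_one⟩
      | succ n ih => rw [pow_succ]; exact hm ih hθ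
    have hfin : Finite (MulAut ↥(D.group F)) := inferInstance
    have h1 : θ⁻¹ = θ ^ (orderOf θ - 1) := by
      rw [inv_eq_iff_mul_eq_one, ← pow_succ', Nat.sub_add_cancel (orderOf_pos θ), pow_orderOf_eq_one]
    rw [h1]
    exact hpow _

/-- the elements of `KX` -/
theorem exists_of_mem_KX [Finite F] {θ : MulAut ↥(D.group F)} (h : θ ∈ KX hD F) :
    ∃ g ψ π P c, θ = MulAut.conj g * ψ ∧ Ext D π P ∧ (Mono hD ψ P c fun _ => 1) ∧ Perm D F ψ π := by
  obtain ⟨g, ψ, π, P, c, h1, h2, h3⟩ := h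
  exact ⟨g, ψ, π, P, c, h1, h2, h3, perm_of_mono h2 (h2.neg hD) h3⟩

theorem fl_conj_mem_KX [Finite F] (τ : F ≃+* F) {θ : MulAut ↥(D.group F)} (h : θ ∈ KX hD F) :
    fl D τ * θ * (fl D τ)⁻¹ ∈ KX hD F := by
  obtain ⟨g, ψ, π, P, c, rfl, hP, h⟩ := h
  refine ⟨fl D τ g, fl D τ * ψ * fl D τ⁻¹, π, P, fun s => τ (c s), ?_, hP, ?_⟩
  · rw [← conj_conj, ← fl_mul_inv]
    group
  · refine ((mono_fl τ).mul h |>.mul (mono_fl τ⁻¹)).congr (fun _ _ => rfl) (fun s _ => ?_) fun s _ => ?_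
    · simp
    · apply RingEquiv.ext
      intro t
      simp

/-- **Every automorphism is in `KX` times a field automorphism.** -/
theorem full_of [Finite F] (h : ∀ π ∈ realised hD F, Sym D π ∧ ∃ P, Ext D π P) (θ : MulAut ↥(D.group F)) :
    ∃ κ ∈ KX hD F, ∃ τ, θ = κ * fl D τ := by
  obtain ⟨g, ψ, π, rfl, hπ⟩ := exists_perm_form hD θ
  obtain ⟨hs, P, hP⟩ := h π ⟨ψ, hπ⟩
  obtain ⟨c, τ, hm⟩ := mono_of_sym (hD := hD) hπ hs hP
  refine ⟨MulAut.conj g * (ψ * fl D τ⁻¹), ⟨g, ψ * fl D τ⁻¹, π, P, c, rfl, hP, ?_⟩, τ, ?_⟩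
  · refine (hm.mul (mono_fl τ⁻¹)).congr (fun _ _ => rfl) (fun s _ => ?_) fun s _ => ?_
    · rw [map_one, mul_one]
    · exact (mul_inv_cancel τ).symm
  · rw [← fl_mul_inv]
    group

/-- **Reduction to `x` without field part.** -/
theorem lift_of_KX [Finite F] (hfull : ∀ θ : MulAut ↥(D.group F), ∃ κ ∈ KX hD F, ∃ τ, θ = κ * fl D τ)
    (h : ∀ x y, x ∈ KX hD F → Lift (NI D F) x y) (x y : MulAut ↥(D.group F)) : Lift (NI D F) x y := by
  have hcyc : IsCyclic (F ≃+* F) := Cfsg.Agent.LieRecognition.FieldSemilinear.isCyclic_ringAut F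
  have hn : (KX hD F).Normal := by
    constructor
    intro θ hθ η
    obtain ⟨κ, hκ, τ, rfl⟩ := hfull η
    have h1 := (KX hD F).mul_mem ((KX hD F).mul_mem hκ (fl_conj_mem_KX τ hθ)) ((KX hD F).inv_mem hκ)
    have e : κ * fl D τ * θ * (κ * fl D τ)⁻¹ = κ * (fl D τ * θ * (fl D τ)⁻¹) * κ⁻¹ := by group
    rw [e]
    exact h1
  let f : (F ≃+* F) →* (MulAut ↥(D.group F)) ⧸ (KX hD F) :=
    (QuotientGroup.mk' (KX hD F)).comp (MonoidHom.mk' (fun τ => fl D τ) Cfsg.Agent.CpAut.RgdUntw.fld_mul)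
  have hf : Function.Surjective f := by
    intro u
    obtain ⟨θ, rfl⟩ := QuotientGroup.mk_surjective u
    obtain ⟨κ, hκ, τ, rfl⟩ := hfull θ
    refine ⟨τ, ?_⟩
    change ((fl D τ : MulAut ↥(D.group F)) : (MulAut ↥(D.group F)) ⧸ (KX hD F)) = _
    rw [QuotientGroup.mk_mul, (QuotientGroup.eq_one_iff κ).2 hκ, one_mul]
  have hc : IsCyclic ((MulAut ↥(D.group F)) ⧸ (KX hD F)) := isCyclic_of_surjective f hf
  have hfin : Finite (MulAut ↥(D.group F)) := inferInstance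
  refine lift_of_cyclic (QuotientGroup.mk' (KX hD F)) (fun x y hx => h x y ?_) x y
  exact (QuotientGroup.eq_one_iff x).1 hx

/-- the symmetries of `D₄`: 1, (2 3), (0 2), (0 2 3), (0 3 2), (0 3) on the outer nodes 0, 2, 3 -/
def piD4 : List (Equiv.Perm (Fin 4)) :=
  [1, Equiv.swap (2 : Fin 4) 3, Equiv.swap (0 : Fin 4) 2, Equiv.swap (0 : Fin 4) 2 * Equiv.swap (2 : Fin 4) 3, Equiv.swap (0 : Fin 4) 3 * Equiv.swap (2 : Fin 4) 3, Equiv.swap (0 : Fin 4) 3]

end Cfsg.Agent.H134.Cos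
end

-- part: H134/Cos/Exc
section
/-!
# `Out` of `G₂(q)`, `F₄(q)` is cyclic (helper134, for S4180)

* `diag_inner` : all diagonal automorphisms are inner if the Cartan matrix is unimodular;
* `lift_F4`, `lift_G2` : it is enough to treat the pairs `(x, y)` with `x` inner and `y` monomial, where the permutation
  of the roots of `y` is the identity or, in characteristic 2, resp. 3, the flip.
-/

set_option autoImplicit false
set_option linter.unusedSectionVars false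

namespace Cfsg.Agent.H134.Cos

open scoped Pointwise
open Cfsg Cfsg.Lie Cfsg.Agent.ChevalleyStructure Cfsg.Agent.ChevalleyStructure.Elts
  Cfsg.Agent.ChevalleyStructure.NConj Cfsg.Agent.ChevalleyStructure.BNChev Cfsg.Agent.S1042
  Cfsg.Agent.Schreier.ChevLocal Cfsg.Agent.H70.AutFix Cfsg.Agent.H70.ChevTab Cfsg.Agent.H70.ChevFix
  Cfsg.Agent.H70.ChevField Cfsg.Agent.H70.OutCount Cfsg.Agent.H135.TwoG Cfsg.Agent.H69.OutGF
open Cfsg.Agent.H891.Gen (Lift)

universe u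

variable {D : ChevalleyDatum} {hD : InList D} {F : Type u} [Field F]

/-! ### diagonal automorphisms -/

variable (hD F) in
/-- the element `∏_{j < k} h_j(c ^ n_j)` -/
def tq (n : ℕ → ℤ) (c : F) : ℕ → ↥(D.group F)
  | 0 => 1
  | k + 1 => tq n c k * he hD (D.simple k) (c ^ n k)

/-- the exponents -/
def prs (D : ChevalleyDatum) (n : ℕ → ℤ) (s : ℕ) : ℕ → ℤ
  | 0 => 0
  | k + 1 => prs D n s k + n k * D.cartan k s

theorem mono_tq {n : ℕ → ℤ} {c : F} (hc : c ≠ 0) {k : ℕ} (hk : k ≤ D.rank) :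
    Mono hD (MulAut.conj (tq hD F n c k)) (fun s => s) (fun s => c ^ prs D n s k) fun _ => 1 := by
  induction k with
  | zero =>
    have e : MulAut.conj (tq hD F n c 0) = 1 := by
      change MulAut.conj (1 : ↥(D.group F)) = 1
      rw [map_one]
    rw [e]
    exact mono_one.congr (fun _ _ => rfl) (fun s _ => zpow_zero c) fun _ _ => rfl
  | succ k ih =>
    have e : MulAut.conj (tq hD F n c (k + 1)) = MulAut.conj (tq hD F n c k) * MulAut.conj (he hD (D.simple k) (c ^ n k)) := by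
      rw [← map_mul]
      rfl
    rw [e]
    refine ((ih (by omega)).mul (mono_he (hD := hD) (by omega) (zpow_ne_zero (n k) hc))).congr (fun _ _ => rfl)
      (fun s _ => ?_) fun _ _ => rfl
    change c ^ (prs D n s k + n k * D.cartan k s) = c ^ prs D n s k * (c ^ n k) ^ D.cartan k s
    rw [zpow_add₀ hc, zpow_mul]

/-- the check: `N` is the inverse of the Cartan matrix -/
def Uni (D : ChevalleyDatum) (N : ℕ → ℕ → ℤ) : Prop :=
  ∀ i < D.rank, ∀ k < D.rank, prs D (N i) (D.simple k) D.rank = (if i = k then 1 else 0) ∧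
    prs D (N i) (D.neg (D.simple k)) D.rank = (if i = k then -1 else 0)

instance (D : ChevalleyDatum) (N : ℕ → ℕ → ℤ) : Decidable (Uni D N) := by unfold Uni; infer_instance

/-! ### the reduction -/

/-! ### `F₄` and `G₂` -/

end Cfsg.Agent.H134.Cos
end

-- part: H237/D4C/Tab
section
/-!
# Tables for `D₄` (helper237, for S4180)

The index `j < 6` runs through the symmetries of the Dynkin diagram of `D₄` (`piD4`): the identity, `(2 3)`, `(0 2)`,
the two rotations (`3`, `4`) and `(0 3)`.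
-/

set_option autoImplicit false
set_option maxRecDepth 4000

namespace Cfsg.Agent.H237.D4C

open Cfsg.Lie Cfsg.Agent.ChevalleyStructure.Elts Cfsg.Agent.H134.Cos Cfsg.Agent.H135.TwoG
open Cfsg.Agent.H70.RootCoeffTab

theorem hD4 : InList chevD4 := by simp [InList]

/-- the symmetries -/
def sym (j : ℕ) : Equiv.Perm (Fin chevD4.rank) := piD4.getD j 1

/-- the symmetries as permutations of the roots -/
def PTab : List (List ℕ) :=
  [[0, 1, 2, 3, 4, 5, 6, 7, 8, 9, 10, 11, 12, 13, 14, 15, 16, 17, 18, 19, 20, 21, 22, 23],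
   [0, 1, 3, 2, 4, 5, 6, 8, 7, 9, 11, 10, 13, 12, 14, 16, 15, 17, 18, 19, 21, 20, 22, 23],
   [0, 1, 2, 6, 7, 10, 3, 4, 8, 9, 5, 11, 12, 18, 14, 15, 19, 20, 13, 16, 17, 21, 22, 23],
   [0, 1, 6, 2, 7, 10, 3, 8, 4, 9, 11, 5, 18, 12, 14, 19, 15, 20, 13, 16, 21, 17, 22, 23],
   [0, 1, 3, 6, 8, 11, 2, 4, 7, 9, 5, 10, 13, 18, 14, 16, 19, 21, 12, 15, 17, 20, 22, 23],
   [0, 1, 6, 3, 8, 11, 2, 7, 4, 9, 10, 5, 18, 13, 14, 19, 16, 21, 12, 15, 20, 17, 22, 23]]

/-- the symmetries as permutations of the roots -/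
def PJ (j s : ℕ) : ℕ := (PTab.getD j []).getD s 0

theorem ext_PJ : ∀ j < 6, _root_.Cfsg.Agent.H134.Cos.Ext chevD4 (sym j) (PJ j) := by decide +kernel

/-- the words -/
def wJ (j : ℕ) : List ℕ := ([[], [1, 2, 0], [1, 3, 0], [0, 1], [0, 1], [1, 2, 0]] : List (List ℕ)).getD j []

/-- the permutations of the roots, word times symmetry -/
def WTab : List (List ℕ) :=
  [[0, 1, 2, 3, 4, 5, 6, 7, 8, 9, 10, 11, 12, 13, 14, 15, 16, 17, 18, 19, 20, 21, 22, 23],
   [1, 11, 6, 14, 10, 19, 3, 0, 5, 2, 8, 16, 7, 15, 21, 18, 23, 20, 4, 13, 9, 17, 12, 22],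
   [1, 10, 6, 2, 0, 7, 14, 11, 5, 3, 19, 15, 8, 4, 20, 18, 12, 9, 16, 23, 21, 17, 13, 22],
   [6, 0, 1, 7, 10, 2, 8, 11, 18, 19, 3, 9, 14, 20, 4, 5, 12, 15, 21, 13, 16, 22, 23, 17],
   [6, 0, 8, 1, 11, 3, 7, 18, 10, 19, 9, 2, 21, 14, 4, 13, 5, 16, 20, 12, 22, 15, 23, 17],
   [1, 11, 3, 6, 0, 8, 14, 5, 10, 2, 16, 19, 4, 7, 21, 13, 18, 9, 15, 23, 17, 20, 12, 22]]

/-- the permutations of the roots, word times symmetry -/
def WJ (j s : ℕ) : ℕ := (WTab.getD j []).getD s 0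

/-- the roots `a`, fixed by all symmetries -/
def aJ (j : ℕ) : ℕ := ([0, 1, 1, 0, 0, 1] : List ℕ).getD j 0

/-- the preimages of the roots `a` -/
def aJ' (j : ℕ) : ℕ := ([0, 0, 0, 1, 1, 0] : List ℕ).getD j 0

/-- the roots `b` -/
def bJ (j : ℕ) : ℕ := ([0, 4, 4, 5, 5, 4] : List ℕ).getD j 0

/-- the preimages of the roots `b` -/
def bJ' (j : ℕ) : ℕ := ([0, 18, 13, 15, 16, 12] : List ℕ).getD j 0

/-- closure steps from `a` -/
def sATab : List (List (ℕ × ℕ)) :=
  [[],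
   [(1, 1), (11, 11), (16, 16), (23, 23), (22, 22), (12, 12), (7, 7), (0, 16), (3, 3), (14, 14), (21, 21), (17, 17), (20,
  20), (9, 9), (2, 2), (0, 17), (4, 4), (10, 10), (8, 8), (5, 5), (19, 19), (13, 13), (15, 15)],
   [(1, 1), (10, 10), (19, 19), (23, 23), (22, 22), (13, 13), (4, 4), (0, 19), (6, 6), (14, 14), (20, 20), (21, 21), (17,
  17), (9, 9), (3, 3), (0, 20), (7, 7), (11, 11), (15, 15), (18, 18), (16, 16), (12, 12), (8, 8)],
   [(0, 0), (6, 6), (8, 8), (18, 18), (21, 21), (22, 22), (23, 23), (17, 17), (15, 15), (5, 5), (2, 2), (0, 17), (4, 4),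
  (10, 10), (3, 3), (7, 7), (11, 11), (9, 9), (19, 19), (13, 13), (20, 20), (16, 16), (12, 12)],
   [(0, 0), (6, 6), (7, 7), (18, 18), (20, 20), (22, 22), (23, 23), (17, 17), (16, 16), (5, 5), (3, 3), (0, 17), (4, 4),
  (11, 11), (2, 2), (8, 8), (10, 10), (9, 9), (19, 19), (12, 12), (21, 21), (15, 15), (13, 13)],
   [(1, 1), (11, 11), (19, 19), (23, 23), (22, 22), (12, 12), (4, 4), (0, 19), (6, 6), (14, 14), (21, 21), (20, 20), (17,
  17), (9, 9), (2, 2), (0, 20), (7, 7), (5, 5), (8, 8), (10, 10), (16, 16), (18, 18), (15, 15)]]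

/-- closure steps from `b` -/
def sBTab : List (List (ℕ × ℕ)) :=
  [[],
   [(4, 4), (10, 10), (8, 8), (5, 5), (19, 19), (13, 13), (15, 15), (4, 10), (2, 2), (6, 6), (3, 3), (14, 14), (21, 21),
  (17, 17), (20, 20), (2, 8), (0, 0), (1, 1), (11, 11), (16, 16), (23, 23), (22, 22), (12, 12)],
   [(4, 4), (0, 0), (1, 1), (10, 10), (19, 19), (23, 23), (22, 22), (0, 19), (6, 6), (14, 14), (20, 20), (21, 21), (17,
  17), (9, 9), (3, 3), (0, 20), (7, 7), (11, 11), (15, 15), (18, 18), (16, 16), (12, 12), (8, 8)],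
   [(5, 5), (2, 2), (1, 1), (0, 0), (6, 6), (8, 8), (18, 18), (21, 21), (22, 22), (23, 23), (17, 17), (0, 17), (4, 4),
  (10, 10), (3, 3), (7, 7), (11, 11), (9, 9), (19, 19), (13, 13), (20, 20), (16, 16), (12, 12)],
   [(5, 5), (3, 3), (1, 1), (0, 0), (6, 6), (7, 7), (18, 18), (20, 20), (22, 22), (23, 23), (17, 17), (0, 17), (4, 4),
  (11, 11), (2, 2), (8, 8), (10, 10), (9, 9), (19, 19), (12, 12), (21, 21), (15, 15), (13, 13)],
   [(4, 4), (0, 0), (1, 1), (11, 11), (19, 19), (23, 23), (22, 22), (0, 19), (6, 6), (14, 14), (21, 21), (20, 20), (17,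
  17), (9, 9), (2, 2), (0, 20), (7, 7), (5, 5), (8, 8), (10, 10), (16, 16), (18, 18), (15, 15)]]

/-- closure steps from `a` -/
def sA (j : ℕ) : List (ℕ × ℕ) := sATab.getD j []

/-- closure steps from `b` -/
def sB (j : ℕ) : List (ℕ × ℕ) := sBTab.getD j []

theorem wJ_lt : ∀ j < 6, ∀ i ∈ wJ j, i < chevD4.rank := by decide +kernel

theorem WJ_eq : ∀ j < 6, ∀ s < chevD4.nroots, WJ j s = wact chevD4 (wJ j) (PJ j s) := by decide +kernel

theorem WJ_surj : ∀ j < 6, ∀ s < chevD4.nroots, ∃ s' < chevD4.nroots, WJ j s' = s := by (open scoped Cfsg.Agent.ChevFast.Lin in decide +kernel)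

theorem aJ_lt : ∀ j < 6, aJ j < chevD4.nroots ∧ aJ' j < chevD4.nroots ∧ bJ j < chevD4.nroots ∧
    bJ' j < chevD4.nroots := by decide +kernel

theorem WJ_aJ : ∀ j < 6, j ≠ 0 → WJ j (aJ' j) = aJ j ∧ WJ j (bJ' j) = bJ j := by decide +kernel

theorem PJ_aJ : ∀ i < 6, ∀ j < 6, PJ i (aJ j) = aJ j ∧ PJ i (aJ' j) = aJ' j := by decide +kernel

theorem run_sA : ∀ j < 6, j ≠ 0 → run chevD4 (WJ j) (1 <<< aJ j) (sA j) = 2 ^ chevD4.nroots - 1 := by decide +kernel

theorem run_sB : ∀ j < 6, j ≠ 0 → run chevD4 (WJ j) (1 <<< bJ j) (sB j) = 2 ^ chevD4.nroots - 1 := by decide +kernel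

theorem PJ_one : ∀ s < chevD4.nroots, PJ 0 s = s := by decide +kernel

/-- inverses of the symmetries -/
def iv (j : ℕ) : ℕ := ([0, 1, 2, 4, 3, 5] : List ℕ).getD j 0

/-- products of the symmetries -/
def mT (i j : ℕ) : ℕ := (([[0, 1, 2, 3, 4, 5], [1, 0, 4, 5, 2, 3], [2, 3, 0, 1, 5, 4], [3, 2, 5, 4, 0, 1], [4, 5, 1, 0, 3, 2], [5, 4, 3, 2, 1, 0]] : List (List ℕ)).getD i []).getD j 0

theorem iv_lt : ∀ i < 6, iv i < 6 := by decide +kernel

theorem PJ_iv : ∀ i < 6, ∀ s < chevD4.nroots, PJ i (PJ (iv i) s) = s ∧ PJ (iv i) (PJ i s) = s := by decide +kernel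

theorem PJ_mT : ∀ i < 6, ∀ j < 6, ∀ s < chevD4.nroots, PJ i (PJ j s) = PJ (mT i j) s := by decide +kernel

/-- the dual basis of `a`, `a'` -/
def n1 (j i : ℕ) : ℤ := ((if aJ j = 1 then [-1, 0, 0, 0] else [-1, -1, 0, 0] : List ℤ)).getD i 0

/-- the dual basis of `a`, `a'` -/
def n2 (j i : ℕ) : ℤ := ((if aJ j = 1 then [-1, -1, 0, 0] else [-1, 0, 0, 0] : List ℤ)).getD i 0

theorem prs_a : ∀ j < 6, j ≠ 0 → prs chevD4 (n1 j) (aJ j) chevD4.rank = 1 ∧ prs chevD4 (n1 j) (aJ' j) chevD4.rank = 0 ∧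
    prs chevD4 (n2 j) (aJ j) chevD4.rank = 0 ∧ prs chevD4 (n2 j) (aJ' j) chevD4.rank = 1 := by decide +kernel

/-- the root coefficients -/
def co (r i : ℕ) : ℤ := (dig MD4 chevD4.rank r i : ℤ) - 8

theorem hco : RootCoeff chevD4 co := rootCoeff_of_chk (M := MD4) (by decide +kernel) (by decide +kernel) (by decide +kernel)

/-- the value of the character with exponents `n` -/
def En (n : ℕ → ℤ) (s : ℕ) : ℤ := n 0 * co s 0 + n 1 * co s 1 + n 2 * co s 2 + n 3 * co s 3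

theorem En_bJ : ∀ j < 6, j ≠ 0 → (En (fun i => if i = 1 then 0 else 1) (bJ j) = 1 ∨
    En (fun i => if i = 1 then 0 else 1) (bJ j) = -1) ∧ (En (fun i => if i = 1 then 0 else 1) (bJ' j) = 1 ∨
    En (fun i => if i = 1 then 0 else 1) (bJ' j) = -1) := by decide +kernel

/-- the words for the pairs inner-diagonal, inner-diagonal-field -/
def wK (r : ℕ) : List ℕ := ([[0, 1, 2], [0, 1, 2], [0, 1, 2], [0, 1, 3]] : List (List ℕ)).getD r []

/-- the permutations of the roots -/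
def WKTab : List (List ℕ) :=
  [[6, 8, 18, 0, 7, 9, 11, 19, 1, 10, 21, 3, 20, 2, 13, 22, 4, 12, 14, 16, 23, 5, 15, 17],
   [6, 8, 18, 0, 7, 9, 11, 19, 1, 10, 21, 3, 20, 2, 13, 22, 4, 12, 14, 16, 23, 5, 15, 17],
   [6, 8, 18, 0, 7, 9, 11, 19, 1, 10, 21, 3, 20, 2, 13, 22, 4, 12, 14, 16, 23, 5, 15, 17],
   [6, 7, 0, 18, 8, 9, 10, 1, 19, 11, 2, 20, 3, 21, 12, 4, 22, 13, 14, 15, 5, 23, 16, 17]]

/-- the permutations of the roots -/
def WK (r s : ℕ) : ℕ := (WKTab.getD r []).getD s 0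

/-- the roots -/
def aK (r : ℕ) : ℕ := ([1, 0, 6, 6] : List ℕ).getD r 0

/-- the roots -/
def aK' (r : ℕ) : ℕ := ([8, 3, 0, 0] : List ℕ).getD r 0

/-- the roots -/
def bK (r : ℕ) : ℕ := ([12, 15, 15, 16] : List ℕ).getD r 0

/-- the roots -/
def bK' (r : ℕ) : ℕ := ([17, 22, 22, 22] : List ℕ).getD r 0

/-- the exponents -/
def nK (r i : ℕ) : ℤ := (([[0, 1, 0, 0], [1, 0, 0, 0], [0, 0, 1, 0], [0, 0, 0, 1]] : List (List ℤ)).getD r []).getD i 0

/-- closure steps -/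
def sKTab : List (List (ℕ × ℕ)) :=
  [[(1, 1), (17, 17), (12, 12), (20, 20), (1, 12), (2, 2), (18, 18), (14, 14), (1, 13), (3, 3), (0, 0), (6, 6), (0, 17),
  (4, 4), (7, 7), (19, 19), (1, 17), (5, 5), (9, 9), (10, 10), (2, 23), (15, 15)],
   [(0, 0), (22, 22), (6, 6), (11, 11), (0, 15), (2, 2), (18, 18), (14, 14), (0, 14), (1, 1), (0, 22), (9, 9), (10, 10),
  (21, 21), (2, 13), (4, 4), (7, 7), (19, 19), (2, 22), (12, 12), (20, 20), (23, 23)],
   [(6, 6), (22, 22), (11, 11), (3, 3), (0, 15), (2, 2), (18, 18), (14, 14), (0, 14), (1, 1), (0, 22), (9, 9), (10, 10),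
  (21, 21), (2, 13), (4, 4), (7, 7), (19, 19), (2, 22), (12, 12), (20, 20), (23, 23)],
   [(6, 6), (22, 22), (10, 10), (2, 2), (0, 16), (3, 3), (18, 18), (14, 14), (0, 14), (1, 1), (0, 22), (9, 9), (11, 11),
  (20, 20), (3, 12), (4, 4), (8, 8), (19, 19), (3, 22), (13, 13), (21, 21), (23, 23)]]

/-- closure steps -/
def sK (r : ℕ) : List (ℕ × ℕ) := sKTab.getD r []

theorem wK_lt : ∀ r < 4, ∀ i ∈ wK r, i < chevD4.rank := by decide +kernel

theorem WK_eq : ∀ r < 4, ∀ s < chevD4.nroots, WK r s = wact chevD4 (wK r) s := by decide +kernel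

theorem WK_surj : ∀ r < 4, ∀ s < chevD4.nroots, ∃ s' < chevD4.nroots, WK r s' = s := by decide +kernel

theorem aK_lt : ∀ r < 4, aK r < chevD4.nroots ∧ aK' r < chevD4.nroots ∧ bK r < chevD4.nroots ∧
    bK' r < chevD4.nroots := by decide +kernel

theorem WK_aK : ∀ r < 4, WK r (aK' r) = aK r ∧ WK r (bK' r) = bK r := by decide +kernel

theorem En_K : ∀ r < 4, (En (nK r) (aK r) = 1 ∨ En (nK r) (aK r) = -1) ∧ (En (nK r) (aK' r) = 1 ∨ En (nK r) (aK' r) = -1) ∧
    En (nK r) (bK r) = 0 ∧ (En (nK r) (bK' r) = 1 ∨ En (nK r) (bK' r) = -1 ∨ En (nK r) (bK' r) = 2 ∨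
      En (nK r) (bK' r) = -2) := by decide +kernel

theorem run_sK : ∀ r < 4, run chevD4 (WK r) ((1 <<< aK r) ||| (1 <<< bK' r)) (sK r) = 2 ^ chevD4.nroots - 1 := by
  decide +kernel

end Cfsg.Agent.H237.D4C
end

-- part: H237/D4C/Main
section
/-!
# Generating pairs in the cosets of `Inn T`, `T` the Chevalley group of type `D₄` (helper237, for S4180)

`cosD4` : for all automorphisms `x`, `y` of `T` there are `s`, `t` in `Inn T` with `Inn T ≤ ⟨x s, y t⟩`.
-/

set_option autoImplicit false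
set_option linter.unusedSectionVars false

namespace Cfsg.Agent.H237.D4C

open scoped Pointwise
open Cfsg Cfsg.Lie Cfsg.Agent.ChevalleyStructure Cfsg.Agent.ChevalleyStructure.Elts
  Cfsg.Agent.ChevalleyStructure.NConj Cfsg.Agent.ChevalleyStructure.BNChev Cfsg.Agent.S1042
  Cfsg.Agent.Schreier.ChevLocal Cfsg.Agent.H70.AutFix Cfsg.Agent.H70.ChevTab Cfsg.Agent.H70.ChevFix
  Cfsg.Agent.H70.ChevField Cfsg.Agent.H70.OutCount Cfsg.Agent.H135.TwoG Cfsg.Agent.H134.Cos
  Cfsg.Agent.H70.ChevDiag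
open Cfsg.Agent.H891.Gen (Lift)

universe u

variable {F : Type u} [Field F]

section gen

variable {D : ChevalleyDatum} {hD : InList D}

/-- prescribing the values at two roots -/
theorem adj {ψ : MulAut ↥(D.group F)} {P : ℕ → ℕ} {c : ℕ → F} (h : Mono hD ψ P c fun _ => 1) {a a' : ℕ}
    (ha : a < D.nroots) (ha' : a' < D.nroots) {n1 n2 : ℕ → ℤ} (p1 : prs D n1 a D.rank = 1)
    (p2 : prs D n1 a' D.rank = 0) (p3 : prs D n2 a D.rank = 0) (p4 : prs D n2 a' D.rank = 1) {k : F} (hk : k ≠ 0) :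
    ∃ g c', Mono hD (ψ * MulAut.conj g) P c' (fun _ => 1) ∧ c' a = k ∧ c' a' = k := by
  have h1 : k / c a ≠ 0 := div_ne_zero hk (h.ne a ha)
  have h2 : k / c a' ≠ 0 := div_ne_zero hk (h.ne a' ha')
  refine ⟨tq hD F n1 (k / c a) D.rank * tq hD F n2 (k / c a') D.rank,
    fun s => c s * ((k / c a) ^ prs D n1 s D.rank * (k / c a') ^ prs D n2 s D.rank), ?_, ?_, ?_⟩
  · rw [map_mul]
    exact (h.mul ((mono_tq (hD := hD) h1 le_rfl).mul (mono_tq (hD := hD) h2 le_rfl))).congr (fun _ _ => rfl)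
      (fun _ _ => rfl) fun _ _ => rfl
  · change c a * ((k / c a) ^ prs D n1 a D.rank * (k / c a') ^ prs D n2 a D.rank) = k
    rw [p1, p3, zpow_one, zpow_zero, mul_one, mul_div_cancel₀ _ (h.ne a ha)]
  · change c a' * ((k / c a) ^ prs D n1 a' D.rank * (k / c a') ^ prs D n2 a' D.rank) = k
    rw [p2, p4, zpow_one, zpow_zero, one_mul, mul_div_cancel₀ _ (h.ne a' ha')]

/-- the torus trick and the closure computation -/
theorem fin {M : Subgroup (MulAut ↥(D.group F))} {h : MulAut ↥(D.group F)} {χ : ℕ → F}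
    (hh : ∀ s < D.nroots, χ s ≠ 0 ∧ ∀ t, h (xe hD s t) = xe hD s (χ s * t)) {l : List ℕ}
    (hl : ∀ i ∈ l, i < D.rank) {P W : ℕ → ℕ} (hW : ∀ s < D.nroots, W s = wact D l (P s))
    (hW' : ∀ s < D.nroots, ∃ s' < D.nroots, W s' = s) {ψ : MulAut ↥(D.group F)} {c : ℕ → F} {σ : ℕ → (F ≃+* F)}
    (hψ : Mono hD ψ P c σ) (hM : h ∈ M) {a a' : ℕ}
    (hy : MulAut.conj (xe hD a 1) * (MulAut.conj (we hD F l) * ψ) ∈ M) (ha : a < D.nroots) (ha' : a' < D.nroots)
    (e : W a' = a) (hirr : ∀ Y : AddSubgroup F, (∀ t ∈ Y, χ a * t ∈ Y) → Y = ⊥ ∨ Y = ⊤) (h1 : χ a ≠ 1)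
    (h1' : χ a' ≠ 1) {steps : List (ℕ × ℕ)} (hrun : run D W (1 <<< a) steps = 2 ^ D.nroots - 1) : NI D F ≤ M := by
  obtain ⟨c', hc'⟩ := mono_we (F := F) (hD := hD) hl
  have hvm : Mono hD (MulAut.conj (we hD F l) * ψ) W (fun s => c' (P s) * (1 : F ≃+* F) (c s)) fun s => 1 * σ s :=
    (hc'.mul hψ).congr (fun s hs => hW s hs) (fun _ _ => rfl) fun _ _ => rfl
  obtain ⟨h2, h3⟩ := core hh hvm hW' hM hy ha ha' e hirr h1 h1'
  refine inn_le_of_run hvm h3 (S := 1 <<< a) ?_ hrun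
  intro r hr
  rw [Nat.one_shiftLeft, Nat.testBit_two_pow] at hr
  have : a = r := by simpa using hr
  exact this ▸ h2

theorem lift_of' {ψ ψ' x' : MulAut ↥(D.group F)} (hx : ψ⁻¹ * x' ∈ NI D F) {l : List ℕ} {a : ℕ}
    (h : NI D F ≤ Subgroup.closure {x', MulAut.conj (xe hD a 1) * (MulAut.conj (we hD F l) * ψ')}) :
    Lift (NI D F) ψ ψ' := by
  refine lift_of hx ?_ h
  have e : MulAut.conj (xe hD a 1) * (MulAut.conj (we hD F l) * ψ') = MulAut.conj (xe hD a 1 * we hD F l) * ψ' := by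
    rw [map_mul, mul_assoc]
  rw [e]
  exact inv_mul_conj_mul _ _

end gen

/-! ### characters -/

/-- the diagonal automorphism with exponents `n` -/
def dgx (k : Fˣ) (n : ℕ → ℤ) : MulAut ↥(chevD4.group F) :=
  diagAut hD4 (isMul_chi hD4 hco fun i => k ^ n i)

theorem chi_eq (k : Fˣ) (n : ℕ → ℤ) (s : ℕ) : chi chevD4.rank co (fun i => k ^ n i) s = k ^ En n s := by
  change ∏ i : Fin 4, (k ^ n i) ^ co s i = _
  rw [Fin.prod_univ_four, ← zpow_mul, ← zpow_mul, ← zpow_mul, ← zpow_mul, ← zpow_add, ← zpow_add, ← zpow_add]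
  rfl

theorem dgx_xe (k : Fˣ) (n : ℕ → ℤ) (s : ℕ) (t : F) :
    dgx k n (xe hD4 s t) = xe hD4 s ((k : F) ^ En n s * t) := by
  rw [dgx, diagAut_xe, chi_eq, Units.val_zpow_eq_zpow_val]

theorem cart : ∀ i < 4, ∀ j < 4, chevD4.cartan i (chevD4.simple j) =
    (([[2, -1, 0, 0], [-1, 2, -1, -1], [0, -1, 2, 0], [0, -1, 0, 2]] : List (List ℤ)).getD i []).getD j 0 ∧
    chevD4.cartan i (chevD4.neg (chevD4.simple j)) =
    -(([[2, -1, 0, 0], [-1, 2, -1, -1], [0, -1, 2, 0], [0, -1, 0, 2]] : List (List ℤ)).getD i []).getD j 0 := by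
  decide +kernel

theorem co_simple : ∀ i < 4, ∀ j < 4, co (chevD4.simple j) i = (if i = j then 1 else 0) ∧
    co (chevD4.neg (chevD4.simple j)) i = (if i = j then -1 else 0) := by decide +kernel

theorem En_simple (n : ℕ → ℤ) {j : ℕ} (hj : j < 4) : En n (chevD4.simple j) = n j ∧
    En n (chevD4.neg (chevD4.simple j)) = -n j := by
  unfold En
  have h0 := co_simple 0 (by norm_num) j hj
  have h1 := co_simple 1 (by norm_num) j hj
  have h2 := co_simple 2 (by norm_num) j hj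
  have h3 := co_simple 3 (by norm_num) j hj
  rw [h0.1, h1.1, h2.1, h3.1, h0.2, h1.2, h2.2, h3.2]
  interval_cases j <;> simp

/-- the inner exponents -/
def zz (d : ℕ → ℤ) (i : ℕ) : ℤ :=
  if i = 1 then d 0 + d 2 + d 3 + 2 * d 1 else (d i + (d 0 + d 2 + d 3 + 2 * d 1)) / 2

theorem prs_zz {d : ℕ → ℤ} (h1 : (d 0 + d 2) % 2 = 0) (h2 : (d 0 + d 3) % 2 = 0) {j : ℕ} (hj : j < 4) :
    prs chevD4 (zz d) (chevD4.simple j) chevD4.rank = d j ∧
    prs chevD4 (zz d) (chevD4.neg (chevD4.simple j)) chevD4.rank = -d j := by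
  have hp : ∀ s, prs chevD4 (zz d) s chevD4.rank = 0 + zz d 0 * chevD4.cartan 0 s + zz d 1 * chevD4.cartan 1 s +
      zz d 2 * chevD4.cartan 2 s + zz d 3 * chevD4.cartan 3 s := fun _ => rfl
  rw [hp, hp]
  have c0 := cart 0 (by norm_num) j hj
  have c1 := cart 1 (by norm_num) j hj
  have c2 := cart 2 (by norm_num) j hj
  have c3 := cart 3 (by norm_num) j hj
  rw [c0.1, c1.1, c2.1, c3.1, c0.2, c1.2, c2.2, c3.2]
  have z0 : zz d 0 = (d 0 + (d 0 + d 2 + d 3 + 2 * d 1)) / 2 := rfl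
  have z1 : zz d 1 = d 0 + d 2 + d 3 + 2 * d 1 := rfl
  have z2 : zz d 2 = (d 2 + (d 0 + d 2 + d 3 + 2 * d 1)) / 2 := rfl
  have z3 : zz d 3 = (d 3 + (d 0 + d 2 + d 3 + 2 * d 1)) / 2 := rfl
  rw [z0, z1, z2, z3]
  interval_cases j <;> simp only [_root_.Int.reduceNeg, _root_.List.getD_eq_getElem?_getD, _root_.List.length_cons, _root_.List.length_nil, _root_.zero_add, _root_.Nat.reduceAdd, _root_.Nat.ofNat_pos, _root_.getElem?_pos, _root_.List.getElem_cons_zero, _root_.Option.getD_some, _root_.Nat.one_lt_ofNat, _root_.List.getElem_cons_succ, _root_.mul_neg, _root_.mul_one, _root_.neg_add_rev, _root_.Nat.reduceLT, _root_.MulZeroClass.mul_zero, _root_.add_zero, _root_.Nat.lt_add_one, _root_.neg_neg, _root_.neg_zero] <;> (clear * - h1 h2 z1; omega)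

/-- a monomial automorphism without field part on the fundamental root elements -/
theorem exists_exp [Finite F] {k : Fˣ} (hk : ∀ x : Fˣ, x ∈ Subgroup.zpowers k) {π : Equiv.Perm (Fin chevD4.rank)}
    {P : ℕ → ℕ} {c : ℕ → F} {ψ : MulAut ↥(chevD4.group F)} (hP : _root_.Cfsg.Agent.H134.Cos.Ext chevD4 π P) (hψ : Mono hD4 ψ P c fun _ => 1) :
    ∃ m : ℕ → ℤ, ∀ (i : Fin chevD4.rank) (t : F),
      ψ (xe hD4 (chevD4.simple i) t) = xe hD4 (chevD4.simple (π i)) ((k : F) ^ m i * t) ∧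
      ψ (xe hD4 (chevD4.neg (chevD4.simple i)) t) = xe hD4 (chevD4.neg (chevD4.simple (π i))) ((k : F) ^ (-m i) * t) := by
  obtain ⟨d, σ, hd, h1, h2, -⟩ := exists_field hD4 (perm_of_mono hP (hP.neg hD4) hψ)
  have h3 : ∀ (i : Fin chevD4.rank) (t : F), d i * σ i t = c (chevD4.simple i) * t := by
    intro i t
    have h4 := hψ.eq _ (simple_lt hD4 i.2) t
    rw [h1, hP.1] at h4
    exact xe_inj hD4 (simple_lt hD4 (π i).2) h4
  have h4 : ∀ (i : Fin chevD4.rank) (t : F), σ i t = t := by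
    intro i t
    have h5 := h3 i 1
    rw [map_one, mul_one, mul_one] at h5
    have h6 := h3 i t
    rw [← h5] at h6
    exact mul_left_cancel₀ (hd i) h6
  have h5 : ∀ i : Fin chevD4.rank, ∃ m : ℤ, (k : F) ^ m = d i := by
    intro i
    obtain ⟨m, hm⟩ := hk (Units.mk0 (d i) (hd i))
    refine ⟨m, ?_⟩
    have := congrArg Units.val hm
    simpa using this
  choose m hm using h5
  refine ⟨fun i => if h : i < chevD4.rank then m ⟨i, h⟩ else 0, fun i t => ?_⟩
  have e : (if h : (i : ℕ) < chevD4.rank then m ⟨i, h⟩ else 0) = m i := dif_pos i.2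
  simp only [e]
  rw [h1, h2, h4, zpow_neg, hm]
  exact ⟨rfl, rfl⟩

/-- normalising the diagonal part -/
theorem exists_rep [Finite F] {k : Fˣ} (hk : ∀ x : Fˣ, x ∈ Subgroup.zpowers k) {π : Equiv.Perm (Fin chevD4.rank)}
    {P : ℕ → ℕ} {c : ℕ → F} {ψ : MulAut ↥(chevD4.group F)} (hP : _root_.Cfsg.Agent.H134.Cos.Ext chevD4 π P) (hψ : Mono hD4 ψ P c fun _ => 1)
    {R : ℕ → ℕ → ℤ} (hR : ∀ m : ℕ → ℤ, ∃ r < 4, (R r 0 - m 0 + (R r 2 - m 2)) % 2 = 0 ∧
      (R r 0 - m 0 + (R r 3 - m 3)) % 2 = 0) :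
    ∃ r < 4, ∃ g : ↥(chevD4.group F), ∀ (i : Fin chevD4.rank) (t : F),
      (ψ * MulAut.conj g) (xe hD4 (chevD4.simple i) t) = xe hD4 (chevD4.simple (π i)) ((k : F) ^ R r i * t) ∧
      (ψ * MulAut.conj g) (xe hD4 (chevD4.neg (chevD4.simple i)) t) =
        xe hD4 (chevD4.neg (chevD4.simple (π i))) ((k : F) ^ (-R r i) * t) := by
  obtain ⟨m, hm⟩ := exists_exp hk hP hψ
  obtain ⟨r, hr, h1, h2⟩ := hR m
  refine ⟨r, hr, tq hD4 F (zz fun i => R r i - m i) (k : F) chevD4.rank, fun i t => ?_⟩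
  have hq := mono_tq (hD := hD4) (n := zz fun i => R r i - m i) (c := (k : F)) k.ne_zero (le_refl chevD4.rank)
  have hz := prs_zz (d := fun i => R r i - m i) h1 h2 (j := (i : ℕ)) i.2
  have e1 := hq.eq _ (simple_lt hD4 i.2) t
  have e2 := hq.eq _ (neg_simple_lt hD4 i.2) t
  rw [hz.1] at e1
  rw [hz.2] at e2
  constructor
  · rw [MulAut.mul_apply, e1, (hm i _).1, ← mul_assoc]
    change xe hD4 _ ((k : F) ^ m i * (k : F) ^ (R r i - m i) * t) = _
    rw [← zpow_add₀ k.ne_zero, add_sub_cancel]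
  · rw [MulAut.mul_apply, e2, (hm i _).2, ← mul_assoc]
    change xe hD4 _ ((k : F) ^ (-m i) * (k : F) ^ (-(R r i - m i)) * t) = _
    rw [← zpow_add₀ k.ne_zero]
    congr 3
    ring

theorem nK_rep (m : ℕ → ℤ) : ∃ r < 4, (nK r 0 - m 0 + (nK r 2 - m 2)) % 2 = 0 ∧
    (nK r 0 - m 0 + (nK r 3 - m 3)) % 2 = 0 := by
  rcases Int.emod_two_eq (m 0 + m 2) with h | h <;> rcases Int.emod_two_eq (m 0 + m 3) with h' | h'
  · refine ⟨0, by norm_num, ?_, ?_⟩ <;> simp only [nK, _root_.List.getD_eq_getElem?_getD, _root_.List.length_cons, _root_.List.length_nil, _root_.zero_add, _root_.Nat.reduceAdd, _root_.Nat.ofNat_pos, _root_.getElem?_pos, _root_.List.getElem_cons_zero, _root_.Option.getD_some, _root_.zero_sub, _root_.Nat.reduceLT, _root_.List.getElem_cons_succ, _root_.EuclideanDomain.mod_eq_zero, _root_.Nat.lt_add_one] <;> omega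
  · refine ⟨3, by norm_num, ?_, ?_⟩ <;> simp only [nK, _root_.List.getD_eq_getElem?_getD, _root_.List.length_cons, _root_.List.length_nil, _root_.zero_add, _root_.Nat.reduceAdd, _root_.Nat.lt_add_one, _root_.getElem?_pos, _root_.List.getElem_cons_succ, _root_.List.getElem_cons_zero, _root_.Option.getD_some, _root_.Nat.ofNat_pos, _root_.zero_sub, _root_.Nat.reduceLT, _root_.EuclideanDomain.mod_eq_zero] <;> omega
  · refine ⟨2, by norm_num, ?_, ?_⟩ <;> simp only [nK, _root_.List.getD_eq_getElem?_getD, _root_.List.length_cons, _root_.List.length_nil, _root_.zero_add, _root_.Nat.reduceAdd, _root_.Nat.reduceLT, _root_.getElem?_pos, _root_.List.getElem_cons_succ, _root_.List.getElem_cons_zero, _root_.Option.getD_some, _root_.Nat.ofNat_pos, _root_.zero_sub, _root_.EuclideanDomain.mod_eq_zero, _root_.Nat.lt_add_one] <;> (clear * - h h'; omega)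
  · refine ⟨1, by norm_num, ?_, ?_⟩ <;> simp only [nK, _root_.List.getD_eq_getElem?_getD, _root_.List.length_cons, _root_.List.length_nil, _root_.zero_add, _root_.Nat.reduceAdd, _root_.Nat.one_lt_ofNat, _root_.getElem?_pos, _root_.List.getElem_cons_succ, _root_.List.getElem_cons_zero, _root_.Option.getD_some, _root_.Nat.ofNat_pos, _root_.Nat.reduceLT, _root_.zero_sub, _root_.EuclideanDomain.mod_eq_zero, _root_.Nat.lt_add_one] <;> (clear * - h h'; omega)

/-- the exponents for the rotations -/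
def nR (r i : ℕ) : ℤ := if r = 0 then (([1, 0, 1, -1] : List ℤ)).getD i 0 else nK r i

theorem nR_rep (m : ℕ → ℤ) : ∃ r < 4, (nR r 0 - m 0 + (nR r 2 - m 2)) % 2 = 0 ∧
    (nR r 0 - m 0 + (nR r 3 - m 3)) % 2 = 0 := by
  rcases Int.emod_two_eq (m 0 + m 2) with h | h <;> rcases Int.emod_two_eq (m 0 + m 3) with h' | h'
  · refine ⟨0, by norm_num, ?_, ?_⟩ <;> simp only [nR, ↓ _root_.reduceIte, _root_.Int.reduceNeg, _root_.List.getD_eq_getElem?_getD, _root_.List.length_cons, _root_.List.length_nil, _root_.zero_add, _root_.Nat.reduceAdd, _root_.Nat.ofNat_pos, _root_.getElem?_pos, _root_.List.getElem_cons_zero, _root_.Option.getD_some, _root_.Nat.reduceLT, _root_.List.getElem_cons_succ, _root_.EuclideanDomain.mod_eq_zero, _root_.Nat.lt_add_one] <;> omega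
  · refine ⟨3, by norm_num, ?_, ?_⟩ <;> simp only [nR, nK, _root_.OfNat.ofNat_ne_zero, ↓ _root_.reduceIte, _root_.List.getD_eq_getElem?_getD, _root_.List.length_cons, _root_.List.length_nil, _root_.zero_add, _root_.Nat.reduceAdd, _root_.Nat.lt_add_one, _root_.getElem?_pos, _root_.List.getElem_cons_succ, _root_.List.getElem_cons_zero, _root_.Option.getD_some, _root_.Nat.ofNat_pos, _root_.zero_sub, _root_.Nat.reduceLT, _root_.EuclideanDomain.mod_eq_zero] <;> omega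
  · refine ⟨2, by norm_num, ?_, ?_⟩ <;> simp only [nR, nK, _root_.OfNat.ofNat_ne_zero, ↓ _root_.reduceIte, _root_.List.getD_eq_getElem?_getD, _root_.List.length_cons, _root_.List.length_nil, _root_.zero_add, _root_.Nat.reduceAdd, _root_.Nat.reduceLT, _root_.getElem?_pos, _root_.List.getElem_cons_succ, _root_.List.getElem_cons_zero, _root_.Option.getD_some, _root_.Nat.ofNat_pos, _root_.zero_sub, _root_.EuclideanDomain.mod_eq_zero, _root_.Nat.lt_add_one] <;> (clear * - h h'; omega)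
  · refine ⟨1, by norm_num, ?_, ?_⟩ <;> simp only [nR, nK, _root_.one_ne_zero, ↓ _root_.reduceIte, _root_.List.getD_eq_getElem?_getD, _root_.List.length_cons, _root_.List.length_nil, _root_.zero_add, _root_.Nat.reduceAdd, _root_.Nat.one_lt_ofNat, _root_.getElem?_pos, _root_.List.getElem_cons_succ, _root_.List.getElem_cons_zero, _root_.Option.getD_some, _root_.Nat.ofNat_pos, _root_.Nat.reduceLT, _root_.zero_sub, _root_.EuclideanDomain.mod_eq_zero, _root_.Nat.lt_add_one] <;> (clear * - h h'; omega)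

/-- the exponents of the cube -/
def nC (i : ℕ) : ℤ := if i = 1 then 0 else 1

theorem nR_sum : ∀ p < 6, p = 3 ∨ p = 4 → ∀ r < 4, ∀ i : Fin chevD4.rank, sym p (sym p (sym p i)) = i ∧
    nR r i + nR r (sym p i) + nR r (sym p (sym p i)) = nC i := by decide +kernel

/-! ### the cases -/

/-- all pairs of types `i` (without field part) and `j` -/
def LL (F : Type u) [Field F] (i j : ℕ) : Prop :=
  ∀ (ψ ψ' : MulAut ↥(chevD4.group F)) (c c' : ℕ → F) (τ : F ≃+* F), Mono hD4 ψ (PJ i) c (fun _ => 1) →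
    Mono hD4 ψ' (PJ j) c' (fun _ => τ) → Lift (NI chevD4 F) ψ ψ'

theorem units_eq_one (hq : ¬ ∃ x : F, x ≠ 0 ∧ x ≠ 1) (x : F) : x = 0 ∨ x = 1 := by
  by_contra h
  rw [not_or] at h
  exact hq ⟨x, h⟩

/-- in the field with two elements monomial automorphisms with trivial permutation are trivial -/
theorem eq_one_of_two (hF : ∀ x : F, x = 0 ∨ x = 1) {ψ : MulAut ↥(chevD4.group F)} {P : ℕ → ℕ} {c : ℕ → F}
    {σ : ℕ → (F ≃+* F)} (h : Mono hD4 ψ P c σ) (hP : ∀ s < chevD4.nroots, P s = s) : ψ = 1 := by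
  apply ext_xe (hD := hD4)
  intro s hs t
  have h1 : c s = 1 := (hF _).resolve_left (h.ne s hs)
  have h2 : σ s t = t := by
    rcases hF t with rfl | rfl
    · exact map_zero _
    · exact map_one _
  rw [h.eq s hs, hP s hs, h1, one_mul, h2]
  rfl

/-- `x` inner-diagonal, `y` of graph type -/
theorem ll_zero [Finite F] {j : ℕ} (hj : j < 6) (hj0 : j ≠ 0) : LL F 0 j := by
  intro ψ ψ' c c' τ hψ hψ'
  by_cases hq : ∃ x : F, x ≠ 0 ∧ x ≠ 1
  · obtain ⟨k, hk⟩ := IsCyclic.exists_generator (α := Fˣ)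
    have hk1 := gen_ne_one hq hk
    obtain ⟨ha, ha', -, -⟩ := aJ_lt j hj
    obtain ⟨p1, p2, p3, p4⟩ := prs_a j hj hj0
    obtain ⟨g, c1, hm, h1, h2⟩ := adj hψ ha ha' p1 p2 p3 p4 k.ne_zero
    refine lift_of' (hD := hD4) (x' := ψ * MulAut.conj g) (l := wJ j) (a := aJ j) ⟨g, by group⟩ ?_
    exact fin (hD := hD4) (h := ψ * MulAut.conj g) (χ := c1)
      (fun s hs => ⟨hm.ne s hs, fun t => by rw [hm.eq s hs, PJ_one s hs]; rfl⟩) (wJ_lt j hj) (WJ_eq j hj) (WJ_surj j hj)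
      hψ' (Subgroup.subset_closure (by simp only [_root_.Set.mem_insert_iff, _root_.Set.mem_singleton_iff, _root_.true_or])) (Subgroup.subset_closure (by simp only [_root_.Set.mem_insert_iff, _root_.Set.mem_singleton_iff, _root_.or_true])) ha ha' (WJ_aJ j hj hj0).1
      (irr_of_gen hk (e := 1) (Or.inl rfl) (by rw [h1, zpow_one])) (by rw [h1]; exact hk1) (by rw [h2]; exact hk1)
      (run_sA j hj hj0)
  · have hF := units_eq_one hq
    exact lift_F2 hF hψ' (wJ_lt j hj) (WJ_eq j hj) (run_sA j hj hj0)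
      (by rw [eq_one_of_two hF hψ PJ_one]; exact one_mem _)

/-- `x` an involutory graph automorphism, `y` of graph type, at least four elements -/
theorem ll_inv [Finite F] (hq : ∀ k : Fˣ, (∀ x : Fˣ, x ∈ Subgroup.zpowers k) → (k : F) ^ 2 ≠ 1) {i j : ℕ} (hi : i < 6)
    (hi2 : ∀ s < chevD4.nroots, PJ i (PJ i s) = s) (hj : j < 6) (hj0 : j ≠ 0) : LL F i j := by
  intro ψ ψ' c c' τ hψ hψ'
  obtain ⟨k, hk⟩ := IsCyclic.exists_generator (α := Fˣ)
  have hk1 := hq k hk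
  obtain ⟨ha, ha', -, -⟩ := aJ_lt j hj
  obtain ⟨p1, p2, p3, p4⟩ := prs_a j hj hj0
  obtain ⟨g, c1, hm, h1, h2⟩ := adj hψ ha ha' p1 p2 p3 p4 k.ne_zero
  have hx : ψ * MulAut.conj g ∈ Subgroup.closure {ψ * MulAut.conj g,
      MulAut.conj (xe hD4 (aJ j) 1) * (MulAut.conj (we hD4 F (wJ j)) * ψ')} := Subgroup.subset_closure (by simp only [_root_.Set.mem_insert_iff, _root_.Set.mem_singleton_iff, _root_.true_or])
  have hm2 := hm.mul hm
  have ea : c1 (PJ i (aJ j)) * c1 (aJ j) = (k : F) ^ 2 := by rw [(PJ_aJ i hi j hj).1, h1, sq]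
  have ea' : c1 (PJ i (aJ' j)) * c1 (aJ' j) = (k : F) ^ 2 := by rw [(PJ_aJ i hi j hj).2, h2, sq]
  refine lift_of' (hD := hD4) (x' := ψ * MulAut.conj g) (l := wJ j) (a := aJ j) ⟨g, by group⟩ ?_
  refine fin (hD := hD4) (h := ψ * MulAut.conj g * (ψ * MulAut.conj g)) (χ := fun s => c1 (PJ i s) * c1 s)
      (fun s hs => ⟨mul_ne_zero (hm.ne _ (hm.lt s hs)) (hm.ne s hs), fun t => ?_⟩) (wJ_lt j hj) (WJ_eq j hj) (WJ_surj j hj)
      hψ' (Subgroup.mul_mem _ hx hx) (Subgroup.subset_closure (by simp only [_root_.Set.mem_insert_iff, _root_.Set.mem_singleton_iff, _root_.or_true])) ha ha' (WJ_aJ j hj hj0).1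
      (irr_of_gen hk (e := 2) (Or.inr (Or.inr (Or.inl rfl))) (by rw [ea]; norm_cast)) (by rw [ea]; exact hk1) (by rw [ea']; exact hk1)
      (run_sA j hj hj0)
  rw [hm2.eq s hs, hi2 s hs]
  rfl

theorem cube_aux {G : Type*} [Group G] {u ψ : G} (h : ψ * u = u * ψ) (hu : u * u = 1) (h3 : ψ * (ψ * ψ) = 1) :
    u * ψ * (u * ψ * (u * ψ)) = u := by
  have e : u * ψ * (u * ψ * (u * ψ)) = u * (ψ * u) * ψ * (u * ψ) := by group
  have e1 : u * (u * ψ) * ψ * (u * ψ) = (u * u) * ψ * (ψ * u) * ψ := by group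
  have e2 : ψ * (u * ψ) * ψ = (ψ * u) * ψ * ψ := by group
  have e3 : u * ψ * ψ * ψ = u * (ψ * (ψ * ψ)) := by group
  rw [e, h, e1, hu, one_mul, h, e2, h, e3, h3, mul_one]

/-- `x` a rotation, `y` of graph type -/
theorem ll_rot [Finite F] {i j : ℕ} (hi : i = 3 ∨ i = 4) (hj : j < 6) (hj0 : j ≠ 0) : LL F i j := by
  intro ψ ψ' c c' τ hψ hψ'
  have hi6 : i < 6 := by omega
  by_cases hq : ∃ x : F, x ≠ 0 ∧ x ≠ 1
  · obtain ⟨k, hk⟩ := IsCyclic.exists_generator (α := Fˣ)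
    have hk1 := gen_ne_one hq hk
    obtain ⟨-, -, hb, hb'⟩ := aJ_lt j hj
    obtain ⟨r, hr, g, hg⟩ := exists_rep hk (ext_PJ i hi6) hψ nR_rep
    have hxN : ψ⁻¹ * (ψ * MulAut.conj g) ∈ NI chevD4 F := ⟨g, by group⟩
    generalize ψ * MulAut.conj g = x' at hg hxN
    have hcube : x' * (x' * x') = dgx k nC := by
      refine ext_values hD4 (fun a t => ?_) fun a t => ?_
      · obtain ⟨e1, e2⟩ := nR_sum i hi6 hi r hr a
        rw [MulAut.mul_apply, MulAut.mul_apply, (hg _ _).1, (hg _ _).1, (hg _ _).1, e1, dgx_xe, (En_simple nC a.2).1,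
          ← e2, zpow_add₀ k.ne_zero, zpow_add₀ k.ne_zero]
        congr 1
        ring
      · obtain ⟨e1, e2⟩ := nR_sum i hi6 hi r hr a
        rw [MulAut.mul_apply, MulAut.mul_apply, (hg _ _).2, (hg _ _).2, (hg _ _).2, e1, dgx_xe, (En_simple nC a.2).2,
          ← e2, neg_add, neg_add, zpow_add₀ k.ne_zero, zpow_add₀ k.ne_zero]
        congr 1
        ring
    have hx : x' ∈ Subgroup.closure {x',
      MulAut.conj (xe hD4 (bJ j) 1) * (MulAut.conj (we hD4 F (wJ j)) * ψ')} := Subgroup.subset_closure (by simp)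
    obtain ⟨E1, E2⟩ := En_bJ j hj hj0
    have hne : ∀ e : ℤ, e = 1 ∨ e = -1 → (k : F) ^ e ≠ 1 := by
      rintro e (rfl | rfl)
      · rwa [zpow_one]
      · rw [zpow_neg, zpow_one]
        exact fun h => hk1 (inv_eq_one.1 h)
    refine lift_of' (hD := hD4) (x' := x') (l := wJ j) (a := bJ j) hxN ?_
    exact fin (hD := hD4) (h := dgx k nC) (χ := fun s => (k : F) ^ En nC s)
      (fun s hs => ⟨zpow_ne_zero _ k.ne_zero, fun t => dgx_xe k nC s t⟩) (wJ_lt j hj) (WJ_eq j hj) (WJ_surj j hj)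
      hψ' (by rw [← hcube]; exact Subgroup.mul_mem _ hx (Subgroup.mul_mem _ hx hx))
      (Subgroup.subset_closure (by simp only [_root_.Set.mem_insert_iff, _root_.Set.mem_singleton_iff, _root_.or_true])) hb hb' (WJ_aJ j hj hj0).2
      (irr_of_gen hk (e := En nC (bJ j)) (E1.imp_right Or.inl) rfl) (hne _ E1) (hne _ E2)
      (run_sB j hj hj0)
  · have hF := units_eq_one hq
    -- `x' = conj (x_a(1)) ψ`, `ψ` fixes `x_a(1)`, `ψ ^ 3 = 1`
    have h11 : (1 : F) + 1 = 0 := by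
      rcases hF (1 + 1) with h | h
      · exact h
      · exact absurd (by linear_combination h : (1 : F) = 0) one_ne_zero
    have ha := (aJ_lt j hj).1
    have hfix : ψ (xe hD4 (aJ j) 1) = xe hD4 (aJ j) 1 := by
      have h1 : c (aJ j) = 1 := (hF _).resolve_left (hψ.ne _ ha)
      rw [hψ.eq _ ha, (PJ_aJ i hi6 j hj).1, h1, one_mul]
      rfl
    have hcomm : Commute ψ (MulAut.conj (xe hD4 (aJ j) (1 : F))) := by
      have := conj_conj ψ (xe hD4 (aJ j) (1 : F))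
      rw [hfix, mul_inv_eq_iff_eq_mul] at this
      exact this
    have h3 : ψ * (ψ * ψ) = 1 := by
      refine eq_one_of_two hF (hψ.mul (hψ.mul hψ)) ?_
      have : ∀ i < 6, i = 3 ∨ i = 4 → ∀ s < chevD4.nroots, PJ i (PJ i (PJ i s)) = s := by decide +kernel
      exact this i hi6 hi
    obtain ⟨c2, hc2⟩ := mono_we (F := F) (hD := hD4) (wJ_lt j hj)
    set v := MulAut.conj (we hD4 F (wJ j)) * ψ' with hv
    have hvm : Mono hD4 v (WJ j) (fun s => c2 (PJ j s) * (1 : F ≃+* F) (c' s)) fun s => 1 * τ :=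
      (hc2.mul hψ').congr (fun s hs => WJ_eq j hj s hs) (fun _ _ => rfl) fun _ _ => rfl
    refine lift_of (x' := MulAut.conj (xe hD4 (aJ j) 1) * ψ) (y' := v) (inv_mul_conj_mul _ _)
      (by rw [hv]; exact inv_mul_conj_mul _ _) ?_
    set M := Subgroup.closure {MulAut.conj (xe hD4 (aJ j) (1 : F)) * ψ, v} with hM
    have m1 : MulAut.conj (xe hD4 (aJ j) (1 : F)) * ψ ∈ M := Subgroup.subset_closure (by simp only [_root_.Set.mem_insert_iff, _root_.Set.mem_singleton_iff, _root_.true_or])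
    have m2 : v ∈ M := Subgroup.subset_closure (by simp)
    have m3 : MulAut.conj (xe hD4 (aJ j) (1 : F)) ∈ M := by
      have h4 := M.mul_mem m1 (M.mul_mem m1 m1)
      have e : MulAut.conj (xe hD4 (aJ j) (1 : F)) * ψ * (MulAut.conj (xe hD4 (aJ j) (1 : F)) * ψ *
          (MulAut.conj (xe hD4 (aJ j) (1 : F)) * ψ)) = MulAut.conj (xe hD4 (aJ j) (1 : F)) := by
        have e1 : MulAut.conj (xe hD4 (aJ j) (1 : F)) * MulAut.conj (xe hD4 (aJ j) (1 : F)) = 1 := by
          rw [← map_mul, ← xe_add, h11, xe_zero, map_one]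
        have e2 := hcomm.eq
        exact cube_aux e2 e1 h3
      rwa [e] at h4
    refine inn_le_of_run hvm m2 (S := 1 <<< aJ j) ?_ (run_sA j hj hj0)
    intro r hr
    rw [Nat.one_shiftLeft, Nat.testBit_two_pow] at hr
    have : aJ j = r := by simpa using hr
    exact this ▸ has_of_two hF m3

/-- both of inner-diagonal-field type -/
theorem ll_zz [Finite F] : LL F 0 0 := by
  intro ψ ψ' c c' τ hψ hψ'
  by_cases hq : ∃ x : F, x ≠ 0 ∧ x ≠ 1
  · obtain ⟨k, hk⟩ := IsCyclic.exists_generator (α := Fˣ)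
    have hk1 := gen_ne_one hq hk
    have hne : ∀ e : ℤ, e = 1 ∨ e = -1 → (k : F) ^ e ≠ 1 := by
      rintro e (rfl | rfl)
      · rwa [zpow_one]
      · rw [zpow_neg, zpow_one]
        exact fun h => hk1 (inv_eq_one.1 h)
    obtain ⟨r, hr, g, hg⟩ := exists_rep hk (ext_PJ 0 (by norm_num)) hψ nK_rep
    have hx : ψ * MulAut.conj g = dgx k (nK r) := by
      refine ext_values hD4 (fun a t => ?_) fun a t => ?_
      · rw [(hg a t).1, dgx_xe, (En_simple _ a.2).1]
        rfl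
      · rw [(hg a t).2, dgx_xe, (En_simple _ a.2).2]
        rfl
    obtain ⟨ha, ha', hb, hb'⟩ := aK_lt r hr
    obtain ⟨E1, E2, E3, E4⟩ := En_K r hr
    refine lift_congr (x' := dgx k (nK r)) (y' := ψ') ⟨g, by rw [← hx]; group⟩
      (by rw [inv_mul_cancel]; exact one_mem _) ?_
    exact lift_two' (hD := hD4) (χ := fun s => (k : F) ^ En (nK r) s)
      (fun s hs => ⟨zpow_ne_zero _ k.ne_zero, fun t => dgx_xe k _ s t⟩) hψ' (wK_lt r hr) (W := WK r)
      (fun s hs => by rw [PJ_one s hs]; exact WK_eq r hr s hs) (WK_surj r hr) ha ha' (WK_aK r hr).1 hb hb'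
      (WK_aK r hr).2 (irr_of_gen hk (e := En (nK r) (aK r)) (E1.imp_right Or.inl) rfl) (hne _ E1) (hne _ E2)
      (by simp only [E3, zpow_zero]) (irr_of_gen hk (e := En (nK r) (bK' r)) E4 rfl) (run_sK r hr)
  · have hF := units_eq_one hq
    have h11 : (2 : F) = 0 := by
      rcases hF 2 with h | h
      · exact h
      · exact absurd (by linear_combination h : (1 : F) = 0) one_ne_zero
    have : CharP F 2 := CharTwo.of_one_ne_zero_of_two_eq_zero one_ne_zero h11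
    obtain ⟨g, h, hg, hh, hgh⟩ := twoD4 hF
    rw [eq_one_of_two hF hψ PJ_one, eq_one_of_two hF hψ' PJ_one]
    refine Cfsg.Agent.H891.DG.Nielsen.lift_one ⟨⟨g, hg⟩, ⟨h, hh⟩, ?_⟩
    rw [eq_top_iff]
    intro x _
    have hx : (x : GL chevD4.Idx F) ∈ (Subgroup.closure {(⟨g, hg⟩ : ↥(chevD4.group F)), ⟨h, hh⟩}).map
        (chevD4.group F).subtype := by
      rw [MonoidHom.map_closure, Set.image_pair]
      exact hgh x.2
    obtain ⟨y, hy, e⟩ := hx
    exact (Subtype.ext e : y = x) ▸ hy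

/-- inverses -/
theorem mono_inv {i : ℕ} (hi : i < 6) {ψ : MulAut ↥(chevD4.group F)} {c : ℕ → F} (h : Mono hD4 ψ (PJ i) c fun _ => 1) :
    Mono hD4 ψ⁻¹ (PJ (iv i)) (fun s => (c (PJ (iv i) s))⁻¹) fun _ => 1 where
  lt s hs := (ext_PJ (iv i) (iv_lt i hi)).2.1 s hs
  ne s hs := inv_ne_zero (h.ne _ ((ext_PJ (iv i) (iv_lt i hi)).2.1 s hs))
  eq s hs t := by
    apply ψ.injective
    have h1 := (ext_PJ (iv i) (iv_lt i hi)).2.1 s hs
    rw [MulAut.apply_inv_self, h.eq _ h1, (PJ_iv i hi s hs).1]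
    change _ = xe hD4 s (c (PJ (iv i) s) * ((c (PJ (iv i) s))⁻¹ * t))
    rw [mul_inv_cancel_left₀ (h.ne _ h1)]

/-- a Nielsen move -/
theorem ll_mul {i j : ℕ} (hi : i < 6) (hj : j < 6) (h : LL F i (mT (iv i) j)) : LL F i j := by
  intro ψ ψ' c c' τ hψ hψ'
  apply lift_mul
  exact h ψ (ψ⁻¹ * ψ') c _ τ hψ (((mono_inv hi hψ).mul hψ').congr
    (fun s hs => (PJ_mT (iv i) (iv_lt i hi) j hj s hs).symm) (fun _ _ => rfl) fun _ _ => (one_mul τ).symm)

theorem mT_iv : ∀ i < 6, mT (iv i) 0 = iv i ∧ (i ≠ 0 → iv i ≠ 0) := by decide +kernel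

theorem inv_cases : ∀ i < 6, (i = 0 ∨ i = 3 ∨ i = 4) ∨ ((∀ s < chevD4.nroots, PJ i (PJ i s) = s) ∧
    ∀ j < 6, (j = 0 ∨ j = 3 ∨ j = 4) ∨ (mT (iv i) j = 0 ∨ mT (iv i) j = 3 ∨ mT (iv i) j = 4)) := by decide +kernel

/-- the rows `0`, `3`, `4` -/
theorem ll_row [Finite F] {i : ℕ} (hi : i = 0 ∨ i = 3 ∨ i = 4) {j : ℕ} (hj : j < 6) (hj0 : j ≠ 0) : LL F i j := by
  rcases hi with rfl | hi
  · exact ll_zero hj hj0
  · exact ll_rot hi hj hj0

/-- at most three elements: no field automorphisms -/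
theorem fld_trivial [Finite F] (h : Nat.card F ≤ 3) (τ : F ≃+* F) : τ = 1 := by
  classical
  have : Fintype F := Fintype.ofFinite F
  obtain ⟨p, hp⟩ := CharP.exists F
  have hpp : p.Prime := (CharP.char_is_prime_or_zero F p).resolve_right (CharP.char_ne_zero_of_finite F p)
  obtain ⟨n, -, hn⟩ := FiniteField.card F p
  have hn1 : (n : ℕ) = 1 := by
    by_contra hne
    have h2 : 2 ≤ (n : ℕ) := by
      have := n.pos
      omega
    have h4 : 2 ^ 2 ≤ p ^ (n : ℕ) := (Nat.pow_le_pow_right (by norm_num) h2).trans (Nat.pow_le_pow_left hpp.two_le _)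
    rw [Nat.card_eq_fintype_card, hn] at h
    omega
  have : Fact p.Prime := ⟨hpp⟩
  have h5 := Cfsg.Agent.Lib.FieldAutCard.card_ringAut (F := F) (p := p) (f := 1) le_rfl (by rw [hn, hn1])
  have h6 : Subsingleton (F ≃+* F) := by
    have := (Nat.card_eq_one_iff_unique.1 h5).1
    exact this
  exact Subsingleton.elim _ _

/-- **All pairs.** -/
theorem ll_all [Finite F] {i j : ℕ} (hi : i < 6) (hj : j < 6) : LL F i j := by
  -- the second one is of graph type
  have key : ∀ i < 6, ∀ j < 6, j ≠ 0 → LL F i j := by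
    intro i hi j hj hj0
    by_cases h0 : i = 0 ∨ i = 3 ∨ i = 4
    · exact ll_row h0 hj hj0
    have hi0 : i ≠ 0 := fun h => h0 (Or.inl h)
    obtain ⟨h1, h2⟩ := (inv_cases i hi).resolve_left h0
    by_cases hq : Nat.card F ≤ 3
    · -- no field automorphisms
      intro ψ ψ' c c' τ hψ hψ'
      rw [fld_trivial hq τ] at hψ'
      by_cases hj34 : j = 3 ∨ j = 4
      · exact Cfsg.Agent.H891.Gen.Lift.symm (ll_rot hj34 hi hi0 ψ' ψ c' c 1 hψ' hψ)
      · apply lift_mul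
        apply Cfsg.Agent.H891.Gen.Lift.symm
        have hm := (h2 j hj).resolve_left (by
          rintro (h | h)
          · exact hj0 h
          · exact hj34 h)
        exact ll_row hm hi hi0 _ _ _ _ 1 (((mono_inv hi hψ).mul hψ').congr
          (fun s hs => (PJ_mT (iv i) (iv_lt i hi) j hj s hs).symm) (fun _ _ => rfl) fun _ _ => (one_mul _).symm) hψ
    · refine ll_inv (fun k hk h3 => hq ?_) hi h1 hj hj0
      have h4 : k ^ 2 = 1 := Units.ext (by rw [Units.val_pow_eq_pow_val, Units.val_one]; exact h3)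
      have h5 : orderOf k = Nat.card Fˣ := orderOf_eq_card_of_forall_mem_zpowers hk
      have h6 : orderOf k ≤ 2 := Nat.le_of_dvd (by norm_num) (orderOf_dvd_of_pow_eq_one h4)
      have : Fintype F := Fintype.ofFinite F
      have h7 : Nat.card Fˣ = Nat.card F - 1 := by
        rw [Nat.card_units, Nat.card_eq_fintype_card]
      omega
  by_cases hj0 : j = 0
  · subst hj0
    by_cases hi0 : i = 0
    · subst hi0
      exact ll_zz
    · apply ll_mul hi hj
      rw [(mT_iv i hi).1]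
      exact key i hi _ (iv_lt i hi) ((mT_iv i hi).2 hi0)
  · exact key i hi j hj hj0

/-! ### all automorphisms -/

theorem sym_all : ∀ π : Equiv.Perm (Fin chevD4.rank), chevD4.IsDiagramSymmetry π → ∃ j < 6, π = sym j := by
  unfold ChevalleyDatum.IsDiagramSymmetry
  decide +kernel

theorem sym_Sym : ∀ j < 6, _root_.Cfsg.Agent.H134.Cos.Sym chevD4 (sym j) := by decide +kernel

theorem hfull4 [Finite F] (θ : MulAut ↥(chevD4.group F)) : ∃ κ ∈ KX hD4 F, ∃ τ, θ = κ * fl chevD4 τ := by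
  refine full_of (fun π hπ => ?_) θ
  obtain ⟨φ, hφ⟩ := hπ
  obtain ⟨j, hj, rfl⟩ := sym_all π (Cfsg.Agent.H70.DiagSym.isDiagramSymmetry hD4 hφ)
  exact ⟨sym_Sym j hj, PJ j, ext_PJ j hj⟩

theorem decomp [Finite F] (y : MulAut ↥(chevD4.group F)) : ∃ j < 6, ∃ g ψ c τ, y = MulAut.conj g * ψ ∧
    Mono hD4 ψ (PJ j) c (fun _ => τ) := by
  obtain ⟨g, ψ, π, rfl, hπ⟩ := exists_perm_form hD4 y
  obtain ⟨j, hj, rfl⟩ := sym_all π (Cfsg.Agent.H70.DiagSym.isDiagramSymmetry hD4 hπ)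
  obtain ⟨c, τ, hm⟩ := mono_of_sym (hD := hD4) hπ (sym_Sym j hj) (ext_PJ j hj)
  exact ⟨j, hj, g, ψ, c, τ, rfl, hm⟩

/-- **The row `D₄(q)`.** -/
theorem cosD4 [Finite F] (x y : MulAut ↥(chevD4.group F)) : Lift (NI chevD4 F) x y := by
  refine lift_of_KX (hD := hD4) hfull4 (fun x y hx => ?_) x y
  obtain ⟨g, ψ, π, P, c, rfl, hP, hm, hp⟩ := exists_of_mem_KX hx
  obtain ⟨i, hi, rfl⟩ := sym_all π (Cfsg.Agent.H70.DiagSym.isDiagramSymmetry hD4 hp)
  obtain ⟨j, hj, g', ψ', c', τ, rfl, hm'⟩ := decomp y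
  have hm1 : Mono hD4 ψ (PJ i) c fun _ => 1 :=
    hm.congr (fun s hs => (hP.unique hD4 (ext_PJ i hi) s hs).symm) (fun _ _ => rfl) fun _ _ => rfl
  have h := ll_all hi hj ψ ψ' c c' τ hm1 hm'
  refine lift_congr (x' := ψ) (y' := ψ') ?_ ?_ h
  · have := (NI chevD4 F).inv_mem (inv_mul_conj_mul ψ g)
    rwa [mul_inv_rev, inv_inv] at this
  · have := (NI chevD4 F).inv_mem (inv_mul_conj_mul ψ' g')
    rwa [mul_inv_rev, inv_inv] at this

end Cfsg.Agent.H237.D4C
end

-- part: H157/DG/Euclid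
section
/-!
# S4180: Nielsen moves (helper157)

* `lift_of_rel` : to lift all pairs modulo `N` it is enough to lift the pairs whose first member has exponent zero;
* `isCyclic_ringAut` : the automorphism group of a finite field is cyclic;
* `cos2_congr` : `Cos2` is invariant under isomorphisms.
-/

set_option autoImplicit false

namespace Cfsg.Agent.H157.DG

open Cfsg.Agent.H891.Gen Cfsg.Agent.H891.DG Subgroup

universe u v

section Nielsen

variable {G : Type u} [Group G] {N : Subgroup G} [N.Normal] {x y : G}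

theorem lift_mul (h : Lift N x (y * x)) : Lift N x y := by
  obtain ⟨s, hs, t, ht, h⟩ := h
  refine ⟨s, hs, x * (t * s⁻¹) * x⁻¹, (inferInstance : N.Normal).conj_mem _ (N.mul_mem ht (N.inv_mem hs)) x,
    h.trans ?_⟩
  rw [closure_le]
  have h1 : x * s ∈ _root_.Subgroup.closure ({x * s, y * (x * (t * s⁻¹) * x⁻¹)} : Set G) := _root_.Subgroup.subset_closure (by simp only [_root_.Set.mem_insert_iff, _root_.Set.mem_singleton_iff, _root_.true_or])
  have h2 : y * (x * (t * s⁻¹) * x⁻¹) ∈ _root_.Subgroup.closure ({x * s, y * (x * (t * s⁻¹) * x⁻¹)} : Set G) :=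
    _root_.Subgroup.subset_closure (by simp only [_root_.Set.mem_insert_iff, _root_.Set.mem_singleton_iff, _root_.or_true])
  rintro z (rfl | hz)
  · exact h1
  · rw [Set.mem_singleton_iff] at hz
    subst hz
    have h3 := mul_mem h2 h1
    have e : y * (x * (t * s⁻¹) * x⁻¹) * (x * s) = y * x * t := by group
    rwa [e] at h3

theorem lift_mul_inv (h : Lift N x (y * x⁻¹)) : Lift N x y := by
  obtain ⟨s, hs, t, ht, h⟩ := h
  refine ⟨s, hs, x⁻¹ * t * x * s, N.mul_mem ?_ hs, h.trans ?_⟩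
  · have := (inferInstance : N.Normal).conj_mem _ ht x⁻¹
    rwa [inv_inv] at this
  rw [closure_le]
  have h1 : x * s ∈ _root_.Subgroup.closure ({x * s, y * (x⁻¹ * t * x * s)} : Set G) := _root_.Subgroup.subset_closure (by simp only [_root_.Set.mem_insert_iff, _root_.Set.mem_singleton_iff, _root_.true_or])
  have h2 : y * (x⁻¹ * t * x * s) ∈ _root_.Subgroup.closure ({x * s, y * (x⁻¹ * t * x * s)} : Set G) :=
    _root_.Subgroup.subset_closure (by simp only [_root_.Set.mem_insert_iff, _root_.Set.mem_singleton_iff, _root_.or_true])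
  rintro z (rfl | hz)
  · exact h1
  · rw [Set.mem_singleton_iff] at hz
    subst hz
    have h3 := mul_mem h2 (inv_mem h1)
    have e : y * (x⁻¹ * t * x * s) * (x * s)⁻¹ = y * x⁻¹ * t := by group
    rwa [e] at h3

/-- **Euclid's algorithm.**  `P x a` : the exponent of `x` is `a`. -/
theorem lift_of_rel (P : G → ℤ → Prop) (hinv : ∀ x a, P x a → P x⁻¹ (-a))
    (hmul : ∀ x y a b, P x a → P y b → P (x * y) (a + b))
    (h0 : ∀ x y b, P x 0 → P y b → Lift N x y) :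
    ∀ x y a b, P x a → P y b → Lift N x y := by
  have key : ∀ n : ℕ, ∀ x y a b, P x a → P y b → a.natAbs + b.natAbs ≤ n → Lift N x y := by
    intro n
    induction n with
    | zero =>
      intro x y a b ha hb hn
      have : a = 0 := by omega
      subst this
      exact h0 x y b ha hb
    | succ n ih =>
      have red : ∀ x y a b, P x a → P y b → a.natAbs + b.natAbs ≤ n + 1 → a ≠ 0 → b ≠ 0 →
          a.natAbs ≤ b.natAbs → Lift N x y := by
        intro x y a b ha hb hn ha0 hb0 hab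
        by_cases hs : (0 < a ∧ 0 < b) ∨ (a < 0 ∧ b < 0)
        · refine lift_mul_inv (ih x (y * x⁻¹) a (b + -a) ha (hmul _ _ _ _ hb (hinv _ _ ha)) ?_)
          omega
        · refine lift_mul (ih x (y * x) a (b + a) ha (hmul _ _ _ _ hb ha) ?_)
          omega
      intro x y a b ha hb hn
      by_cases ha0 : a = 0
      · subst ha0
        exact h0 x y b ha hb
      by_cases hb0 : b = 0
      · subst hb0
        exact (h0 y x a hb ha).symm
      rcases le_total a.natAbs b.natAbs with hab | hab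
      · exact red x y a b ha hb hn ha0 hb0 hab
      · exact (red y x b a hb ha (by omega) hb0 ha0 hab).symm
  intro x y a b ha hb
  exact key _ x y a b ha hb le_rfl

end Nielsen

/-- the automorphism group of a finite field is cyclic -/
theorem isCyclic_ringAut {K : Type*} [Field K] [Finite K] : IsCyclic (K ≃+* K) := by
  obtain ⟨p, hp⟩ := CharP.exists K
  have hpp : Nat.Prime p := (CharP.char_is_prime_or_zero K p).resolve_right (CharP.char_ne_zero_of_finite K p)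
  have : Fact p.Prime := ⟨hpp⟩
  let _ : Algebra (ZMod p) K := ZMod.algebra K p
  let e : (K ≃ₐ[ZMod p] K) ≃* (K ≃+* K) :=
    { toFun := fun τ => τ.toRingEquiv
      invFun := fun τ => AlgEquiv.ofRingEquiv (f := τ) (fun r => by
        have : (τ : K →+* K).comp (algebraMap (ZMod p) K) = algebraMap (ZMod p) K := Subsingleton.elim _ _
        exact congrArg (fun g : ZMod p →+* K => g r) this)
      left_inv := fun τ => by ext; rfl
      right_inv := fun τ => by ext; rfl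
      map_mul' := fun τ τ' => rfl }
  exact isCyclic_of_surjective e e.surjective

/-- every automorphism of a finite field is a power of one of them -/
theorem exists_gen (K : Type*) [Field K] [Finite K] : ∃ σ : K ≃+* K, ∀ τ : K ≃+* K, ∃ a : ℤ, τ = σ ^ a := by
  have : IsCyclic (K ≃+* K) := isCyclic_ringAut
  obtain ⟨σ, hσ⟩ := IsCyclic.exists_generator (α := K ≃+* K)
  refine ⟨σ, fun τ => ?_⟩
  obtain ⟨a, ha⟩ := hσ τ
  exact ⟨a, ha.symm⟩

theorem conj_apply_mul {G : Type*} [Group G] (f : MulAut G) (g : G) :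
    f * MulAut.conj g * f⁻¹ = MulAut.conj (f g) := by
  ext y
  show f (g * f⁻¹ y * g⁻¹) = f g * y * (f g)⁻¹
  rw [map_mul, map_mul, map_inv, MulAut.apply_inv_self]

instance inn_normal {G : Type*} [Group G] : (MulAut.conj : G →* MulAut G).range.Normal := by
  refine ⟨?_⟩
  rintro _ ⟨g, rfl⟩ f
  exact ⟨f g, (conj_apply_mul f g).symm⟩

theorem cos2_congr {T : Type u} {T' : Type v} [Group T] [Group T'] (e : T ≃* T') (h : Cos2 T) : Cos2 T' := by
  let E : MulAut T →* MulAut T' :=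
    { toFun := fun f => (e.symm.trans f).trans e
      map_one' := by ext x; simp
      map_mul' := fun f g => by ext x; simp }
  have hE : ∀ (f : MulAut T) (x : T'), E f x = e (f (e.symm x)) := fun f x => rfl
  have hEc : ∀ g : T, E (MulAut.conj g) = MulAut.conj (e g) := by
    intro g
    ext x
    rw [hE, MulAut.conj_apply, map_mul, map_mul, map_inv, e.apply_symm_apply]
    rfl
  have hEs : ∀ f : MulAut T', ∃ g, E g = f := by
    intro f
    refine ⟨(e.trans f).trans e.symm, ?_⟩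
    ext x
    rw [hE]
    simp
  intro x' y'
  obtain ⟨x, rfl⟩ := hEs x'
  obtain ⟨y, rfl⟩ := hEs y'
  obtain ⟨_, ⟨s, rfl⟩, _, ⟨t, rfl⟩, h1⟩ := h x y
  refine ⟨E (MulAut.conj s), ⟨e s, (hEc s).symm⟩, E (MulAut.conj t), ⟨e t, (hEc t).symm⟩, ?_⟩
  have h2 := Subgroup.map_mono (f := E) h1
  rw [MonoidHom.map_closure, Set.image_pair, map_mul, map_mul] at h2
  refine le_trans ?_ h2
  rintro _ ⟨g, rfl⟩
  refine ⟨MulAut.conj (e.symm g), ⟨_, rfl⟩, ?_⟩
  rw [hEc, e.apply_symm_apply]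

end Cfsg.Agent.H157.DG
end

-- part: H237/D4C/Row
section
/-!
# S4180, Cos2 row `PΩ₈⁺(q)` (helper237)
-/

set_option autoImplicit false

namespace Cfsg.Agent.H237.D4C

open Cfsg.Lie Cfsg.Agent.H891.DG

universe u v

theorem cos2_chevD4 (F : Type u) [Field F] [Finite F] : Cos2 ↥(chevD4.group F) := cosD4

/-- **Row `PΩ₈⁺(q)`.** -/
theorem cos2_plus_four {T : Type u} [Group T] {F : Type v} [Field F] [Finite F]
    (e : T ≃* Cfsg.POmega F (Cfsg.quadFormPlus 4 F)) : Cos2 T := by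
  obtain ⟨e0⟩ := Cfsg.Agent.S1082.result (F := F)
  exact Cfsg.Agent.H157.DG.cos2_congr (e0.trans e.symm) (cos2_chevD4 F)

end Cfsg.Agent.H237.D4C
end

private theorem dce_e48670c10ef5 : _root_.True := by
  try have : _root_.True := by simp only [_root_.Cfsg.Agent.H134.Cos.we.congr_simp]
  try have : _root_.True := by simp only [_root_.Cfsg.Agent.H237.D4C.dgx.eq_1]
  try have : _root_.True := by simp only [_root_.Cfsg.Agent.H237.D4C.nK.eq_1]
  try have : _root_.True := by simp only [_root_.Cfsg.Agent.H70.ChevDiag.diagAut.congr_simp]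
  try have : _root_.True := by simp only [_root_.Cfsg.Agent.H237.D4C.nR.eq_1]
  exact _root_.True.intro
end

-- part: H891/DG/RowsCos
section
prune_inst 0x20040180020000000000200000001000040200000001000000000000000000000000000001100000200020000000000000000000000000000000000000000000000000000008400008000000000000000000020000000000000000000000000000000
set_option linter.all false
open scoped Cfsg.Agent.FastGrp

-- part: H984/DG/CosRows
section
/-!
# S4180, TEAM GEN, C2: the rows `psl2`, `psu3`, `sz`, `ree` of `Rows Cos2` (helper984)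
-/

set_option autoImplicit false

namespace Cfsg.Agent.H984.DG

open Cfsg.Agent.H440.TwoGen Cfsg.Agent.H891.Gen Cfsg.Agent.H891.DG Subgroup

universe u v w

theorem finite_of {L : Type u} {M : Type v} [Group L] [Group M] [Finite L] (e : L ≃* M) : Finite M :=
  Finite.of_equiv L e.toEquiv

/-- **`Rows.psl2` of `Rows Cos2`** -/
theorem cos2_psl2 : ∀ (T : Type u) [Group T] [Finite T] [IsSimpleGroup T] (F : Type) [Field F] [Fintype F],
    4 ≤ Fintype.card F → Nonempty (T ≃* Matrix.ProjectiveSpecialLinearGroup (Fin 2) F) → Cos2 T := by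
  rintro T _ _ _ F _ _ hF ⟨e⟩
  have := finite_of e
  exact cos2_congr e (cos2_of_sub fun S hS => Cfsg.Agent.H791.Gen.twoGen_sub hF S hS)

/-- **`Rows.psu3` of `Rows Cos2`** -/
theorem cos2_psu3 : ∀ (T : Type u) [Group T] [Finite T] [IsSimpleGroup T] (F : Type) [Field F] [Fintype F] (q : ℕ),
    3 ≤ q → Fintype.card F = q ^ 2 → Nonempty (T ≃* Cfsg.PSU 3 F q) → Cos2 T := by
  rintro T _ _ _ F _ _ q hq hF ⟨e⟩
  have := finite_of e
  exact cos2_congr e (cos2_of_sub fun S hS =>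
    Cfsg.Agent.H450.GenU.twoGen_of_inn hF hq S fun x => hS ⟨x, rfl⟩)

/-- **`Rows.sz` of `Rows Cos2`** -/
theorem cos2_sz : ∀ (T : Type u) [Group T] [Finite T] [IsSimpleGroup T], Cfsg.Lie.IsoSuzuki T → Cos2 T := by
  rintro T _ _ _ ⟨F, _, _, m, hm, hF, ⟨e⟩⟩
  exact cos2_of_row fun G _ N hN hc ⟨f⟩ => Cfsg.Agent.H491.Gen.Sz.twoGen hN hc hm hF (f.trans e)

/-- **`Rows.ree` of `Rows Cos2`** -/
theorem cos2_ree : ∀ (T : Type u) [Group T] [Finite T] [IsSimpleGroup T], Cfsg.Lie.IsoRee T → Cos2 T := by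
  rintro T _ _ _ ⟨K, _, _, m, hm, hK, ⟨e⟩⟩
  exact cos2_of_row fun G _ N hN hc ⟨f⟩ => Cfsg.Agent.H491.Gen.Ree.twoGen hN hc hm hK (f.trans e)

end Cfsg.Agent.H984.DG
end

-- part: H95/DG/CosF4
section
/-!
# S4180, C14: the row `Cos2` for `F₄(q)` (helper95)
-/

set_option autoImplicit false

namespace Cfsg.Agent.H95.DG.CosF4

open Cfsg Cfsg.Lie Cfsg.Agent.H891.DG Cfsg.Agent.H891.Gen Cfsg.Agent.H95.DG.F4 Subgroup

universe u v

/-- transfer -/
theorem cos2_of_equiv {T : Type u} [Group T] {K : Type v} [Group K] (e : T ≃* K) (h : Cos2 K) : Cos2 T := by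
  intro x y
  obtain ⟨s, ⟨s', hs'⟩, t, ⟨t', ht'⟩, hst⟩ := h (MulAut.congr e x) (MulAut.congr e y)
  have hconj : ∀ a : T, MulAut.congr e (MulAut.conj a) = MulAut.conj (e a) := by
    intro a
    ext z
    show e (a * e.symm z * a⁻¹) = e a * z * (e a)⁻¹
    rw [map_mul, map_mul, map_inv, e.apply_symm_apply]
  refine ⟨MulAut.conj (e.symm s'), ⟨_, rfl⟩, MulAut.conj (e.symm t'), ⟨_, rfl⟩, ?_⟩
  rintro _ ⟨g, rfl⟩
  have h1 := hst ⟨e g, rfl⟩
  have h2 : _root_.Subgroup.closure ({MulAut.congr e x * s, MulAut.congr e y * t} : Set (MulAut K)) =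
      (_root_.Subgroup.closure ({x * MulAut.conj (e.symm s'), y * MulAut.conj (e.symm t')} : Set (MulAut T))).map
        (MulAut.congr e).toMonoidHom := by
    rw [MonoidHom.map_closure, Set.image_pair]
    congr 1
    show _ = ({MulAut.congr e (x * MulAut.conj (e.symm s')), MulAut.congr e (y * MulAut.conj (e.symm t'))} :
      Set (MulAut K))
    rw [map_mul, map_mul, hconj, hconj, e.apply_symm_apply, e.apply_symm_apply, hs', ht']
  rw [h2] at h1
  obtain ⟨z, hz, hze⟩ := h1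
  have h3 : z = MulAut.conj g := by
    apply (MulAut.congr e).injective
    rw [hconj]
    exact hze
  rw [← h3]
  exact hz

/-- `Cos2` for a group `K` with cyclic `Out K`, from pairs `p ∈ Inn`, `n ψ` (`n ∈ Inn`). -/
theorem cos2_of_pairs {K : Type u} [Group K] [Finite K] [IsCyclic (Cfsg.Out K)]
    (h : ∀ ψ : MulAut K, ∃ p ∈ Cfsg.Inn K, ∃ n ∈ Cfsg.Inn K, Cfsg.Inn K ≤ _root_.Subgroup.closure {p, n * ψ}) : Cos2 K := by
  have : Finite (MulAut K) := Finite.of_injective (fun f : MulAut K => (f : K → K)) DFunLike.coe_injective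
  have : Finite (Cfsg.Out K) := inferInstance
  refine Nielsen.cos2_of_ker (QuotientGroup.mk' (Cfsg.Inn K)) fun x y hx => ?_
  have hx' : x ∈ Cfsg.Inn K := by
    rw [← QuotientGroup.eq_one_iff]
    exact hx
  obtain ⟨p, hp, n, hn, hpn⟩ := h y
  refine ⟨x⁻¹ * p, mul_mem (inv_mem hx') hp, y⁻¹ * n * y, ?_, ?_⟩
  · have := (Nielsen.inn_normal K).conj_mem n hn y⁻¹
    rwa [inv_inv] at this
  · rwa [mul_inv_cancel_left, mul_assoc, mul_inv_cancel_left]

theorem cos2_F4 (F : Type) [Field F] [Finite F] : Cos2 ↥(chevF4.group F) := by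
  have : Finite ↥(chevF4.group F) := inferInstance
  exact cos2_of_pairs exists_pair

/-- **The row `Rows.f4` of `Rows Cos2`.** -/
theorem cos2_f4 (T : Type u) [Group T] [Finite T] [IsSimpleGroup T] (h : Cfsg.Lie.IsoF4 T) : Cos2 T := by
  obtain ⟨F, _, _, ⟨e⟩⟩ := h
  exact cos2_of_equiv e (cos2_F4 F)

end Cfsg.Agent.H95.DG.CosF4
end

-- part: H157/DG/TwE6
section
/-!
# S4180, task C18: `Cos2` for `²E₆(q)` (helper157)
-/

set_option autoImplicit false
set_option linter.unusedSectionVars false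
set_option maxHeartbeats 400000

namespace Cfsg.Agent.H157.DG.TwE6

open Cfsg.Lie Cfsg.Agent.ChevalleyStructure.TwE6Basic
open Cfsg.Agent.ChevalleyStructure.Elts (hG nG xG coe_hG coe_xG hG_def nG_def)
open Cfsg.Agent.H136.TwE6 (W w w_conj rho_W c56 x_56_36 x_36_56 sg56 sg36 fix56 W_vals mem40 commutator_eq eps40
  P P_add P_zero P_inv P_inj XS w_mem hG_conj)
open Cfsg.Agent.ChevStructure.FieldMap (glEquiv)
open Cfsg.Agent.CpAut.RgdTwStd (glE_mul glE_one glE_xG coe_fldG)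
open Cfsg.Agent.CpAut.RgdTwE6 (st)
open Cfsg.Agent.H70.ChevDiag (dG dG_conj IsMul)
open Cfsg.Agent.H166.TwDiag (dgA coe_dgA)
open Cfsg.Agent.H166.OutTwESix (Ok conj_mem conj_mem')

universe u

variable {K : Type u} [Field K]

/-! ### matrices acting on the root groups by scalars -/

/-- `d` acts on every root group by a scalar -/
def Sc (d : GL chevE6.Idx K) : Prop := ∀ s : Fin 72, ∃ κ : K, ∀ a, d * x s.val a * d⁻¹ = x s.val (κ * a)

theorem twisted_le_of {q : ℕ} {L : Subgroup (GL chevE6.Idx K)} (h : ∀ (s : Fin 72) (a : K), x s.val a ∈ L) :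
    twistedE6 K q ≤ L := by
  rw [twisted_le_iff]
  constructor
  · intro t _ r hr
    have : r < 72 := by
      simp only [List.mem_cons, List.not_mem_nil, or_false] at hr
      omega
    exact h ⟨r, this⟩ t
  · intro t rs hr
    have : rs.1 < 72 ∧ rs.2 < 72 := by
      simp only [List.mem_cons, List.not_mem_nil, or_false] at hr
      rcases hr with rfl | rfl | rfl | rfl <;> decide
    exact L.mul_mem (h ⟨rs.1, this.1⟩ _) (h ⟨rs.2, this.2⟩ _)

theorem Sc.comm {d d' : GL chevE6.Idx K} (h : Sc d) (h' : Sc d') {q : ℕ} {g : GL chevE6.Idx K}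
    (hg : g ∈ twistedE6 K q) : d * (d' * g * d'⁻¹) * d⁻¹ = d' * (d * g * d⁻¹) * d'⁻¹ := by
  let L : Subgroup (GL chevE6.Idx K) :=
    (MulAut.conj (d * d')).toMonoidHom.eqLocus (MulAut.conj (d' * d)).toMonoidHom
  have hL : twistedE6 K q ≤ L := by
    refine twisted_le_of fun s a => ?_
    show (d * d') * x s.val a * (d * d')⁻¹ = (d' * d) * x s.val a * (d' * d)⁻¹
    obtain ⟨κ, hk⟩ := h s
    obtain ⟨κ', hk'⟩ := h' s
    have e1 : (d * d') * x s.val a * (d * d')⁻¹ = d * (d' * x s.val a * d'⁻¹) * d⁻¹ := by group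
    have e2 : (d' * d) * x s.val a * (d' * d)⁻¹ = d' * (d * x s.val a * d⁻¹) * d'⁻¹ := by group
    rw [e1, e2, hk, hk', hk, hk']
    congr 1
    ring
  have h1 := hL hg
  change (d * d') * g * (d * d')⁻¹ = (d' * d) * g * (d' * d)⁻¹ at h1
  have e1 : (d * d') * g * (d * d')⁻¹ = d * (d' * g * d'⁻¹) * d⁻¹ := by group
  have e2 : (d' * d) * g * (d' * d)⁻¹ = d' * (d * g * d⁻¹) * d'⁻¹ := by group
  rw [← e1, ← e2, h1]

/-! ### the semilinear monomial map -/

/-- the map `g ↦ w d τ(g) d⁻¹ w⁻¹` -/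
noncomputable def Psi (χ : ℕ → Kˣ) (τ : K ≃+* K) : GL chevE6.Idx K ≃* GL chevE6.Idx K :=
  (glEquiv chevE6 τ).trans (MulAut.conj (w K * dG chevE6 χ))

theorem Psi_apply (χ : ℕ → Kˣ) (τ : K ≃+* K) (g : GL chevE6.Idx K) :
    Psi χ τ g = w K * (dG chevE6 χ * glEquiv chevE6 τ g * (dG chevE6 χ)⁻¹) * (w K)⁻¹ := by
  show (w K * dG chevE6 χ) * glEquiv chevE6 τ g * (w K * dG chevE6 χ)⁻¹ = _
  group

theorem Psi_x {χ : ℕ → Kˣ} (hM : IsMul chevE6 χ) (τ : K ≃+* K) (s : Fin 72) : ∃ κ : K, κ ≠ 0 ∧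
    ∀ a, Psi χ τ (x s.val a) = x (W s).val (κ * τ a) := by
  obtain ⟨η, hη, h1⟩ := w_conj (K := K) s
  refine ⟨η * (χ s.val : K), mul_ne_zero hη (χ s.val).ne_zero, fun a => ?_⟩
  rw [Psi_apply, glE_xG, dG_conj hE6 hM, h1]
  congr 1
  ring

theorem W_surj (s : Fin 72) : ∃ r, W r = s := by
  refine ⟨wP 3 (wP 2 (wP 1 (wP 0 s))), ?_⟩
  have h : ∀ (i : Fin 4) (r : Fin 72), wP i (wP i r) = r := by
    intro i r
    apply Fin.ext
    rw [wP_val, wP_val]
    exact wp_wp i r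
  unfold W
  rw [h, h, h, h]

theorem Psi_Sc {χ : ℕ → Kˣ} (hM : IsMul chevE6 χ) (τ : K ≃+* K) {d : GL chevE6.Idx K} (hd : Sc d) :
    Sc (Psi χ τ d) := by
  intro s
  obtain ⟨r, rfl⟩ := W_surj s
  obtain ⟨κ, hκ, h1⟩ := Psi_x hM τ r
  obtain ⟨μ, hμ⟩ := hd r
  refine ⟨τ μ, fun a => ?_⟩
  have e : x (W r).val a = Psi χ τ (x r.val (τ.symm (κ⁻¹ * a))) := by
    rw [h1, τ.apply_symm_apply, mul_inv_cancel_left₀ hκ]
  rw [e, ← map_inv, ← map_mul, ← map_mul, hμ, h1, map_mul, τ.apply_symm_apply]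
  congr 1
  rw [mul_left_comm, mul_inv_cancel_left₀ hκ]

/-! ### the torus elements -/

section Tor

variable (φ : K →+* K)

/-- the short root elements of the node 2 -/
def Q (t : K) : GL chevE6.Idx K := x 42 t * x 37 (φ t)

/-- the torus element acting by `t` on both short nodes -/
def hh (t : K) : GL chevE6.Idx K := (hG hE6 56 t * hG hE6 36 (φ t)) * (hG hE6 42 t * hG hE6 37 (φ t))

theorem hh_conj {s : ℕ} (hs : s < 72) {c : K} (hc : c ≠ 0) (t : K) : hh φ c * x s t * (hh φ c)⁻¹ =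
    x s (c ^ (chevE6.cartan 0 s) * ((φ c) ^ (chevE6.cartan 5 s) * (c ^ (chevE6.cartan 2 s) *
      ((φ c) ^ (chevE6.cartan 4 s) * t)))) := by
  have hc' : φ c ≠ 0 := (map_ne_zero φ).2 hc
  have e : hh φ c * x s t * (hh φ c)⁻¹ =
      hG hE6 (chevE6.simple 0) c * (hG hE6 (chevE6.simple 5) (φ c) * (hG hE6 (chevE6.simple 2) c *
        (hG hE6 (chevE6.simple 4) (φ c) * x s t * (hG hE6 (chevE6.simple 4) (φ c))⁻¹) *
        (hG hE6 (chevE6.simple 2) c)⁻¹) * (hG hE6 (chevE6.simple 5) (φ c))⁻¹) *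
        (hG hE6 (chevE6.simple 0) c)⁻¹ := by
    show (hG hE6 56 c * hG hE6 36 (φ c)) * (hG hE6 42 c * hG hE6 37 (φ c)) * x s t *
      ((hG hE6 56 c * hG hE6 36 (φ c)) * (hG hE6 42 c * hG hE6 37 (φ c)))⁻¹ =
      hG hE6 56 c * (hG hE6 36 (φ c) * (hG hE6 42 c * (hG hE6 37 (φ c) * x s t * (hG hE6 37 (φ c))⁻¹) *
        (hG hE6 42 c)⁻¹) * (hG hE6 36 (φ c))⁻¹) * (hG hE6 56 c)⁻¹
    group
  rw [e, hG_conj (by norm_num) hs hc', hG_conj (by norm_num) hs hc, hG_conj (by norm_num) hs hc',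
    hG_conj (by norm_num) hs hc]

theorem cartan_tab : chevE6.cartan 0 56 = 2 ∧ chevE6.cartan 5 56 = 0 ∧ chevE6.cartan 2 56 = -1 ∧
    chevE6.cartan 4 56 = 0 ∧ chevE6.cartan 0 36 = 0 ∧ chevE6.cartan 5 36 = 2 ∧ chevE6.cartan 2 36 = 0 ∧
    chevE6.cartan 4 36 = -1 ∧ chevE6.cartan 0 42 = -1 ∧ chevE6.cartan 5 42 = 0 ∧ chevE6.cartan 2 42 = 2 ∧
    chevE6.cartan 4 42 = 0 ∧ chevE6.cartan 0 37 = 0 ∧ chevE6.cartan 5 37 = -1 ∧ chevE6.cartan 2 37 = 0 ∧
    chevE6.cartan 4 37 = 2 := by decide +kernel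

theorem pow_aux {c : K} (hc : c ≠ 0) (t : K) : c ^ (2 : ℤ) * (c ^ (-1 : ℤ) * t) = c * t ∧
    c ^ (-1 : ℤ) * (c ^ (2 : ℤ) * t) = c * t := by
  rw [zpow_neg_one]
  have z2 : c ^ (2 : ℤ) = c * c := by
    have : (2 : ℤ) = 1 + 1 := rfl
    rw [this, zpow_add₀ hc, zpow_one]
  rw [z2]
  constructor
  · rw [mul_assoc, mul_inv_cancel_left₀ hc]
  · rw [mul_assoc, inv_mul_cancel_left₀ hc]

variable {φ}

theorem hh_tab {c : K} (hc : c ≠ 0) (t : K) :
    hh φ c * x 56 t * (hh φ c)⁻¹ = x 56 (c * t) ∧ hh φ c * x 36 t * (hh φ c)⁻¹ = x 36 (φ c * t) ∧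
    hh φ c * x 42 t * (hh φ c)⁻¹ = x 42 (c * t) ∧ hh φ c * x 37 t * (hh φ c)⁻¹ = x 37 (φ c * t) := by
  have hc' : φ c ≠ 0 := (map_ne_zero φ).2 hc
  obtain ⟨a1, a2, a3, a4, b1, b2, b3, b4, c1, c2, c3, c4, d1, d2, d3, d4⟩ := cartan_tab
  refine ⟨?_, ?_, ?_, ?_⟩
  · rw [hh_conj φ (by norm_num) hc, a1, a2, a3, a4]; simp only [zpow_zero, one_mul, (pow_aux hc t).1]
  · rw [hh_conj φ (by norm_num) hc, b1, b2, b3, b4]; simp only [zpow_zero, one_mul, (pow_aux hc' t).1]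
  · rw [hh_conj φ (by norm_num) hc, c1, c2, c3, c4]; simp only [zpow_zero, one_mul, (pow_aux hc t).2]
  · rw [hh_conj φ (by norm_num) hc, d1, d2, d3, d4]; simp only [zpow_zero, one_mul, (pow_aux hc' t).2]

theorem conj_conj {G : Type*} [Group G] (a b y : G) : a * b * y * (a * b)⁻¹ = a * (b * y * b⁻¹) * a⁻¹ := by group

theorem Sc_d {χ : ℕ → Kˣ} (hM : IsMul chevE6 χ) {c : K} (hc : c ≠ 0) : Sc (dG chevE6 χ * hh φ c) := by
  intro s
  refine ⟨(χ s.val : K) * (c ^ (chevE6.cartan 0 s) * ((φ c) ^ (chevE6.cartan 5 s) * (c ^ (chevE6.cartan 2 s) *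
      ((φ c) ^ (chevE6.cartan 4 s))))), fun a => ?_⟩
  rw [conj_conj, hh_conj φ s.isLt hc, dG_conj hE6 hM]
  congr 1
  ring

theorem d_P {q : ℕ} (hφ : ∀ t, φ t = t ^ q) {χ : ℕ → Kˣ} (hM : IsMul chevE6 χ) (h : Ok q χ) {c : K} (hc : c ≠ 0)
    (a : K) : (dG chevE6 χ * hh φ c) * P φ a * (dG chevE6 χ * hh φ c)⁻¹ = P φ ((χ 56 : K) * c * a) := by
  have e1 : (χ 36 : K) = φ (χ 56 : K) := by
    have : χ 36 = χ 56 ^ q := h.2 (56, 36) (by simp)
    rw [this, hφ, Units.val_pow_eq_pow_val]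
  have e : ∀ g y z : GL chevE6.Idx K, g * (y * z) * g⁻¹ = (g * y * g⁻¹) * (g * z * g⁻¹) := by
    intro g y z; group
  unfold P
  rw [e, conj_conj, conj_conj, (hh_tab hc _).1, (hh_tab hc _).2.1, dG_conj hE6 hM, dG_conj hE6 hM, e1, map_mul,
    map_mul, mul_assoc, mul_assoc]

theorem d_Q {q : ℕ} (hφ : ∀ t, φ t = t ^ q) {χ : ℕ → Kˣ} (hM : IsMul chevE6 χ) (h : Ok q χ) {c : K} (hc : c ≠ 0)
    (a : K) : (dG chevE6 χ * hh φ c) * Q φ a * (dG chevE6 χ * hh φ c)⁻¹ = Q φ ((χ 42 : K) * c * a) := by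
  have e1 : (χ 37 : K) = φ (χ 42 : K) := by
    have : χ 37 = χ 42 ^ q := h.2 (42, 37) (by simp)
    rw [this, hφ, Units.val_pow_eq_pow_val]
  have e : ∀ g y z : GL chevE6.Idx K, g * (y * z) * g⁻¹ = (g * y * g⁻¹) * (g * z * g⁻¹) := by
    intro g y z; group
  unfold Q
  rw [e, conj_conj, conj_conj, (hh_tab hc _).2.2.1, (hh_tab hc _).2.2.2, dG_conj hE6 hM, dG_conj hE6 hM, e1, map_mul,
    map_mul, mul_assoc, mul_assoc]

end Tor

/-! ### the root elements of the class of 40 -/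

section Forty

variable {q : ℕ} {φ : K →+* K} (hφ : ∀ t, φ t = t ^ q) (hqq : ∀ t : K, (t ^ q) ^ q = t)

include hφ hqq in
theorem exists_orbit (k : ℕ) (a : K) : ∃ b : K, x (W^[k] 36).val a * x (W^[k] 56).val b ∈ twistedE6 K q := by
  induction k generalizing a with
  | zero =>
    refine ⟨φ a, ?_⟩
    show x 36 a * x 56 (φ a) ∈ _
    have h1 := pair_mem (K := K) (q := q) (φ a) (rs := (56, 36)) (by simp)
    have h2 : (φ a) ^ q = a := by rw [hφ, hqq]
    rw [h2] at h1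
    change x 56 (φ a) * x 36 a ∈ _ at h1
    rwa [c56]
  | succ k ih =>
    obtain ⟨η, hη, h1⟩ := w_conj (K := K) (W^[k] 36)
    obtain ⟨η', hη', h2⟩ := w_conj (K := K) (W^[k] 56)
    obtain ⟨b, hb⟩ := ih (η⁻¹ * a)
    have hw := w_mem (K := K) hφ
    have h3 := mul_mem (mul_mem hw hb) (inv_mem hw)
    refine ⟨η' * b, ?_⟩
    have e : w K * (x (W^[k] 36).val (η⁻¹ * a) * x (W^[k] 56).val b) * (w K)⁻¹ =
        (w K * x (W^[k] 36).val (η⁻¹ * a) * (w K)⁻¹) * (w K * x (W^[k] 56).val b * (w K)⁻¹) := by group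
    rw [e, h1, h2, mul_inv_cancel_left₀ hη] at h3
    rw [Function.iterate_succ_apply', Function.iterate_succ_apply']
    exact h3

include hφ hqq in
theorem orbit_inj (k : ℕ) (a : K) (h : x (W^[k] 56).val a ∈ fix φ) : a = 0 := by
  induction k generalizing a with
  | zero =>
    change x 56 a ∈ fix φ at h
    rw [mem_fix, sg56] at h
    exact x_56_36 h.symm
  | succ k ih =>
    obtain ⟨η, hη, h1⟩ := w_conj (K := K) (W^[k] 56)
    rw [Function.iterate_succ_apply'] at h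
    have hw : w K ∈ fix φ := twisted_le_fix φ hφ hqq (w_mem (K := K) hφ)
    have h2 : x (W^[k] 56).val (η⁻¹ * a) = (w K)⁻¹ * x (W (W^[k] 56)).val a * w K := by
      have := h1 (η⁻¹ * a)
      rw [mul_inv_cancel_left₀ hη] at this
      rw [← this]; group
    have h3 := ih (η⁻¹ * a) (by rw [h2]; exact mul_mem (mul_mem (inv_mem hw) h) hw)
    exact (mul_eq_zero.1 h3).resolve_left (inv_ne_zero hη)

theorem W8 : W^[8] 36 = 40 ∧ W^[8] 56 = 43 := by decide +kernel

include hφ hqq in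
theorem mem40S (t : K) : x 40 t * x 43 (-φ t) ∈ twistedE6 K q := by
  have hφφ : ∀ t, φ (φ t) = t := by intro t; rw [hφ, hφ, hqq]
  obtain ⟨b, hb⟩ := exists_orbit hφ hqq 8 t
  rw [W8.1, W8.2] at hb
  change x 40 t * x 43 b ∈ twistedE6 K q at hb
  have h1 := twisted_le_fix φ hφ hqq hb
  have h2 := mem40 (K := K) (φ := φ) hφφ t
  have h3 : x 43 (-(-φ t) + b) ∈ fix φ := by
    have h4 := mul_mem (inv_mem h2) h1
    have e : (x 40 t * x 43 (-φ t))⁻¹ * (x 40 t * x 43 b) = x 43 (-(-φ t) + b) := by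
      rw [← x_add, ← x_inv]; group
    rwa [e] at h4
  have h5 : -(-φ t) + b = 0 := by
    refine orbit_inj hφ hqq 8 _ ?_
    rw [W8.2]
    exact h3
  have h6 : b = -φ t := by
    rw [neg_neg] at h5
    exact eq_neg_of_add_eq_zero_right h5
  rwa [h6] at hb

end Forty

/-! ### closure steps in `Aut S` -/

section Steps

variable {q : ℕ} {φ : K →+* K} {χ : ℕ → Kˣ} (hM : IsMul chevE6 χ) (τ : K ≃+* K)

/-- the elements of `S` inducing elements of `M`, as a subgroup of the general linear group -/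
def Lo (M : Subgroup (MulAut ↥(twistedE6 K q))) : Subgroup (GL chevE6.Idx K) :=
  (M.comap (MulAut.conj : ↥(twistedE6 K q) →* _)).map (twistedE6 K q).subtype

theorem mem_Lo {M : Subgroup (MulAut ↥(twistedE6 K q))} {g : GL chevE6.Idx K} :
    g ∈ Lo M ↔ ∃ hg : g ∈ twistedE6 K q, MulAut.conj (⟨g, hg⟩ : ↥(twistedE6 K q)) ∈ M := by
  constructor
  · rintro ⟨y, hy, rfl⟩
    exact ⟨y.2, hy⟩
  · rintro ⟨hg, h⟩
    exact ⟨⟨g, hg⟩, h, rfl⟩

theorem conj_apply_mul {G : Type*} [Group G] (f : MulAut G) (g : G) :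
    f * MulAut.conj g * f⁻¹ = MulAut.conj (f g) := by
  ext y
  show f (g * f⁻¹ y * g⁻¹) = f g * y * (f g)⁻¹
  rw [map_mul, map_mul, map_inv, MulAut.apply_inv_self]

theorem Lo_map {M : Subgroup (MulAut ↥(twistedE6 K q))} {Ψ : MulAut ↥(twistedE6 K q)} (hΨM : Ψ ∈ M)
    {F : GL chevE6.Idx K ≃* GL chevE6.Idx K} (hF : ∀ g : ↥(twistedE6 K q), ((Ψ g : ↥(twistedE6 K q)) : GL chevE6.Idx K) = F g)
    {g : GL chevE6.Idx K} (hg : g ∈ Lo M) : F g ∈ Lo M := by
  obtain ⟨h1, h2⟩ := mem_Lo.1 hg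
  refine ⟨Ψ ⟨g, h1⟩, ?_, hF _⟩
  show MulAut.conj (Ψ ⟨g, h1⟩) ∈ M
  rw [← conj_apply_mul]
  exact M.mul_mem (M.mul_mem hΨM h2) (M.inv_mem hΨM)

/-- membership of the short root group of `r` -/
def Short (M : Subgroup (MulAut ↥(twistedE6 K q))) (r : Fin 72) : Prop :=
  ∀ a b : K, x r.val a * x (rho r).val b ∈ twistedE6 K q → x r.val a * x (rho r).val b ∈ Lo M

/-- membership of the long root group of `r` -/
def Long (M : Subgroup (MulAut ↥(twistedE6 K q))) (r : Fin 72) : Prop :=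
  ∀ a : K, x r.val a ∈ twistedE6 K q → x r.val a ∈ Lo M

variable {M : Subgroup (MulAut ↥(twistedE6 K q))} {Ψ : MulAut ↥(twistedE6 K q)} (hΨM : Ψ ∈ M)
  (hΨ : ∀ g : ↥(twistedE6 K q), ((Ψ g : ↥(twistedE6 K q)) : GL chevE6.Idx K) = Psi χ τ g)

include hΨ in
theorem preimage {g : GL chevE6.Idx K} (hg : Psi χ τ g ∈ twistedE6 K q) : g ∈ twistedE6 K q := by
  have h1 := hΨ (Ψ⁻¹ ⟨Psi χ τ g, hg⟩)
  rw [MulAut.apply_inv_self] at h1
  have h2 : g = (Ψ⁻¹ ⟨Psi χ τ g, hg⟩ : ↥(twistedE6 K q)) := (Psi χ τ).injective h1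
  rw [h2]
  exact (Ψ⁻¹ ⟨Psi χ τ g, hg⟩ : ↥(twistedE6 K q)).2

include hM hΨM hΨ in
theorem Short.step {r : Fin 72} (h : Short M r) : Short M (W r) := by
  intro a b hab
  obtain ⟨κ, hκ, h1⟩ := Psi_x hM τ r
  obtain ⟨κ', hκ', h2⟩ := Psi_x hM τ (rho r)
  rw [rho_W] at hab ⊢
  have e : Psi χ τ (x r.val (τ.symm (κ⁻¹ * a)) * x (rho r).val (τ.symm (κ'⁻¹ * b))) =
      x (W r).val a * x (W (rho r)).val b := by
    rw [map_mul, h1, h2, τ.apply_symm_apply, τ.apply_symm_apply, mul_inv_cancel_left₀ hκ,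
      mul_inv_cancel_left₀ hκ']
  rw [← e] at hab ⊢
  exact Lo_map hΨM hΨ (h _ _ (preimage τ hΨ hab))

include hM hΨM hΨ in
theorem Long.step {r : Fin 72} (h : Long M r) : Long M (W r) := by
  intro a hab
  obtain ⟨κ, hκ, h1⟩ := Psi_x hM τ r
  have e : Psi χ τ (x r.val (τ.symm (κ⁻¹ * a))) = x (W r).val a := by
    rw [h1, τ.apply_symm_apply, mul_inv_cancel_left₀ hκ]
  rw [← e] at hab ⊢
  exact Lo_map hΨM hΨ (h _ (preimage τ hΨ hab))

include hM hΨM hΨ in
theorem Short.iter {r : Fin 72} (h : Short M r) (k : ℕ) : Short M (W^[k] r) := by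
  induction k with
  | zero => exact h
  | succ k ih =>
    rw [Function.iterate_succ_apply']
    exact Short.step hM τ hΨM hΨ ih

include hM hΨM hΨ in
theorem Long.iter {r : Fin 72} (h : Long M r) (k : ℕ) : Long M (W^[k] r) := by
  induction k with
  | zero => exact h
  | succ k ih =>
    rw [Function.iterate_succ_apply']
    exact Long.step hM τ hΨM hΨ ih

theorem long39 (hφ : ∀ t, φ t = t ^ q) (hqq : ∀ t : K, (t ^ q) ^ q = t) (htr : ∀ v, φ v = v → ∃ t, t + φ t = v)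
    (h40 : Short M 40) (h29 : Short M 29) : Long M 39 := by
  obtain ⟨e1, e2, r1, r2⟩ := eps40
  have r3 : rho 29 = 34 := by decide +kernel
  intro v hv
  have hv' : φ v = v := by
    have hv0 := twisted_le_fix φ hφ hqq hv
    have h2 := sg_x_class φ (i := 1) (r := 39) (by decide +kernel) v
    have r4 : rho 39 = 39 := by decide +kernel
    rw [r4] at h2
    change sg φ (x 39 v) = x 39 (φ v) at h2
    change x 39 v ∈ fix φ at hv0
    rw [mem_fix, h2] at hv0
    exact x_injective (by norm_num) hv0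
  obtain ⟨t, ht⟩ := htr v hv'
  have h3 := h40 t (-φ t) (by rw [r1]; exact mem40S hφ hqq t)
  have h1 : x 29 (1 : K) * x 34 1 ∈ twistedE6 K q := by
    have := pair_mem (K := K) (q := q) (1 : K) (rs := (29, 34)) (by simp)
    rwa [one_pow] at this
  have h4 := h29 1 1 (by rw [r3]; exact h1)
  rw [r1] at h3
  rw [r3] at h4
  have h5 := (Lo M).mul_mem ((Lo M).mul_mem ((Lo M).mul_mem h4 h3) ((Lo M).inv_mem h4)) ((Lo M).inv_mem h3)
  change (x 29 1 * x 34 1) * (x 40 t * x 43 (-φ t)) * (x 29 1 * x 34 1)⁻¹ * (x 40 t * x 43 (-φ t))⁻¹ ∈ Lo M at h5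
  rw [commutator_eq, sub_neg_eq_add, ht] at h5
  exact h5

include hM hΨM hΨ in
/-- the closure steps -/
theorem le_Lo [Fintype K] (hφ : ∀ t, φ t = t ^ q) (hqq : ∀ t : K, (t ^ q) ^ q = t) (hq2 : 2 ≤ q)
    (hK : Fintype.card K = q ^ 2) (hP : ∀ a, P φ a ∈ Lo M) : twistedE6 K q ≤ Lo M := by
  obtain ⟨w1, w2, w3, w4, w5, w6, w7, r1, r2, r3, r4⟩ := W_vals
  have hfix := twisted_le_fix φ hφ hqq
  have h36 : Short M 36 := by
    intro a b hab
    rw [r4] at hab ⊢
    change x 36 a * x 56 b ∈ twistedE6 K q at hab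
    change x 36 a * x 56 b ∈ Lo M
    rw [c56] at hab ⊢
    rw [fix56 (hfix hab)]
    exact hP b
  have h29 : Short M 29 := by rw [← w1]; exact Short.iter hM τ hΨM hΨ h36 5
  have h15 : Short M 15 := by rw [← w2]; exact Short.iter hM τ hΨM hΨ h36 6
  have h40 : Short M 40 := by rw [← w3]; exact Short.iter hM τ hΨM hΨ h36 8
  have h37 : Short M 37 := by rw [← w4]; exact Short.iter hM τ hΨM hΨ h36 11
  have h39 : Long M 39 :=
    long39 hφ hqq (fun v hv => Cfsg.Agent.H136.FieldLem.exists_trace_two hq2 hK φ hφ hv) h40 h29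
  have h25 : Long M 25 := by rw [← w5]; exact Long.iter hM τ hΨM hΨ h39 5
  have h32 : Long M 32 := by rw [← w6]; exact Long.iter hM τ hΨM hΨ h39 6
  have h46 : Long M 46 := by rw [← w7]; exact Long.iter hM τ hΨM hΨ h39 11
  rw [twisted_le_iff]
  constructor
  · intro t ht r hr
    have hf : x r t ∈ twistedE6 K q := single_mem ht hr
    simp only [List.mem_cons, List.not_mem_nil, or_false] at hr
    rcases hr with rfl | rfl | rfl | rfl
    · exact h46 t hf
    · exact h25 t hf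
    · exact h39 t hf
    · exact h32 t hf
  · intro t rs hr
    have hf : x rs.1 t * x rs.2 (t ^ q) ∈ twistedE6 K q := pair_mem t hr
    simp only [List.mem_cons, List.not_mem_nil, or_false] at hr
    rcases hr with rfl | rfl | rfl | rfl
    · rw [← hφ]
      exact hP t
    · exact h15 t (t ^ q) hf
    · have hcm : x 42 t * x 37 (t ^ q) = x 37 (t ^ q) * x 42 t :=
        comm_class (K := K) (i := 2) (r := 37) (s := 42) (by decide +kernel) (by decide +kernel) (by decide)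
          (by decide +kernel) _ _
      change x 42 t * x 37 (t ^ q) ∈ twistedE6 K q at hf
      change x 42 t * x 37 (t ^ q) ∈ Lo M
      rw [hcm] at hf ⊢
      exact h37 (t ^ q) t hf
    · exact h29 t (t ^ q) hf

end Steps

/-! ### the pair -/

section Core

variable [Fintype K] {q : ℕ} {φ : K →+* K} (hφ : ∀ t, φ t = t ^ q) (hqq : ∀ t : K, (t ^ q) ^ q = t)

include hφ in
theorem P_mem (a : K) : P φ a ∈ twistedE6 K q := by
  have := pair_mem (K := K) (q := q) a (rs := (56, 36)) (by simp)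
  rw [← hφ] at this
  exact this

include hφ hqq in
theorem hh_mem' (c : K) : hh φ c ∈ twistedE6 K q := by
  refine mul_mem (Cfsg.Agent.H136.TwE6.hh_mem hφ c) ?_
  have hc' : c ∈ Cfsg.Agent.KFacts.TwESix.Out.KF φ 2 := by
    have := Cfsg.Agent.KFacts.TwESix.Out.F2_eq_top hφ hqq
    show c ∈ Cfsg.Agent.Nodes.RGDFoldSL.Fx φ 2
    rw [this]
    exact Subfield.mem_top c
  have h1 := Cfsg.Agent.KFacts.TwESix.Out.coe_PhiE_hS hφ hqq 2 ⟨c, hc'⟩
  have h2 : Cfsg.Agent.Nodes.RGDFoldSL.hv (Cfsg.Agent.Nodes.RGDFoldSL.psi hE6 K) φ [42, 37]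
      (Cfsg.Agent.Nodes.RGDFoldSL.hS c) = hG hE6 42 c * hG hE6 37 (φ c) :=
    Cfsg.Agent.KFacts.TwESix.Out.hv_two (by decide) (by decide) c
  rw [← h2]
  exact h1 ▸ (Cfsg.Agent.KFacts.TwESix.Out.PhiE hφ hqq 2 (Cfsg.Agent.Nodes.RGDFoldSL.hS ⟨c, hc'⟩)).2

/-- the torus element in the coset of the diagonal automorphism -/
def bet (hφ : ∀ t, φ t = t ^ q) (hqq : ∀ t : K, (t ^ q) ^ q = t) {χ : ℕ → Kˣ} (hM : IsMul chevE6 χ) (h : Ok q χ)
    (c : K) : MulAut ↥(twistedE6 K q) :=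
  dgA (conj_mem hM h) (conj_mem' hM h) * MulAut.conj ⟨hh φ c, hh_mem' hφ hqq c⟩

theorem coe_bet {χ : ℕ → Kˣ} (hM : IsMul chevE6 χ) (h : Ok q χ) (c : K) (g : ↥(twistedE6 K q)) :
    ((bet hφ hqq hM h c g : ↥(twistedE6 K q)) : GL chevE6.Idx K) =
      (dG chevE6 χ * hh φ c) * (g : GL chevE6.Idx K) * (dG chevE6 χ * hh φ c)⁻¹ := by
  show dG chevE6 χ * (hh φ c * (g : GL chevE6.Idx K) * (hh φ c)⁻¹) * (dG chevE6 χ)⁻¹ = _
  rw [conj_conj]

/-- the semilinear monomial element -/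
noncomputable def psA (hφ : ∀ t, φ t = t ^ q) {χ : ℕ → Kˣ} (hM : IsMul chevE6 χ) (h : Ok q χ) (τ : K ≃+* K) :
    MulAut ↥(twistedE6 K q) :=
  MulAut.conj ⟨w K, w_mem hφ⟩ * (dgA (conj_mem hM h) (conj_mem' hM h) * st q τ)

theorem coe_psA {χ : ℕ → Kˣ} (hM : IsMul chevE6 χ) (h : Ok q χ) (τ : K ≃+* K) (g : ↥(twistedE6 K q)) :
    ((psA hφ hM h τ g : ↥(twistedE6 K q)) : GL chevE6.Idx K) = Psi χ τ g := by
  rw [Psi_apply]
  rfl

theorem coe_psA_inv {χ : ℕ → Kˣ} (hM : IsMul chevE6 χ) (h : Ok q χ) (τ : K ≃+* K) (g : ↥(twistedE6 K q)) :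
    (((psA hφ hM h τ)⁻¹ g : ↥(twistedE6 K q)) : GL chevE6.Idx K) = (Psi χ τ).symm g := by
  rw [MulEquiv.eq_symm_apply, ← coe_psA hφ hM h τ, MulAut.apply_inv_self]

theorem coe_del {χ : ℕ → Kˣ} (hM : IsMul chevE6 χ) (h : Ok q χ) {χ' : ℕ → Kˣ} (hM' : IsMul chevE6 χ') (h' : Ok q χ')
    (τ : K ≃+* K) (c : K) (g : ↥(twistedE6 K q)) :
    (((psA hφ hM' h' τ * bet hφ hqq hM h c * (psA hφ hM' h' τ)⁻¹) g : ↥(twistedE6 K q)) : GL chevE6.Idx K) =
      Psi χ' τ (dG chevE6 χ * hh φ c) * (g : GL chevE6.Idx K) * (Psi χ' τ (dG chevE6 χ * hh φ c))⁻¹ := by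
  show ((psA hφ hM' h' τ (bet hφ hqq hM h c ((psA hφ hM' h' τ)⁻¹ g)) : ↥(twistedE6 K q)) : GL chevE6.Idx K) = _
  rw [coe_psA, coe_bet, coe_psA_inv, map_mul, map_mul, map_inv, MulEquiv.apply_symm_apply]

/-- the short root subgroup -/
def X0 (q : ℕ) (φ : K →+* K) : Subgroup ↥(twistedE6 K q) := (XS φ).subgroupOf (twistedE6 K q)

include hqq in
theorem conj_inj (hq : IsPrimePow q) (hK : Fintype.card K = q ^ 2) {g g' : ↥(twistedE6 K q)}
    (h : (MulAut.conj g : MulAut ↥(twistedE6 K q)) = MulAut.conj g') : g = g' := by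
  have h1 : g'⁻¹ * g = 1 := by
    refine Cfsg.Agent.H166.OutTwESix.eq_one_of_central (Cfsg.Agent.S1070.result hq hK) fun y => ?_
    have h2 : g * y * g⁻¹ = g' * y * g'⁻¹ := congrArg (fun f : MulAut ↥(twistedE6 K q) => f y) h
    have h3 : g * y = g' * y * g'⁻¹ * g := by rw [← h2]; group
    rw [mul_assoc, h3]; group
  exact (inv_mul_eq_one.1 h1).symm

theorem core {χ : ℕ → Kˣ} (hM : IsMul chevE6 χ) (h : Ok q χ) {χ' : ℕ → Kˣ} (hM' : IsMul chevE6 χ') (h' : Ok q χ')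
    (τ : K ≃+* K) (hq : IsPrimePow q) (hK : Fintype.card K = q ^ 2) {c : Kˣ}
    (hc : ∀ z : Kˣ, z ∈ Subgroup.zpowers (χ 56 * c)) (hc2 : χ 42 * c ≠ 1) (hc3 : χ 56 * c ≠ 1)
    {M : Subgroup (MulAut ↥(twistedE6 K q))} (hβ : bet hφ hqq hM h (c : K) ∈ M)
    (hΨ : MulAut.conj (⟨P φ 1, P_mem hφ 1⟩ : ↥(twistedE6 K q)) * psA hφ hM' h' τ ∈ M) :
    (MulAut.conj : ↥(twistedE6 K q) →* MulAut ↥(twistedE6 K q)).range ≤ M := by
  have hφφ : ∀ t, φ (φ t) = t := by intro t; rw [hφ, hφ, hqq]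
  have hfix := twisted_le_fix φ hφ hqq
  have hc0 : (c : K) ≠ 0 := c.ne_zero
  set d := dG chevE6 χ * hh φ (c : K) with hd
  set β := bet hφ hqq hM h (c : K) with hβd
  set Ψ := psA hφ hM' h' τ with hΨd
  let Pp : K → ↥(twistedE6 K q) := fun a => ⟨P φ a, P_mem hφ a⟩
  have hP1 : ∀ a b, Pp a * Pp b = Pp (a + b) := fun a b => Subtype.ext (P_add a b)
  have hPi : ∀ a, (Pp a)⁻¹ = Pp (-a) := fun a => Subtype.ext (P_inv a)
  have hP0 : Pp 0 = 1 := Subtype.ext P_zero
  have hPinj : ∀ a b, Pp a = Pp b → a = b := fun a b e => P_inj (congrArg Subtype.val e)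
  -- the actions
  have hβP : ∀ a, β (Pp a) = Pp ((χ 56 * c : Kˣ) * a) := by
    intro a
    apply Subtype.ext
    rw [hβd, coe_bet]
    show d * P φ a * d⁻¹ = P φ _
    rw [d_P hφ hM h hc0, Units.val_mul]
  obtain ⟨κ, hκ, k1⟩ := Psi_x hM' τ (42 : Fin 72)
  obtain ⟨κ', hκ', k2⟩ := Psi_x hM' τ (37 : Fin 72)
  have w1 : W 42 = 56 ∧ W 37 = 36 := by decide +kernel
  rw [w1.1] at k1
  rw [w1.2] at k2
  change ∀ a, Psi χ' τ (x 42 a) = x 56 (κ * τ a) at k1
  change ∀ a, Psi χ' τ (x 37 a) = x 36 (κ' * τ a) at k2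
  have hQm : ∀ a, Q φ a ∈ twistedE6 K q := by
    intro a
    have := pair_mem (K := K) (q := q) a (rs := (42, 37)) (by simp)
    rw [← hφ] at this
    exact this
  have hΨQ : ∀ a, Psi χ' τ (Q φ a) = P φ (κ * τ a) := by
    intro a
    have e : Psi χ' τ (Q φ a) = x 56 (κ * τ a) * x 36 (κ' * τ (φ a)) := by
      rw [← k1, ← k2, ← map_mul]; rfl
    have h1 : x 56 (κ * τ a) * x 36 (κ' * τ (φ a)) ∈ fix φ := by
      rw [← e, ← coe_psA hφ hM' h' τ ⟨Q φ a, hQm a⟩]
      exact hfix (Subtype.property _)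
    rw [e, fix56 h1]
    rfl
  let δ := Ψ * β * Ψ⁻¹
  have hδ : ∀ g : ↥(twistedE6 K q), ((δ g : ↥(twistedE6 K q)) : GL chevE6.Idx K) =
      Psi χ' τ d * (g : GL chevE6.Idx K) * (Psi χ' τ d)⁻¹ := fun g => coe_del hφ hqq hM h hM' h' τ _ g
  have hδP : ∀ a, δ (Pp a) = Pp (τ (χ 42 * c : Kˣ) * a) := by
    intro a
    apply Subtype.ext
    rw [hδ]
    show Psi χ' τ d * P φ a * (Psi χ' τ d)⁻¹ = P φ _
    have e : P φ a = Psi χ' τ (Q φ (τ.symm (κ⁻¹ * a))) := by
      rw [hΨQ, τ.apply_symm_apply, mul_inv_cancel_left₀ hκ]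
    rw [e, ← map_inv, ← map_mul, ← map_mul, hd, d_Q hφ hM h hc0, hΨQ, map_mul, τ.apply_symm_apply, Units.val_mul]
    congr 1
    rw [mul_left_comm, mul_inv_cancel_left₀ hκ]
  -- the torus trick
  let X : Subgroup (MulAut ↥(twistedE6 K q)) := (X0 q φ).map MulAut.conj
  have hX : ∀ y, y ∈ X ↔ ∃ a, y = MulAut.conj (Pp a) := by
    intro y
    constructor
    · rintro ⟨g, ⟨a, ha⟩, rfl⟩
      exact ⟨a, congrArg _ (Subtype.ext ha)⟩
    · rintro ⟨a, rfl⟩
      exact ⟨Pp a, ⟨a, rfl⟩, rfl⟩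
  have hcj : ∀ (f : MulAut ↥(twistedE6 K q)) (g : ↥(twistedE6 K q)), f * MulAut.conj g * f⁻¹ = MulAut.conj (f g) :=
    conj_apply_mul
  have hinj : ∀ a b, (MulAut.conj (Pp a) : MulAut ↥(twistedE6 K q)) = MulAut.conj (Pp b) → a = b :=
    fun a b e => hPinj a b (conj_inj hqq hq hK e)
  have hτ0 : τ ((χ 42 * c : Kˣ) : K) ≠ 0 := (map_ne_zero τ).2 (Units.ne_zero _)
  have hτ1 : τ ((χ 42 * c : Kˣ) : K) ≠ 1 := by
    intro e
    apply hc2
    apply Units.ext
    apply τ.injective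
    rw [e, Units.val_one, map_one]
  obtain ⟨hXM, hΨM⟩ := Cfsg.Agent.H136.TwoGen.torus_trick M X (h := β) (w := Ψ)
    (u := MulAut.conj (Pp 1)) hβ hΨ ((hX _).2 ⟨1, rfl⟩)
    (by
      intro y hy
      obtain ⟨a, rfl⟩ := (hX y).1 hy
      rw [hX, hcj]
      exact ⟨_, congrArg _ (hδP a)⟩)
    (by
      intro y hy
      obtain ⟨a, rfl⟩ := (hX y).1 hy
      rw [hX]
      refine ⟨(τ ((χ 42 * c : Kˣ) : K))⁻¹ * a, ?_⟩
      have h1 := hcj δ (Pp ((τ ((χ 42 * c : Kˣ) : K))⁻¹ * a))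
      rw [hδP, mul_inv_cancel_left₀ hτ0] at h1
      rw [← h1]
      show δ⁻¹ * _ * δ = _
      group)
    (by
      intro Y hY hinv
      let A : AddSubgroup K :=
        { carrier := {a | MulAut.conj (Pp a) ∈ Y}
          add_mem' := by
            intro a b ha hb
            show MulAut.conj (Pp (a + b)) ∈ Y
            rw [← hP1, map_mul]
            exact Y.mul_mem ha hb
          zero_mem' := by
            show MulAut.conj (Pp 0) ∈ Y
            rw [hP0, map_one]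
            exact Y.one_mem
          neg_mem' := by
            intro a ha
            show MulAut.conj (Pp (-a)) ∈ Y
            rw [← hPi, map_inv]
            exact Y.inv_mem ha }
      have hA : ∀ a ∈ A, ((χ 56 * c : Kˣ) : K) * a ∈ A := by
        intro a ha
        have h1 := hinv _ ha
        rw [hcj, hβP] at h1
        exact h1
      rcases Cfsg.Agent.H136.FieldLem.eq_bot_or_top hc A (fun a ha => by
        rw [pow_two, mul_assoc]
        exact hA _ (hA _ ha)) with h1 | h1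
      · left
        rw [eq_bot_iff]
        intro y hy
        obtain ⟨a, rfl⟩ := (hX y).1 (hY hy)
        have h2 : a ∈ A := hy
        rw [h1, AddSubgroup.mem_bot] at h2
        rw [h2, hP0, map_one]
        exact Subgroup.mem_bot.2 rfl
      · right
        refine le_antisymm hY fun y hy => ?_
        obtain ⟨a, rfl⟩ := (hX y).1 hy
        have h2 : a ∈ A := by rw [h1]; exact AddSubgroup.mem_top a
        exact h2)
    ⟨MulAut.conj (Pp 1), (hX _).2 ⟨1, rfl⟩, fun e => by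
      have h1 := hcj β (Pp 1)
      rw [e, mul_inv_cancel_right, hβP, mul_one] at h1
      apply hc3
      apply Units.ext
      rw [Units.val_one]
      exact (hinj _ _ h1).symm⟩
    (by
      intro y hy
      obtain ⟨a, rfl⟩ := (hX y).1 hy
      rw [hX, hcj]
      exact ⟨_, congrArg _ (hβP a)⟩)
    (by
      show β * δ = δ * β
      ext g
      show ((β (δ g) : ↥(twistedE6 K q)) : GL chevE6.Idx K) _ _ = ((δ (β g) : ↥(twistedE6 K q)) : GL chevE6.Idx K) _ _
      have h1 : ((β (δ g) : ↥(twistedE6 K q)) : GL chevE6.Idx K) = (δ (β g) : ↥(twistedE6 K q)) := by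
        rw [hδ, hβd, coe_bet, coe_bet, hδ]
        exact Sc.comm (Sc_d hM hc0) (Psi_Sc hM' τ (Sc_d hM hc0)) g.2
      rw [h1])
    (fun e => by
      have h1 := hcj δ (Pp 1)
      have e' : δ * MulAut.conj (Pp 1) = MulAut.conj (Pp 1) * δ := e
      rw [e', mul_inv_cancel_right, hδP, mul_one] at h1
      exact hτ1 (hinj _ _ h1).symm)
  -- closure steps
  have hle := le_Lo hM' τ (M := M) (Ψ := Ψ) hΨM (coe_psA hφ hM' h' τ) hφ hqq hq.two_le hK (fun a => by
    rw [mem_Lo]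
    exact ⟨P_mem hφ a, hXM ((hX _).2 ⟨a, rfl⟩)⟩)
  rintro _ ⟨g, rfl⟩
  obtain ⟨hg, h2⟩ := mem_Lo.1 (hle g.2)
  exact h2

end Core

end Cfsg.Agent.H157.DG.TwE6
end

-- part: H157/DG/TwE6Fin
section
/-!
# S4180, task C18: `Cos2` for `²E₆(q)`, the automorphisms (helper157)
-/

set_option autoImplicit false
set_option linter.unusedSectionVars false
set_option maxHeartbeats 400000

namespace Cfsg.Agent.H157.DG.TwE6

open CoxeterSystem Cfsg.Agent.ChevalleyStructure.CoxeterGeom Cfsg.Agent.Tits.Roots Cfsg.Agent.Tits.Core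
  Cfsg.Agent.Tits.Exchange Cfsg.Agent.Nodes.Reps Cfsg.Agent.Nodes.BNOf Cfsg.Agent.Nodes.StabComb
  Cfsg.Agent.Nodes.Bruhat Cfsg.Agent.Nodes.OppDec Cfsg.Agent.Nodes.RGDTwGen Cfsg.Agent.Nodes.RGDChev
  Cfsg.Agent.Nodes.RGDFold Cfsg.Agent.Nodes.RGDFoldSL
open Cfsg.Agent.KFacts.RgdOpp Cfsg.Agent.KFacts.RgdAut Cfsg.Agent.KFacts.RgdDiag Cfsg.Agent.KFacts.RgdRigid
  Cfsg.Agent.KFacts.RgdField Cfsg.Agent.KFacts.RgdTau Cfsg.Agent.KFacts.RgdNodes
open Cfsg.Lie Cfsg.Agent.ChevalleyStructure Cfsg.Agent.ChevalleyStructure.Elts Cfsg.Agent.ChevStructure.FieldMap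
open Cfsg.Agent.ChevalleyStructure.SL2Hom (up lo)
open Cfsg.Agent.KFacts.TwESix.NodeCoord Cfsg.Agent.KFacts.TwESix.Out Cfsg.Agent.KFacts.TwESix.OutTwo
open Cfsg.Agent.Nodes.RGDTwE6 Cfsg.Agent.Nodes.RGDTwNode.E6
open Cfsg.Agent.ChevalleyStructure.TwE6Basic (hE6 single_mem pair_mem twisted_le_iff exists_frob twisted_le_fix)
open Cfsg.Agent.H70.ChevDiag Cfsg.Agent.H166.TwDiag Cfsg.Agent.H166.OutNodes Cfsg.Agent.H166.OutRGD
open Cfsg.Agent.CpAut.RgdTwE6 (st rs st_up ntau_st ntau_of_ftau tau_phi coe_up)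
open Cfsg.Agent.H166.OutTwESix (Ok conj_mem conj_mem' simple_tab diag_dgA)
open Cfsg.Agent.H891.Gen Cfsg.Agent.H891.DG

open scoped Pointwise

universe u

variable {K : Type u} [Field K] [Fintype K] {q : ℕ} {φ : K →+* K} (hφ : ∀ x, φ x = x ^ q)
  (hqq : ∀ t : K, (t ^ q) ^ q = t) {W : Type*} [Group W] (cs : CoxeterSystem CoxeterMatrix.F₄ W)

include hφ hqq in
theorem exists_dgA (c : ∀ i, (KF φ i)ˣ) : ∃ (χ : ℕ → Kˣ) (hM : IsMul chevE6 χ) (hok : Ok q χ),
    ∀ i a, dgA (conj_mem hM hok) (conj_mem' hM hok) (PhiE hφ hqq i (up a)) =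
      PhiE hφ hqq i (up ((c i : KF φ i) * a)) := by
  let v : Fin 4 → Kˣ := fun i => Units.map ((KF φ i).subtype : KF φ i →* K) (c i)
  have hv : ∀ i, (v i : K) = ((c i : KF φ i) : K) := fun i => rfl
  let c' : Fin 6 → Kˣ := ![v 3, v 0, v 2, v 1, v 2 ^ q, v 3 ^ q]
  obtain ⟨χ, hM, h1, h2⟩ := exists_diagAut hE6 (F := K) c'
  have e0 : χ 56 = v 3 := by have := h1 (0 : Fin 6); rwa [(simple_tab 0).1] at this
  have e1 : χ 46 = v 0 := by have := h1 (1 : Fin 6); rwa [(simple_tab 1).1] at this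
  have e2 : χ 42 = v 2 := by have := h1 (2 : Fin 6); rwa [(simple_tab 2).1] at this
  have e3 : χ 39 = v 1 := by have := h1 (3 : Fin 6); rwa [(simple_tab 3).1] at this
  have e4 : χ 37 = v 2 ^ q := by have := h1 (4 : Fin 6); rwa [(simple_tab 4).1] at this
  have e5 : χ 36 = v 3 ^ q := by have := h1 (5 : Fin 6); rwa [(simple_tab 5).1] at this
  have n0 : χ 15 = (v 3)⁻¹ := by have := h2 (0 : Fin 6); rwa [(simple_tab 0).2] at this
  have n1 : χ 25 = (v 0)⁻¹ := by have := h2 (1 : Fin 6); rwa [(simple_tab 1).2] at this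
  have n2 : χ 29 = (v 2)⁻¹ := by have := h2 (2 : Fin 6); rwa [(simple_tab 2).2] at this
  have n3 : χ 32 = (v 1)⁻¹ := by have := h2 (3 : Fin 6); rwa [(simple_tab 3).2] at this
  have n4 : χ 34 = (v 2 ^ q)⁻¹ := by have := h2 (4 : Fin 6); rwa [(simple_tab 4).2] at this
  have n5 : χ 35 = (v 3 ^ q)⁻¹ := by have := h2 (5 : Fin 6); rwa [(simple_tab 5).2] at this
  have f0 : v 0 ^ q = v 0 := by
    apply Units.ext
    rw [Units.val_pow_eq_pow_val, ← hφ, hv]
    have := (c 0 : KF φ 0).2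
    rwa [mem_Fx] at this
  have f1 : v 1 ^ q = v 1 := by
    apply Units.ext
    rw [Units.val_pow_eq_pow_val, ← hφ, hv]
    have := (c 1 : KF φ 1).2
    rwa [mem_Fx] at this
  have hok : Ok q χ := by
    constructor
    · intro r hr
      simp only [List.mem_cons, List.not_mem_nil, or_false] at hr
      rcases hr with rfl | rfl | rfl | rfl
      · rw [e1, f0]
      · rw [n1, inv_pow, f0]
      · rw [e3, f1]
      · rw [n3, inv_pow, f1]
    · intro r hr
      simp only [List.mem_cons, List.not_mem_nil, or_false] at hr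
      rcases hr with rfl | rfl | rfl | rfl
      · show χ 36 = χ 56 ^ q
        rw [e5, e0]
      · show χ 35 = χ 15 ^ q
        rw [n5, n0, inv_pow]
      · show χ 37 = χ 42 ^ q
        rw [e4, e2]
      · show χ 34 = χ 29 ^ q
        rw [n4, n2, inv_pow]
  refine ⟨χ, hM, hok, fun i a => ?_⟩
  apply Subtype.ext
  rw [coe_dgA, coe_up, coe_up, conj_yv hE6 hM (c := ((c i : KF φ i) : K))]
  · rfl
  intro k hk
  have hi : i = 0 ∨ i = 1 ∨ i = 2 ∨ i = 3 := by (revert i; simp only [_root_.Fin.forall_fin_succ, _root_.List.length_cons, _root_.Order.lt_add_one_iff, Fin.isValue, _root_.forall_const, _root_.zero_ne_one, Fin.reduceEq, _root_.or_self, _root_.or_false, _root_.implies_true, _root_.Fin.succ_ne_zero, _root_.false_or, _root_.Fin.succ_zero_eq_one, _root_.Fin.succ_one_eq_two, _root_.or_true, Fin.reduceSucc, _root_.IsEmpty.forall_iff, _root_.and_self])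
  rcases hi with rfl | rfl | rfl | rfl
  · have hk' : k < 1 := hk
    obtain rfl : k = 0 := by omega
    show (χ 46 : K) = _
    rw [e1]; rfl
  · have hk' : k < 1 := hk
    obtain rfl : k = 0 := by omega
    show (χ 39 : K) = _
    rw [e3]; rfl
  · have hk' : k < 2 := hk
    have hk2 : k = 0 ∨ k = 1 := by omega
    rcases hk2 with rfl | rfl
    · show (χ 42 : K) = _
      rw [e2]; rfl
    · show (χ 37 : K) = φ _
      rw [e4, hφ, Units.val_pow_eq_pow_val]; rfl
  · have hk' : k < 2 := hk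
    have hk2 : k = 0 ∨ k = 1 := by omega
    rcases hk2 with rfl | rfl
    · show (χ 56 : K) = _
      rw [e0]; rfl
    · show (χ 36 : K) = φ _
      rw [e5, hφ, Units.val_pow_eq_pow_val]; rfl

include cs in
theorem form_of_ftau [Finite W] (p : ℕ) [Fact p.Prime] [CharP K p] {β : MulAut ↥(twistedE6 K q)} {τ : K ≃+* K}
    (S : FTau hφ hqq β τ) : ∃ (χ : ℕ → Kˣ) (hM : IsMul chevE6 χ) (hok : Ok q χ),
      β = dgA (conj_mem hM hok) (conj_mem' hM hok) * st q τ := by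
  have R := Cfsg.Agent.Nodes.RGDTwE6.rgd cs hφ hqq p
  have N := ntau_of_ftau hφ hqq S
  have h4 := fun i => NTau.semi (coordE hφ hqq) N i
  choose c hc hx using h4
  obtain ⟨χ, hM, hok, hy⟩ := exists_dgA hφ hqq (fun i => Units.mk0 (c i) (hc i))
  refine ⟨χ, hM, hok, ?_⟩
  have D' := (diag_dgA hφ hqq hM hok).mul (ntau_st hφ hqq τ cs p).diag
  rw [mul_one] at D'
  have D'' : Diag (T K q) (X φ q) (β⁻¹ * (dgA (conj_mem hM hok) (conj_mem' hM hok) * st q τ)) 1 := by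
    have := N.diag.inv.mul D'
    rwa [inv_one, mul_one] at this
  have h5 := Diag.eq_one R (G1_top cs hφ hqq) D'' (by
    intro i y hy'
    obtain ⟨a, rfl⟩ := ((coordE hφ hqq i).mem y).1 hy'
    rw [MulAut.mul_apply, MulAut.mul_apply]
    show β⁻¹ (dgA (conj_mem hM hok) (conj_mem' hM hok) (st q τ (PhiE hφ hqq i (up a)))) = PhiE hφ hqq i (up a)
    rw [st_up, hy]
    have h6 : β (PhiE hφ hqq i (up a)) = PhiE hφ hqq i (up (c i * rs hφ τ i a)) := hx i a
    show β⁻¹ (PhiE hφ hqq i (up (c i * rs hφ τ i a))) = _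
    rw [← h6, MulAut.inv_apply_self])
  exact inv_mul_eq_one.1 h5

/-- the exponent relation -/
def Ex (σ : K ≃+* K) (α : MulAut ↥(twistedE6 K q)) (a : ℤ) : Prop :=
  ∃ (g : ↥(twistedE6 K q)) (β : MulAut ↥(twistedE6 K q)), FTau hφ hqq β (σ ^ a) ∧ α = MulAut.conj g * β

theorem FTau.inv {β : MulAut ↥(twistedE6 K q)} {τ : K ≃+* K} (S : FTau hφ hqq β τ) : FTau hφ hqq β⁻¹ τ⁻¹ where
  diag := by
    have := S.diag.inv
    rwa [inv_one] at this
  char i t ht := by
    have D := S.diag.inv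
    have h1 : β⁻¹ t ∈ T K q := (D.tor t).2 ht
    have h2 := S.char i _ h1
    rw [MulAut.apply_inv_self] at h2
    rw [h2]
    exact (τ.symm_apply_apply _).symm

theorem Ex.inv {σ : K ≃+* K} {α : MulAut ↥(twistedE6 K q)} {a : ℤ} (h : Ex hφ hqq σ α a) :
    Ex hφ hqq σ α⁻¹ (-a) := by
  obtain ⟨g, β, S, rfl⟩ := h
  refine ⟨β⁻¹ g⁻¹, β⁻¹, ?_, ?_⟩
  · rw [zpow_neg]
    exact TwE6.FTau.inv hφ hqq S
  · rw [← conj_apply_mul, mul_inv_rev, ← map_inv]
    group

theorem Ex.mul {σ : K ≃+* K} {α α' : MulAut ↥(twistedE6 K q)} {a b : ℤ} (h : Ex hφ hqq σ α a)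
    (h' : Ex hφ hqq σ α' b) : Ex hφ hqq σ (α * α') (a + b) := by
  obtain ⟨g, β, S, rfl⟩ := h
  obtain ⟨g', β', S', rfl⟩ := h'
  refine ⟨g * β g', β * β', ?_, ?_⟩
  · rw [zpow_add]
    exact FTau.mul hφ hqq S S'
  · rw [map_mul, ← conj_apply_mul]
    group

include cs in
theorem exists_ex [Finite W] (p : ℕ) [Fact p.Prime] [CharP K p] (hK : Fintype.card K = q ^ 2) (hq1 : 1 < q)
    {σ : K ≃+* K} (hσ : ∀ τ : K ≃+* K, ∃ a : ℤ, τ = σ ^ a) (α : MulAut ↥(twistedE6 K q)) :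
    ∃ a, Ex hφ hqq σ α a := by
  have R := Cfsg.Agent.Nodes.RGDTwE6.rgd cs hφ hqq p
  have hG : GG cs isCartan (T K q) (X φ q) = ⊤ := GG_eq_top (G1_top cs hφ hqq)
  let S : Sylow p ↥(twistedE6 K q) := R.isPGroup_Upos.toSylow (not_dvd_index hφ hqq cs p)
  have hS : (S : Subgroup ↥(twistedE6 K q)) = RGD.Sup (X φ q) (RGD.Pos cs isCartan) := rfl
  obtain ⟨y, hy⟩ := MulAction.exists_smul_eq ↥(twistedE6 K q) (α • S) S
  have h1 : (S : Subgroup ↥(twistedE6 K q)).map (MulAut.conj y * α).toMonoidHom = S := by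
    have h2 := (congrArg (fun S : Sylow p ↥(twistedE6 K q) => (S : Subgroup ↥(twistedE6 K q))) hy :)
    simp only [Sylow.smul_def, Sylow.pointwise_smul_def] at h2
    rw [smul_smul] at h2
    exact h2
  have h2 : _root_.Cfsg.Agent.KFacts.RgdAut.Fix (MulAut.conj y * α) (RGD.Sup (X φ q) (RGD.Pos cs isCartan)) := by
    rw [fix_iff, ← hS]
    exact h1
  obtain ⟨u, hu, h3, -, h4, -⟩ := exists_frame R hG h2
  set β := MulAut.conj u * (MulAut.conj y * α) with hβ
  obtain ⟨s, D⟩ := exists_diag R hG h3 h4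
  have h5 : s = 1 := by
    apply perm_F4 s (D.matrix R)
    intro h6
    have h7 := (Diag.card_eq D) 0
    rw [h6] at h7
    exact card_ne hφ hqq hK hq1 h7
  subst h5
  obtain ⟨τ, F⟩ := exists_ftau hφ hqq cs p D
  obtain ⟨a, rfl⟩ := hσ τ
  refine ⟨a, (u * y)⁻¹, β, F, ?_⟩
  rw [hβ, map_inv, map_mul]
  group

/-- the choice of the torus element -/
theorem exists_c (hK : Fintype.card K = q ^ 2) (hq1 : 1 < q) (a b : Kˣ) :
    ∃ c : Kˣ, (∀ z : Kˣ, z ∈ Subgroup.zpowers (a * c)) ∧ b * c ≠ 1 ∧ a * c ≠ 1 := by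
  obtain ⟨g, hg⟩ := IsCyclic.exists_generator (α := Kˣ)
  have hord : orderOf g = q ^ 2 - 1 := by
    rw [orderOf_eq_card_of_forall_mem_zpowers hg, Nat.card_units, Nat.card_eq_fintype_card, hK]
  have h4 : 4 ≤ q ^ 2 := by nlinarith only [hq1]
  have hg2 : g ^ 2 ≠ 1 := by
    intro h1
    have := Nat.le_of_dvd (by norm_num) (orderOf_dvd_of_pow_eq_one h1)
    omega
  have hg1 : g ≠ 1 := by
    rintro rfl
    exact hg2 (one_pow 2)
  by_cases hb : b * (a⁻¹ * g) = 1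
  · refine ⟨a⁻¹ * g⁻¹, ?_, ?_, ?_⟩
    · intro z
      rw [mul_inv_cancel_left, Subgroup.zpowers_inv]
      exact hg z
    · intro h
      apply hg2
      have h1 : b * (a⁻¹ * g) = b * (a⁻¹ * g⁻¹) := by rw [hb, h]
      have h2 := mul_left_cancel (mul_left_cancel h1)
      rw [pow_two]
      nth_rewrite 1 [h2]
      exact inv_mul_cancel g
    · rw [mul_inv_cancel_left]
      exact fun h => hg1 (inv_eq_one.1 h)
  · refine ⟨a⁻¹ * g, ?_, hb, ?_⟩
    · intro z
      rw [mul_inv_cancel_left]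
      exact hg z
    · rw [mul_inv_cancel_left]
      exact hg1

include hφ hqq in
theorem cos2_aux (hq : IsPrimePow q) (hK : Fintype.card K = q ^ 2) : Cos2 ↥(twistedE6 K q) := by
  obtain ⟨p, hp⟩ := CharP.exists K
  have hpp : Nat.Prime p := (CharP.char_is_prime_or_zero K p).resolve_right (CharP.char_ne_zero_of_finite K p)
  have : Fact p.Prime := ⟨hpp⟩
  have hW : Finite CoxeterMatrix.F₄.Group :=
    Cfsg.Agent.Nodes.RGDFold.finite_W (hp := Cfsg.Agent.Nodes.RGDTwE6.hp) CoxeterMatrix.F₄.toCoxeterSystem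
      Cfsg.Agent.Nodes.RGDTwE6.isCartan Cfsg.Agent.Nodes.RGDTwE6.foldData
  obtain ⟨σ, hσ⟩ := exists_gen K
  intro x y
  obtain ⟨a, ha⟩ := exists_ex hφ hqq CoxeterMatrix.F₄.toCoxeterSystem p hK hq.one_lt hσ x
  obtain ⟨b, hb⟩ := exists_ex hφ hqq CoxeterMatrix.F₄.toCoxeterSystem p hK hq.one_lt hσ y
  refine lift_of_rel (Ex hφ hqq σ) (fun _ _ h => h.inv hφ hqq) (fun _ _ _ _ h h' => h.mul hφ hqq h') ?_ x y a b ha hb
  clear ha hb a b x y
  rintro _ _ b ⟨g, β, S, rfl⟩ ⟨g', β', S', rfl⟩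
  rw [zpow_zero] at S
  obtain ⟨χ, hM, hok, hβ⟩ := form_of_ftau hφ hqq CoxeterMatrix.F₄.toCoxeterSystem p S
  obtain ⟨χ', hM', hok', hβ'⟩ := form_of_ftau hφ hqq CoxeterMatrix.F₄.toCoxeterSystem p S'
  have hst : st q (1 : K ≃+* K) = 1 := by
    ext g
    show (Cfsg.Agent.CpAut.RgdTwStd.fldG (1 : K ≃+* K) _ g : GL chevE6.Idx K) _ _ = (g : GL chevE6.Idx K) _ _
    rw [Cfsg.Agent.CpAut.RgdTwStd.coe_fldG, Cfsg.Agent.CpAut.RgdTwStd.glE_one]
  rw [hst, mul_one] at hβ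
  obtain ⟨c, hc1, hc2, hc3⟩ := exists_c hK hq.one_lt (χ 56) (χ 42)
  -- the two members
  have e1 : ∃ s ∈ (MulAut.conj : ↥(twistedE6 K q) →* _).range, MulAut.conj g * β * s = bet hφ hqq hM hok (c : K) := by
    refine ⟨(MulAut.conj g * β)⁻¹ * bet hφ hqq hM hok (c : K), ?_, by group⟩
    have e : (MulAut.conj g * β)⁻¹ * bet hφ hqq hM hok (c : K) =
        β⁻¹ * MulAut.conj g⁻¹ * β⁻¹⁻¹ * MulAut.conj ⟨hh φ c, hh_mem' hφ hqq c⟩ := by
      rw [bet, ← hβ, map_inv]
      group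
    rw [e, conj_apply_mul, ← map_mul]
    exact ⟨_, rfl⟩
  have e2 : ∃ s ∈ (MulAut.conj : ↥(twistedE6 K q) →* _).range, MulAut.conj g' * β' * s =
      MulAut.conj (⟨Cfsg.Agent.H136.TwE6.P φ 1, P_mem hφ 1⟩ : ↥(twistedE6 K q)) * psA hφ hM' hok' (σ ^ b) := by
    refine ⟨(MulAut.conj g' * β')⁻¹ * (MulAut.conj (⟨Cfsg.Agent.H136.TwE6.P φ 1, P_mem hφ 1⟩ : ↥(twistedE6 K q)) *
      psA hφ hM' hok' (σ ^ b)), ?_, by group⟩
    have e : (MulAut.conj g' * β')⁻¹ * (MulAut.conj (⟨Cfsg.Agent.H136.TwE6.P φ 1, P_mem hφ 1⟩ : ↥(twistedE6 K q)) *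
      psA hφ hM' hok' (σ ^ b)) = β'⁻¹ * MulAut.conj (g'⁻¹ * (⟨Cfsg.Agent.H136.TwE6.P φ 1, P_mem hφ 1⟩ *
        ⟨Cfsg.Agent.H136.TwE6.w K, Cfsg.Agent.H136.TwE6.w_mem hφ⟩)) * β'⁻¹⁻¹ := by
      rw [psA, ← hβ', map_mul, map_mul, map_inv]
      group
    rw [e, conj_apply_mul]
    exact ⟨_, rfl⟩
  obtain ⟨s, hs, e1⟩ := e1
  obtain ⟨t, ht, e2⟩ := e2
  refine ⟨s, hs, t, ht, ?_⟩
  rw [e1, e2]
  exact core hφ hqq hM hok hM' hok' (σ ^ b) hq hK hc1 hc2 hc3 (Subgroup.subset_closure (by simp))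
    (Subgroup.subset_closure (by simp only [_root_.Set.mem_insert_iff, _root_.Set.mem_singleton_iff, _root_.or_true]))

/-- **`Cos2` for `²E₆(q)`.** -/
theorem cos2_twistedE6 (hq : IsPrimePow q) (hK : Fintype.card K = q ^ 2) : Cos2 ↥(twistedE6 K q) := by
  obtain ⟨φ, hφ, hqq⟩ := exists_frob hq hK
  exact cos2_aux hφ hqq hq hK

/-- **Task C18**: the row `twE6` of `Rows Cos2`. -/
theorem cos2_row_twE6 (T : Type u) [Group T] [Finite T] [IsSimpleGroup T] (h : Cfsg.Lie.Iso2E6 T) : Cos2 T := by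
  obtain ⟨K, _, _, q, hq, hK, ⟨e⟩⟩ := h
  exact cos2_congr e.symm (cos2_twistedE6 hq hK)

end Cfsg.Agent.H157.DG.TwE6
end

-- part: H973/DG/Spor
section
/-!
# TEAM GEN, S4180, C20: `Cos2` for sporadic groups (helper973)

* `cos2_of_inner` : `T ≃* M`, all the automorphisms of `M` are inner and `M` is 2-generated;
* `cos2_of_outer` : `T ≃* M`, `Inn M` and the coset of `α` are all the automorphisms, `M = ⟨t, α t⟩`;
* the sporadic groups with `Out = 1`, and `M12`, `M22`, `HS`.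
-/

set_option autoImplicit false

namespace Cfsg.Agent.H973.DG.Spor

open Cfsg Cfsg.Agent.H440.TwoGen Cfsg.Agent.H891.Gen Cfsg.Agent.H891.DG Subgroup

universe u v

/-- `Cos2` is invariant under isomorphisms. -/
theorem Cos2.of_equiv {T : Type u} {M : Type v} [Group T] [Group M] (e : T ≃* M) (h : Cos2 M) : Cos2 T := by
  intro x y
  obtain ⟨s, ⟨s', hs⟩, t, ⟨t', ht⟩, hst⟩ := h (MulAut.congr e x) (MulAut.congr e y)
  set f : MulAut M ≃* MulAut T := (MulAut.congr e).symm with hf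
  have hconj : ∀ m : M, f (MulAut.conj m) = MulAut.conj (e.symm m) := by
    intro m
    rw [hf, MulEquiv.symm_apply_eq]
    refine MulEquiv.ext fun z => ?_
    change _ = e (MulAut.conj (e.symm m) (e.symm z))
    rw [MulAut.conj_apply, MulAut.conj_apply, map_mul, map_mul, map_inv, e.apply_symm_apply, e.apply_symm_apply]
  have hx : f (MulAut.congr e x) = x := by rw [hf, MulEquiv.symm_apply_apply]
  have hy : f (MulAut.congr e y) = y := by rw [hf, MulEquiv.symm_apply_apply]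
  refine ⟨f s, ⟨e.symm s', by rw [← hs, hconj]⟩, f t, ⟨e.symm t', by rw [← ht, hconj]⟩, ?_⟩
  have h1 := Subgroup.map_mono (f := (f : MulAut M →* MulAut T)) hst
  rw [MonoidHom.map_closure, Set.image_pair] at h1
  have h2 : (f : MulAut M →* MulAut T) (MulAut.congr e x * s) = x * f s := by
    change f (MulAut.congr e x * s) = _
    rw [map_mul, hx]
  have h3 : (f : MulAut M →* MulAut T) (MulAut.congr e y * t) = y * f t := by
    change f (MulAut.congr e y * t) = _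
    rw [map_mul, hy]
  rw [h2, h3] at h1
  refine le_trans ?_ h1
  rintro _ ⟨a, rfl⟩
  exact ⟨MulAut.conj (e a), ⟨e a, rfl⟩, by
    change f (MulAut.conj (e a)) = _
    rw [hconj, e.symm_apply_apply]⟩

/-- If every automorphism is inner and the group is 2-generated then `Cos2`. -/
theorem cos2_inner {M : Type v} [Group M] (hin : ∀ φ : MulAut M, φ ∈ (MulAut.conj : M →* MulAut M).range)
    (hM : TwoGen M) : Cos2 M := by
  intro x y
  obtain ⟨a, b, hab⟩ := hM
  refine ⟨x⁻¹ * MulAut.conj a, hin _, y⁻¹ * MulAut.conj b, hin _, ?_⟩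
  rw [mul_inv_cancel_left, mul_inv_cancel_left, MonoidHom.range_eq_map, ← hab, MonoidHom.map_closure,
    Set.image_pair]

/-- If `Inn M` and the coset of `α` are all the automorphisms and `M = ⟨t, α t⟩` then `Cos2`. -/
theorem cos2_outer {M : Type v} [Group M] (α : MulAut M)
    (hα : ∀ φ : MulAut M, φ ∈ (MulAut.conj : M →* MulAut M).range ∨ α * φ ∈ (MulAut.conj : M →* MulAut M).range)
    (t : M) (ht : _root_.Subgroup.closure ({t, α t} : Set M) = ⊤) : Cos2 M := by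
  -- a subgroup which contains `α` and `conj t` contains `Inn M`
  have key : ∀ K : Subgroup (MulAut M), α ∈ K → MulAut.conj t ∈ K → (MulAut.conj : M →* MulAut M).range ≤ K := by
    intro K h1 h2
    rw [MonoidHom.range_eq_map, ← ht, MonoidHom.map_closure, Set.image_pair, closure_le]
    rintro z (rfl | hz)
    · exact h2
    · rw [Set.mem_singleton_iff] at hz
      subst hz
      have h3 : (MulAut.conj (α t) : MulAut M) = α * MulAut.conj t * α⁻¹ := by
        refine MulEquiv.ext fun z => ?_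
        rw [MulAut.mul_apply, MulAut.mul_apply, MulAut.conj_apply, MulAut.conj_apply, map_mul, map_mul, map_inv,
          MulAut.apply_inv_self]
      change MulAut.conj (α t) ∈ K
      rw [h3]
      exact mul_mem (mul_mem h1 h2) (inv_mem h1)
  -- the coset of an outer automorphism contains `α⁻¹ * i` for all inner `i`
  have aux : ∀ x : MulAut M, x ∉ (MulAut.conj : M →* MulAut M).range →
      ∀ i ∈ (MulAut.conj : M →* MulAut M).range, x⁻¹ * (α⁻¹ * i) ∈ (MulAut.conj : M →* MulAut M).range := by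
    intro x hx i hi
    have h1 := (hα x).resolve_left hx
    have h2 : x⁻¹ * (α⁻¹ * i) = (α * x)⁻¹ * i := by group
    rw [h2]
    exact mul_mem (inv_mem h1) hi
  have hmix : ∀ x y : MulAut M, x ∈ (MulAut.conj : M →* MulAut M).range → y ∉ (MulAut.conj : M →* MulAut M).range →
      Lift (MulAut.conj : M →* MulAut M).range x y := by
    intro x y hx hy
    refine ⟨x⁻¹ * MulAut.conj t, mul_mem (inv_mem hx) ⟨t, rfl⟩, y⁻¹ * (α⁻¹ * 1), aux y hy 1 (one_mem _), ?_⟩
    rw [mul_inv_cancel_left, mul_inv_cancel_left, mul_one]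
    refine key _ ?_ (_root_.Subgroup.subset_closure (by simp))
    rw [← inv_mem_iff]
    exact _root_.Subgroup.subset_closure (by simp)
  intro x y
  by_cases hx : x ∈ (MulAut.conj : M →* MulAut M).range
  · by_cases hy : y ∈ (MulAut.conj : M →* MulAut M).range
    · refine ⟨x⁻¹ * MulAut.conj t, mul_mem (inv_mem hx) ⟨t, rfl⟩, y⁻¹ * MulAut.conj (α t),
        mul_mem (inv_mem hy) ⟨α t, rfl⟩, ?_⟩
      rw [mul_inv_cancel_left, mul_inv_cancel_left, MonoidHom.range_eq_map, ← ht, MonoidHom.map_closure,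
        Set.image_pair]
    · exact hmix x y hx hy
  · by_cases hy : y ∈ (MulAut.conj : M →* MulAut M).range
    · exact (hmix y x hy hx).symm
    · refine ⟨x⁻¹ * (α⁻¹ * 1), aux x hx 1 (one_mem _), y⁻¹ * (α⁻¹ * MulAut.conj t), aux y hy _ ⟨t, rfl⟩, ?_⟩
      rw [mul_inv_cancel_left, mul_inv_cancel_left, mul_one]
      have h1 : α⁻¹ ∈ _root_.Subgroup.closure ({α⁻¹, α⁻¹ * MulAut.conj t} : Set (MulAut M)) := _root_.Subgroup.subset_closure (by simp)
      have h2 : α⁻¹ * MulAut.conj t ∈ _root_.Subgroup.closure ({α⁻¹, α⁻¹ * MulAut.conj t} : Set (MulAut M)) :=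
        _root_.Subgroup.subset_closure (by simp)
      refine key _ (inv_mem_iff.1 h1) ?_
      have h3 := mul_mem (inv_mem h1) h2
      rwa [inv_inv, mul_inv_cancel_left] at h3

theorem cos2_of_inner {T : Type u} {M : Type v} [Group T] [Group M] (e : T ≃* M)
    (hin : ∀ φ : MulAut M, φ ∈ (MulAut.conj : M →* MulAut M).range) (hM : TwoGen T) : Cos2 T :=
  Cos2.of_equiv e (cos2_inner hin (hM.of_equiv e))

theorem cos2_of_outer {T : Type u} {M : Type v} [Group T] [Group M] (e : T ≃* M) (α : MulAut M)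
    (hα : ∀ φ : MulAut M, φ ∈ (MulAut.conj : M →* MulAut M).range ∨ α * φ ∈ (MulAut.conj : M →* MulAut M).range)
    (t : M) (ht : _root_.Subgroup.closure ({t, α t} : Set M) = ⊤) : Cos2 T :=
  Cos2.of_equiv e (cos2_outer α hα t ht)

/-- The version of `H487.Gen.twoGen_of_conj` for `Cos2`: `M = K` is a subgroup of `P` and all its automorphisms are
induced by a subgroup `A` with `A = K ∪ z⁻¹ K`. -/
theorem cos2_of_conj {T : Type u} [Group T] {P : Type v} [Group P] (K A : Subgroup P)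
    (e : T ≃* K) (hφ : ∀ φ : MulAut K, ∃ p ∈ A, ∀ q : K, ((φ q : K) : P) = p * q * p⁻¹) (z : P)
    (hz : ∀ q, q ∈ K ↔ z * q * z⁻¹ ∈ K) (hA : ∀ p ∈ A, p ∈ K ∨ z * p ∈ K) (t : P) (ht : t ∈ K)
    (hgen : _root_.Subgroup.closure ({t, z * t * z⁻¹} : Set P) = K) : Cos2 T := by
  refine cos2_of_outer e (Cfsg.Agent.H487.Gen.conjOn K z hz) ?_ ⟨t, ht⟩ ?_
  · intro φ
    obtain ⟨p, hp, h⟩ := hφ φ
    rcases hA p hp with h1 | h1
    · refine Or.inl ⟨⟨p, h1⟩, MulEquiv.ext fun q => Subtype.ext ?_⟩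
      rw [h]
      rfl
    · refine Or.inr ⟨⟨z * p, h1⟩, MulEquiv.ext fun q => Subtype.ext ?_⟩
      change z * p * (q : P) * (z * p)⁻¹ = z * ((φ q : K) : P) * z⁻¹
      rw [h]
      group
  · apply Subgroup.map_injective K.subtype_injective
    rw [MonoidHom.map_closure, Set.image_pair, ← MonoidHom.range_eq_map, Subgroup.range_subtype]
    exact hgen

/-! ### `Out = 1` -/

theorem inner_of_card {K : Type v} [Group K] (h : Nat.card (Cfsg.Out K) = 1) (φ : MulAut K) :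
    φ ∈ (MulAut.conj : K →* MulAut K).range := by
  have h1 : (MulAut.conj : K →* MulAut K).range.index = 1 := h
  rw [Subgroup.index_eq_one] at h1
  rw [h1]
  exact mem_top _

theorem cos2_of_card {T : Type u} {M : Type v} [Group T] [Group M] (e : Nonempty (T ≃* M))
    (h : Nat.card (Cfsg.Out M) = 1) (hM : TwoGen T) : Cos2 T := by
  obtain ⟨e⟩ := e
  exact cos2_of_inner e (inner_of_card h) hM

variable {T : Type u} [Group T]

theorem m11 (h : Spor.IsoM11 T) : Cos2 T := cos2_of_card h Cfsg.Agent.S2060.result (Cfsg.Agent.H994.TwoGen.M11.twoGen h)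

theorem m23 (h : Spor.IsoM23 T) : Cos2 T := cos2_of_card h Cfsg.Agent.S2063.result (Cfsg.Agent.H994.TwoGen.M23.twoGen h)

theorem m24 (h : Spor.IsoM24 T) : Cos2 T := cos2_of_card h Cfsg.Agent.S2064.result (Cfsg.Agent.H994.TwoGen.M24.twoGen h)

theorem j1 (h : Spor.IsoJ1 T) : Cos2 T := cos2_of_card (by exact h) Cfsg.Agent.S2065.result (Cfsg.Agent.H994.TwoGen.J1.twoGen h)

theorem j4 (h : Spor.IsoJ4 T) : Cos2 T := cos2_of_card h Cfsg.Agent.S2068.result (JFour.twoGen_j4 h)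

theorem co1 (h : Spor.IsoCo1 T) : Cos2 T := cos2_of_card h Cfsg.Agent.S2069.result (Cfsg.Agent.H136.Gen2.Co1.twoGen h)

theorem co2 (h : Spor.IsoCo2 T) : Cos2 T := cos2_of_card h Cfsg.Agent.S2070.result (Cfsg.Agent.H136.Gen2.Co2.twoGen h)

theorem co3 (h : Spor.IsoCo3 T) : Cos2 T := cos2_of_card h Cfsg.Agent.S2071.result (Cfsg.Agent.H136.Gen2.Co3.twoGen h)

theorem ru (h : Spor.IsoRu T) : Cos2 T := cos2_of_card h Cfsg.Agent.S2077.result (Rud.twoGen_ru h)

theorem ly (h : Spor.IsoLy T) : Cos2 T := cos2_of_card h Cfsg.Agent.S2076.result (Lyons.twoGen_ly h)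

theorem fi23 (h : Spor.IsoFi23 T) : Cos2 T := cos2_of_card h Cfsg.Agent.S2080.result (CoxInst.twoGen_fi23 h)

theorem th (h : Spor.IsoTh T) : Cos2 T := cos2_of_card h Cfsg.Agent.S2083.result (Cfsg.Agent.H136.Gen2.Th.twoGen h)

theorem b (h : Spor.IsoB T) : Cos2 T := cos2_of_card h Cfsg.Agent.S2084.result (CoxInst.twoGen_b h)

theorem m (h : Spor.IsoM T) : Cos2 T := cos2_of_card h Cfsg.Agent.S2085.result (MonsterM.twoGen_m h)

/-! ### `M12`, `M22`, `HS` -/

theorem m12 (h : Spor.IsoM12 T) : Cos2 T := by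
  obtain ⟨e⟩ := h
  refine cos2_of_outer e Cfsg.Agent.OddHalf.Table.OutMTwelve.al Cfsg.Agent.OddHalf.Table.OutMTwelve.mem_or_mem
    ⟨Cfsg.Agent.H994.TwoGen.M12.X, Cfsg.Agent.H994.TwoGen.M12.X_mem⟩ ?_
  apply Subgroup.map_injective Spor.M12.subtype_injective
  rw [MonoidHom.map_closure, Set.image_pair]
  change _root_.Subgroup.closure ({Cfsg.Agent.H994.TwoGen.M12.X, Cfsg.Agent.CoThreeStd.OutAut.pPi *
    Cfsg.Agent.H994.TwoGen.M12.X * Cfsg.Agent.CoThreeStd.OutAut.pPi⁻¹} : Set (Equiv.Perm GolayPt)) = _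
  rw [Cfsg.Agent.H487.Gen.SporRows.gen12, ← MonoidHom.range_eq_map, Subgroup.range_subtype]

section m22

open Cfsg.Agent.J4Type.Aut22 (D22 mem_D22_iff exists_conj)
open Cfsg.Agent.SporadicA.MathieuRecog (mem_M22_iff)
open Cfsg.Agent.H994.TwoGen.M22 (X X_mem)
open Cfsg.Agent.H487.Gen.SporRows (z22 z22_mem z22_mem24 z22_none z22_zero conj22 gen22)

theorem m22 (h : Spor.IsoM22 T) : Cos2 T := by
  obtain ⟨e⟩ := h
  refine cos2_of_conj Spor.M22 D22 e exists_conj z22 (fun q => ⟨fun h => conj22 h z22_mem, fun h => ?_⟩) ?_ X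
    X_mem gen22
  · have h1 := conj22 h (inv_mem z22_mem)
    have h2 : z22⁻¹ * (z22 * q * z22⁻¹) * z22⁻¹⁻¹ = q := by group
    rwa [h2] at h1
  · intro p hp
    obtain ⟨h1, h2 | h2⟩ := (mem_D22_iff _).1 hp
    · exact Or.inl ((mem_M22_iff _).2 ⟨h1, h2⟩)
    · refine Or.inr ((mem_M22_iff _).2 ⟨mul_mem z22_mem24 h1, ?_, ?_⟩)
      · rw [Equiv.Perm.mul_apply, h2.1, z22_zero]
      · rw [Equiv.Perm.mul_apply, h2.2, z22_none]

end m22

section hs

open Cfsg.Agent.SporadicA.PermTab Cfsg.Agent.HN.HS100 Cfsg.Agent.HN.AutBound Cfsg.Agent.HN.AutHS Equiv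
open Cfsg.Agent.HSType.Letters Cfsg.Agent.H994.TwoGen.Words
open Cfsg.Agent.H487.Gen.SporRows (genHS)

theorem hs (h : Spor.IsoHS T) : Cos2 T := by
  obtain ⟨e⟩ := h
  obtain ⟨⟨f⟩, -⟩ := nonempty_Q
  have hconj : ∀ q ∈ Q, ∀ z ∈ autG 100 adjA, z * q * z⁻¹ ∈ Q := by
    intro q hq z hz
    obtain ⟨h1, h2⟩ := mem_Q_iff.1 hq
    refine mem_Q_iff.2 ⟨mul_mem (mul_mem hz h1) (inv_mem hz), ?_⟩
    rw [map_mul, map_mul, h2, map_inv, mul_one, mul_inv_cancel]
  refine cos2_of_conj Q (autG 100 adjA) (e.trans f.symm) exists_perm Z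
    (fun q => ⟨fun h => hconj q h Z Z_mem, fun h => ?_⟩) ?_ pr pr_mem genHS
  · have h1 := hconj _ h Z⁻¹ (inv_mem Z_mem)
    have h2 : Z⁻¹ * (Z * q * Z⁻¹) * Z⁻¹⁻¹ = q := by group
    rwa [h2] at h1
  · intro p hp
    rcases Int.units_eq_one_or (Perm.sign p) with h1 | h1
    · exact Or.inl (mem_Q_iff.2 ⟨hp, h1⟩)
    · exact Or.inr (mem_Q_iff.2 ⟨mul_mem Z_mem hp, by rw [map_mul, h1, sign_Z]; decide⟩)

end hs

end Cfsg.Agent.H973.DG.Spor
end

-- part: H831/DG/J2Row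
section
/-!
# S4180: `Cos2` for the Hall–Janko group (helper831)

`J2` on 100 points, `u` the odd involution commuting with `x` and `f`; `J2 = ⟨xy, u xy u⟩`.
-/

set_option autoImplicit false
set_option maxRecDepth 100000

namespace Cfsg.Agent.H831.DG.J2Row

open Cfsg.Agent.H891.DG Cfsg.Agent.H831.DG.CosTwo Cfsg.Agent.H831.DG.PermAut Cfsg.Agent.H994.TwoGen.Words
open Equiv Cfsg.Agent.SporadicA.PermTab Cfsg.Agent.SporadicA.J2Data Cfsg.Agent.SporadicA.J2Hundred
  Cfsg.Agent.OddHalf.Table.CentTab Cfsg.Agent.OddHalf.Table.J2OutData Cfsg.Agent.OddHalf.Table.OutJ2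

universe v

theorem u_inv : u⁻¹ = u := inv_eq_of_mul_eq_one_left u2

theorem uy : u * y * u⁻¹ = y * f ^ 3 := by
  rw [u_inv]
  have h := pw_eq gen_val (L := [8, 7, 8]) (M := [7, 6, 6, 6]) (by decide +kernel)
  simpa only [pw_cons, pw_nil, mul_one, pow_succ, pow_zero, one_mul, mul_assoc] using h

theorem uxu : u * x * u⁻¹ = x := by rw [ux, mul_inv_cancel_right]
theorem ufu : u * f * u⁻¹ = f := by rw [uf, mul_inv_cancel_right]

theorem conj_G : ∀ z ∈ G, u * z * u⁻¹ ∈ G := by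
  have h : G ≤ G.comap (MulAut.conj u).toMonoidHom := by
    refine le_closure ?_ ?_ ?_
    · show u * x * u⁻¹ ∈ G
      rw [uxu]; exact x_mem
    · show u * f * u⁻¹ ∈ G
      rw [ufu]; exact f_mem
    · show u * y * u⁻¹ ∈ G
      rw [uy]; exact mul_mem y_mem (pow_mem f_mem 3)
  exact fun z hz => h hz

/-- `xy` -/
def wA : List ℕ := [5, 7]
def wAi : List ℕ := [7, 5, 5, 5, 5, 5, 5]
def wB : List ℕ := [8, 5, 7, 8]
def wBi : List ℕ := [8, 7, 5, 5, 5, 5, 5, 5, 8]

theorem of_eq {L M : List ℕ} (h : chkW 100 tab L M = true) : val gen L = val gen M := pw_eq gen_val h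

theorem val_nil' : val gen [] = 1 := pw_nil

theorem chk_A : val gen (wA ++ wAi) = 1 := (of_eq (M := []) (by decide +kernel)).trans val_nil'
theorem chk_B : val gen (wB ++ wBi) = 1 := (of_eq (M := []) (by decide +kernel)).trans val_nil'

theorem mem_of {w : List ℕ} {k : ℕ} (h : chkW 100 tab (expand wA wB wAi wBi w) [k] = true) :
    gen k ∈ Subgroup.closure ({val gen wA, val gen wB} : Set (Perm (Fin 100))) := by
  have h1 : gen k = val gen (expand wA wB wAi wBi w) := ((pw1 k).symm.trans (of_eq h).symm)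
  rw [h1]
  exact expand_mem gen chk_A chk_B w

theorem val_A : val gen wA = x * y := pw2 5 7

theorem val_B : val gen wB = u * (x * y) * u⁻¹ := by
  rw [u_inv]
  change pw gen [8, 5, 7, 8] = _
  simp only [pw_cons, pw_nil, mul_one, mul_assoc]

theorem gen_le : G ≤ Subgroup.closure ({x * y, u * (x * y) * u⁻¹} : Set (Perm (Fin 100))) := by
  rw [← val_B, ← val_A]
  refine le_closure (mem_of (w := [3, 0, 1, 2, 3, 0, 1, 2, 3, 0, 1, 2]) ?_)
    (mem_of (w := [0, 0, 1, 1, 0, 0, 1, 1, 2, 2, 3, 3, 0, 0, 0, 1, 0]) ?_)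
    (mem_of (w := [1, 2, 3, 0, 1, 2, 3, 0, 1, 2, 3, 0, 0]) ?_) <;> decide +kernel

theorem outer : ∀ r ∈ G, ¬ ∀ z ∈ G, u * z * u⁻¹ = r * z * r⁻¹ := by
  intro r hr h
  have hx := h x x_mem
  rw [uxu] at hx
  have hf := h f f_mem
  rw [ufu] at hf
  obtain ⟨i, hi⟩ := cent_x hr (mul_inv_eq_iff_eq_mul.1 hx.symm)
  have h1 : f * r * f⁻¹ = r := by
    have h2 : r * f = f * r := mul_inv_eq_iff_eq_mul.1 hf.symm
    rw [← h2, mul_inv_cancel_right]
  have h2 : f * r * f⁻¹ = r ^ 3 := by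
    rw [hi, ← conj_pow, fx, ← pow_mul, ← pow_mul, Nat.mul_comm]
  have h3 : r ^ 2 = 1 := by
    rw [h1] at h2
    have h4 : r * r ^ 2 = r * 1 := by rw [← pow_succ', mul_one]; exact h2.symm
    exact mul_left_cancel h4
  have h4 : r ^ 7 = 1 := by rw [hi, ← pow_mul, Nat.mul_comm, pow_mul, x7, one_pow]
  have h5 : r = 1 := by
    have h6 : r ^ 7 = (r ^ 2) ^ 3 * r := by rw [← pow_mul, ← pow_succ]
    rw [h6, h3, one_pow, one_mul] at h4
    exact h4
  have hy := h y y_mem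
  rw [uy, h5, one_mul, inv_one, mul_one] at hy
  exact f3_ne (mul_left_cancel (hy.trans (mul_one y).symm))

/-- **Row `J2` of `Cos2`.** -/
theorem cos2_j2 {T : Type v} [Group T] (h : Cfsg.Spor.IsoJ2 T) : Cos2 T := by
  obtain ⟨e⟩ := h
  obtain ⟨g⟩ := Cfsg.Agent.J2.HundredGens.J2_iso Cfsg.Agent.S1619.result.2.2.2
  refine cos2_congr (e.trans g).symm (cos2_of_conj G ?_ u u2 conj_G outer (mul_mem x_mem y_mem) gen_le)
  rw [Cfsg.Agent.H55.OutGen.card_out_congr g.symm]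
  exact Cfsg.Agent.S2066.result

end Cfsg.Agent.H831.DG.J2Row
end

-- part: H831/DG/J3Row
section
/-!
# S4180: `Cos2` for the Janko group `J3` (helper831)

`3·J3 = ⟨t, φ t⟩` with `t = c d_i d_i b_{1+i}` of order 5, `φ` the semilinear automorphism.
-/

set_option autoImplicit false
set_option maxRecDepth 100000

namespace Cfsg.Agent.H831.DG.J3Row

open Cfsg.Agent.H440.TwoGen Cfsg.Agent.H891.DG Cfsg.Agent.H831.DG.CosTwo
open Cfsg.Spor Cfsg.Agent.J3.Core Cfsg.Agent.J3.Tab Cfsg.Agent.J3.Mono Cfsg.Agent.J3.Elts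
open Cfsg.Agent.Lib.BitSet Cfsg.Agent.J3.Order Cfsg.Agent.J3.Nineteen Cfsg.Agent.J3.Simple Matrix
open Cfsg.Agent.H55.JThree Cfsg.Agent.H55

universe u

/-- table of `t` -/
def tT : List ℕ := compT tC (compT (tD j) (compT (tD j) (tB u0)))
/-- table of `φ t` -/
def tU : List ℕ := compT tC (compT (tD (0, 2)) (compT (tD (0, 2)) (tB (1, 2))))

/-- tables of the letters `t, φ t, t⁻¹, (φ t)⁻¹` -/
def tl : ℕ → List ℕ
  | 0 => tT
  | 1 => tU
  | 2 => powT tT 4
  | _ => powT tU 4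

/-- table of a word -/
def evT : List ℕ → List ℕ
  | [] => tS 0
  | l :: w => compT (tl l) (evT w)

/-- word for `B_{1+i}` -/
def wP : List ℕ := [2, 1, 2, 2, 3, 2, 3, 0, 1, 0, 3, 0, 0, 1, 0, 3, 2, 2, 1]
/-- word for `C_1 D_i` -/
def wQ : List ℕ := [2, 2, 3, 2, 3, 0, 3, 0, 3, 0, 0, 1, 0, 3, 3, 0, 3, 0, 0]

theorem chk_P : beqL (cols (evT wP)) (cols (tB u0)) = true := by decide +kernel
theorem chk_Q : beqL (cols (evT wQ)) (cols (compT tC (tD j))) = true := by decide +kernel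

section
variable {F : Type*} [Field F] {ω : F}

/-- the element `t` -/
def te (G : Gens F ω) : threeJ3 F ω := G.c * (G.d j * (G.d j * G.b u0))
/-- the element `φ t` -/
def ue (G : Gens F ω) : threeJ3 F ω := G.c * (G.d (0, 2) * (G.d (0, 2) * G.b (1, 2)))

/-- the letters as group elements -/
def xl (G : Gens F ω) : ℕ → threeJ3 F ω
  | 0 => te G
  | 1 => ue G
  | 2 => te G ^ 4
  | _ => ue G ^ 4

theorem rep_t (H : Good ω) (G : Gens F ω) : RepG ω tT (te G) :=
  (rC G H).mul ((rD G H j).mul ((rD G H j).mul (rB G H u0 u0_ne)))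

theorem rep_u (H : Good ω) (G : Gens F ω) : RepG ω tU (ue G) :=
  (rC G H).mul ((rD G H (0, 2)).mul ((rD G H (0, 2)).mul (rB G H (1, 2) (by decide))))

theorem rep_l (H : Good ω) (G : Gens F ω) (l : ℕ) : RepG ω (tl l) (xl G l) := by
  match l with
  | 0 => exact rep_t H G
  | 1 => exact rep_u H G
  | 2 => exact (rep_t H G).pow H 4
  | n + 3 => exact (rep_u H G).pow H 4

theorem rep_w (H : Good ω) (G : Gens F ω) (w : List ℕ) : RepG ω (evT w) (w.map (xl G)).prod := by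
  induction w with
  | nil => exact repG_one H
  | cons l w ih =>
    rw [List.map_cons, List.prod_cons]
    exact (rep_l H G l).mul ih

theorem mem_w (G : Gens F ω) {N : Subgroup (threeJ3 F ω)} (hP : te G ∈ N) (hQ : ue G ∈ N)
    (w : List ℕ) : (w.map (xl G)).prod ∈ N := by
  apply Subgroup.list_prod_mem
  intro y hy
  obtain ⟨l, -, rfl⟩ := List.mem_map.1 hy
  match l with
  | 0 => exact hP
  | 1 => exact hQ
  | 2 => exact N.pow_mem hP 4
  | n + 3 => exact N.pow_mem hQ 4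

theorem closure_eq (H : Good ω) (G : Gens F ω) :
    Subgroup.closure ({te G, ue G} : Set (threeJ3 F ω)) = ⊤ := by
  rw [eq_top_iff, ← Cfsg.Agent.H440.TwoGen.JThree.closure_eq H G, Subgroup.closure_le]
  have hP : te G ∈ Subgroup.closure ({te G, ue G} : Set (threeJ3 F ω)) := Subgroup.subset_closure (by simp)
  have hQ : ue G ∈ Subgroup.closure ({te G, ue G} : Set (threeJ3 F ω)) := Subgroup.subset_closure (by simp)
  rintro z (rfl | hz)
  · rw [← (rep_w H G wP).ext (rB G H u0 u0_ne) (beqL_eq chk_P)]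
    exact mem_w G hP hQ wP
  · rw [Set.mem_singleton_iff] at hz
    subst hz
    rw [← (rep_w H G wQ).ext ((rC G H).mul (rD G H j)) (beqL_eq chk_Q)]
    exact mem_w G hP hQ wQ

theorem phi_t [Fintype F] (hF : Fintype.card F = 4) (H : Good ω) (G : Gens F ω) : phi hF H (te G) = ue G := by
  apply mat_injective
  rw [mat_phi, te, ue]
  simp only [map_mul]
  rw [G.hc, G.hd, G.hd, G.hb u0 u0_ne, G.hb (1, 2) (by decide), phiM_C, phiM_D, phiM_B]
  rfl

theorem cos2 [Fintype F] (hF : Fintype.card F = 4) (hω : ω ^ 2 + ω + 1 = 0) : Cos2 (J3 F ω) := by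
  have H := good_of_card hF hω
  obtain ⟨G⟩ := exists_gens hF H
  refine cos2_of_swap (Cfsg.Agent.S2067.result hF ω hω) (α := OutGen.centerQuot (phi hF H))
    (OutGen.centerQuot_not_inner (hom_center hF H) (phi_not_inner hF H))
    (QuotientGroup.mk' (Subgroup.center (threeJ3 F ω)) (te G)) ?_
  have h1 : OutGen.centerQuot (phi hF H) (QuotientGroup.mk' (Subgroup.center (threeJ3 F ω)) (te G)) =
      QuotientGroup.mk' (Subgroup.center (threeJ3 F ω)) (ue G) := by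
    rw [← phi_t hF H G]
    exact OutGen.centerQuot_mk (phi hF H) (te G)
  rw [h1, ← Set.image_pair, ← MonoidHom.map_closure, closure_eq H G, ← MonoidHom.range_eq_map,
    MonoidHom.range_eq_top.2 (QuotientGroup.mk'_surjective _)]

end

/-- **Row `J3` of `Cos2`.** -/
theorem cos2_j3 {T : Type u} [Group T] (h : Cfsg.Spor.IsoJ3 T) : Cos2 T := by
  obtain ⟨F, _, _, ω, hF, hω, ⟨e⟩⟩ := h
  exact cos2_congr e.symm (cos2 hF hω)

end Cfsg.Agent.H831.DG.J3Row
end

-- part: H831/DG/McLRow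
section
/-!
# S4180: `Cos2` for the McLaughlin group (helper831)

`McL` on the 275 points of the McLaughlin graph; `Z` is an involution of `McL.2` with 11 fixed points.
-/

set_option autoImplicit false
set_option maxRecDepth 100000

namespace Cfsg.Agent.H831.DG.McLRow

open Cfsg Cfsg.Agent.H891.DG Cfsg.Agent.H831.DG.CosTwo Cfsg.Agent.H831.DG.PermAut Cfsg.Agent.H994.TwoGen.Words
open Cfsg.Agent.McLType.Gens Cfsg.Agent.McLType.Chain Cfsg.Agent.McLType.Model Cfsg.Agent.SporadicStructure.PermChain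
open Cfsg.Agent.McLType.X275

universe u

/-- table of the outer involution -/
def tabZ : ℕ := 0x1917e5b69c39406d6c0dc24fb55b660a827904588ec630fd506b8417d2a5631235e8f54340c3281268b9070060b20cc02399d5b8030ba71142b579805ae5081ea0d0b27971808e8799cf668478c91016099d818ea583fc1d0161b09d6d588acd7ab41a1215a381412cc6bc5f10c5ec76f851720d839f4a4fd3f2994a6f389fc490d109444ae21e820b05a2b86df25e0f1dc306e67b51ec8c1838452cd43bcd002276c11e0855129d547068b68804449329cc4273881467c52242181a7e0188ed0693a495125abdc76de7d25092d688260b2994bbe0383611aa53c466b915de155b194baba349409c78591d012797f0113600308b062b8851500abb15338728b58bb9ba3a700cd12b70e8293aa129a113e7203a4c4e554b1b1e29171b3098ae65c2604db07b1558c900898829a0f9a86a3e723a0163c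

theorem permZ : permCheck 9 275 tabZ tabZ = true := by decide +kernel

/-- the outer involution -/
def Z : Equiv.Perm (Fin 275) := mkPerm 9 275 tabZ tabZ permZ

/-- the eight tables -/
def tb : List ℕ := [tab_a, tab_b, tab_c, tab_x, tab_y, tab_w, tab_g, tabZ]

/-- the eight permutations -/
def m : Fin 8 → Equiv.Perm (Fin 275)
  | 0 => σ 0
  | 1 => σ 1
  | 2 => σ 2
  | 3 => σ 3
  | 4 => σ 4
  | 5 => σ 5
  | 6 => σ 6
  | 7 => Z

theorem m_spec (k : Fin 8) (i : Fin 275) : (m k i : ℕ) = look 9 (tb.getD k 0) i := by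
  fin_cases k <;> rfl

/-- the value of a word at a point -/
def ev (w : List (Fin 8)) (i : ℕ) : ℕ := evalWord 9 tb (w.map (fun k => (k : ℕ))) i

theorem ev_spec (w : List (Fin 8)) (i : Fin 275) : ((val m w) i : ℕ) = ev w i := by
  induction w with
  | nil => rfl
  | cons s w ih =>
    unfold val at ih ⊢
    rw [List.map_cons, List.prod_cons, Equiv.Perm.mul_apply, m_spec, ih]
    rfl

/-- the word acts trivially -/
def chk (w : List (Fin 8)) : Bool := allBelow (fun i => Nat.beq (ev w i) i) 275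

theorem of_chk {w : List (Fin 8)} (h : chk w = true) : val m w = 1 := by
  refine Equiv.ext fun i => Fin.ext ?_
  rw [ev_spec]
  exact Nat.eq_of_beq_eq_true (allBelow_spec _ _ h i i.2)

/-- the McLaughlin group -/
def R : Subgroup (Equiv.Perm (Fin 275)) := Subgroup.closure (Set.range σ)

theorem σ_mem (k : Fin 7) : σ k ∈ R := Subgroup.subset_closure ⟨k, rfl⟩

theorem isoMcL_R : Cfsg.Spor.IsoMcL R := by
  obtain ⟨e'⟩ := isoMcL_G1
  have h1 : (⊤ : Subgroup G1).map ψ = R := by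
    rw [← closure_m, MonoidHom.map_closure, ← Set.range_comp, R]
    congr 2
    funext k
    exact ψ_m k
  have e1 : G1 ≃* (⊤ : Subgroup G1) := Subgroup.topEquiv.symm
  have e2 : (⊤ : Subgroup G1) ≃* (⊤ : Subgroup G1).map ψ := (⊤ : Subgroup G1).equivMapOfInjective ψ ψ_injective
  exact ⟨((MulEquiv.subgroupCongr h1).symm.trans (e2.symm.trans e1.symm)).trans e'⟩

theorem ZZ : Z * Z = 1 := by
  have h : val m [7, 7] = 1 := of_chk (by decide +kernel)
  have h1 : val m [7, 7] = Z * Z := by simp [val, m]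
  rw [← h1, h]

theorem Z_inv : Z⁻¹ = Z := inv_eq_of_mul_eq_one_left ZZ

/-- words for the conjugates -/
def cw : Fin 7 → List (Fin 8)
  | 0 => [1, 4, 5, 4, 3, 6, 4, 5, 0, 6, 2, 3, 4, 5, 4]
  | 1 => [0, 1, 4, 3, 6, 3, 5, 0, 6, 2, 0, 5, 3, 0, 6, 3]
  | 2 => [2, 4, 1, 0, 6, 5, 3, 6, 3, 6, 0, 5, 6, 1, 4]
  | 3 => [4, 5, 3, 2, 6, 4, 3, 4, 5, 4, 6, 3, 5, 4, 6, 5, 4]
  | 4 => [5, 4, 6, 4, 3, 6, 1, 2, 5, 6, 5, 3, 6, 4, 5, 1, 6]
  | 5 => [1, 4, 3, 6, 3, 6, 5, 0, 6, 3, 5, 6, 3, 6, 3]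
  | 6 => [3, 6, 3, 4, 5, 3, 6, 3, 2, 4, 3, 6, 3, 5, 4, 3, 6, 3]

/-- the letter -/
def lt (k : Fin 7) : Fin 8 := k.castSucc

theorem m_lt (k : Fin 7) : m (lt k) = σ k := by fin_cases k <;> rfl

theorem m_mem {k : Fin 8} (hk : k ≠ 7) : m k ∈ R := by
  fin_cases k
  · exact σ_mem 0
  · exact σ_mem 1
  · exact σ_mem 2
  · exact σ_mem 3
  · exact σ_mem 4
  · exact σ_mem 5
  · exact σ_mem 6
  · exact absurd rfl hk

theorem val_mem : ∀ {w : List (Fin 8)}, (∀ k ∈ w, k ≠ 7) → val m w ∈ R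
  | [], _ => by
    show ((([] : List (Fin 8)).map m).prod) ∈ R
    rw [List.map_nil, List.prod_nil]
    exact R.one_mem
  | k :: w, h => by
    have h1 : val m (k :: w) = m k * val m w := by simp [val]
    rw [h1]
    exact R.mul_mem (m_mem (h k (by simp))) (val_mem fun j hj => h j (by simp [hj]))

private theorem _root_.Cfsg.Agent.KO6f6f495.e5.{ku, kv} {α : Type kv} {M : List α → Sort ku} (φ : ∀ l, M l) {z : M List.nil} {s : ∀ a l, M l → M (List.cons a l)} (h0 : φ List.nil = z) (hs : ∀ a l, φ (List.cons a l) = s a l (φ l)) (l : List α) : φ l = @List.rec α M z s l := List.rec h0 (fun a l ih => (hs a l).trans (congrArg (s a l) ih)) l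
private theorem _root_.Cfsg.Agent.KO6f6f495.e13.{ku} {M : Nat → Sort ku} (φ : ∀ n, M n) {z : M Nat.zero} {s : ∀ n, M n → M (Nat.succ n)} (h0 : φ Nat.zero = z) (hs : ∀ n, φ (Nat.succ n) = s n (φ n)) (n : Nat) : φ n = @Nat.rec M z s n := Nat.rec h0 (fun n ih => (hs n).trans (congrArg (s n) ih)) n
private noncomputable def _root_.Cfsg.Agent.KO6f6f495.k18.{ku0} : ((x0 : Sort (ku0+1)) → ((@List.{ku0} @x0) → (@Nat → @Option.{ku0} @x0))) := @(fun (x0 : Sort (ku0+1)) (x1 : @List.{ku0} @x0) (x2 : @Nat) => @List.rec.{(ku0+1), ku0} @x0 @(fun (x3 : @List.{ku0} @x0) => (@Nat → @Option.{ku0} @x0)) @(fun (x3 : @Nat) => @Option.none.{ku0} @x0) @(fun (x3 : x0) (x4 : @List.{ku0} @x0) (x5 : (@Nat → @Option.{ku0} @x0)) (x6 : @Nat) => @Nat.rec.{(ku0+1)} @(fun (x7 : @Nat) => @Option.{ku0} @x0) (@Option.some.{ku0} @x0 @x3) @(fun (x7 : @Nat) (x8 : @Option.{ku0} @x0) => @x5 @x7) @x6) @x1 @x2)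
private theorem _root_.Cfsg.Agent.KO6f6f495.e18.{ku0} : @List.get?Internal.{ku0} = @_root_.Cfsg.Agent.KO6f6f495.k18.{ku0} := by delta _root_.Cfsg.Agent.KO6f6f495.k18; funext a0 a1 a2; refine (congrFun (_root_.Cfsg.Agent.KO6f6f495.e5 (fun a1 a2 => @List.get?Internal.{ku0} a0 a1 a2) ?_ (fun c0 c1 => ?_) a1) a2 :) <;> [(funext b0; (rfl')); (funext b0; (cases b0 with | @zero  => (rfl') | @succ b0_0 => (rfl')))]
private noncomputable def _root_.Cfsg.Agent.KO6f6f495.k34.{ku0} : ((x0 : Sort (ku0+1)) → ((@List.{ku0} @x0) → ((@List.{ku0} @x0) → @List.{ku0} @x0))) := @(fun (x0 : Sort (ku0+1)) (x1 : @List.{ku0} @x0) (x2 : @List.{ku0} @x0) => @List.rec.{(ku0+1), ku0} @x0 @(fun (x3 : @List.{ku0} @x0) => ((@List.{ku0} @x0) → @List.{ku0} @x0)) @(fun (x3 : @List.{ku0} @x0) => x3) @(fun (x3 : x0) (x4 : @List.{ku0} @x0) (x5 : ((@List.{ku0} @x0) → @List.{ku0} @x0)) (x6 : @List.{ku0} @x0) => @List.cons.{ku0} @x0 @x3 (@x5 @x6)) @x1 @x2)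
private theorem _root_.Cfsg.Agent.KO6f6f495.e34.{ku0} : @List.append.{ku0} = @_root_.Cfsg.Agent.KO6f6f495.k34.{ku0} := by delta _root_.Cfsg.Agent.KO6f6f495.k34; funext a0 a1 a2; refine (congrFun (_root_.Cfsg.Agent.KO6f6f495.e5 (fun a1 a2 => @List.append.{ku0} a0 a1 a2) ?_ (fun c0 c1 => ?_) a1) a2 :) <;> (rfl')
private noncomputable def _root_.Cfsg.Agent.KO6f6f495.k48 : (by first | exact type_of% @Cfsg.Agent.SporadicStructure.PermChain.allBelow | exact Unit : Sort _) := by first | (refine @Subtype.val _ (fun g => @Cfsg.Agent.SporadicStructure.PermChain.allBelow = @g) (@Subtype.mk _ _ (@(fun (x0 : (@Nat → @Bool)) (x1 : @Nat) => @Nat.rec.{1} @(fun (x2 : @Nat) => @Bool) @Bool.true @(fun (x2 : @Nat) (x3 : @Bool) => @Bool.rec.{1} @(fun (x4 : @Bool) => @Bool) @Bool.false @x3 (@x0 @x2)) @x1)) ?_); funext a0 a1; refine (_root_.Cfsg.Agent.KO6f6f495.e13 (fun a1 => @Cfsg.Agent.SporadicStructure.PermChain.allBelow a0 a1) ?_ (fun c0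 => ?_) a1 :) <;> (rfl')) | exact @Cfsg.Agent.SporadicStructure.PermChain.allBelow | exact ()
private theorem _root_.Cfsg.Agent.KO6f6f495.e48 : (by first | exact @Cfsg.Agent.SporadicStructure.PermChain.allBelow = @_root_.Cfsg.Agent.KO6f6f495.k48 | exact True : Prop) := by first | (delta _root_.Cfsg.Agent.KO6f6f495.k48; exact @Subtype.property _ (fun g => @Cfsg.Agent.SporadicStructure.PermChain.allBelow = @g) _) | rfl | trivial
private noncomputable def _root_.Cfsg.Agent.KO6f6f495.k49 : (by first | exact type_of% @Cfsg.Agent.SporadicStructure.PermChain.look | exact Unit : Sort _) := by first | (refine @Subtype.val _ (fun g => @Cfsg.Agent.SporadicStructure.PermChain.look = @g) (@Subtype.mk _ _ (@(fun (x0 : @Nat) (x1 : @Nat) (x2 : @Nat) => @Nat.mod (@Nat.shiftRight @x1 (@Nat.mul @x0 @x2)) (@Nat.pow (nat_lit 2) @x0))) ?_); rfl') | exact @Cfsg.Agent.SporadicStructure.PermChain.look | exact ()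
private theorem _root_.Cfsg.Agent.KO6f6f495.e49 : (by first | exact @Cfsg.Agent.SporadicStructure.PermChain.look = @_root_.Cfsg.Agent.KO6f6f495.k49 | exact True : Prop) := by first | (delta _root_.Cfsg.Agent.KO6f6f495.k49; exact @Subtype.property _ (fun g => @Cfsg.Agent.SporadicStructure.PermChain.look = @g) _) | rfl | trivial
private noncomputable def _root_.Cfsg.Agent.KO6f6f495.k50 : (by first | exact type_of% @Cfsg.Agent.SporadicStructure.PermChain.evalWord | exact Unit : Sort _) := by first | (refine @Subtype.val _ (fun g => @Cfsg.Agent.SporadicStructure.PermChain.evalWord = @g) (@Subtype.mk _ _ (@(fun (x0 : @Nat) (x1 : @List.{0} @Nat) (x2 : @List.{0} @Nat) (x3 : @Nat) => @List.rec.{1, 0} @Nat @(fun (x4 : @List.{0} @Nat) => (@Nat → @Nat)) @(fun (x4 : @Nat) => x4) @(fun (x4 : @Nat) (x5 : @List.{0} @Nat) (x6 : (@Nat → @Nat)) (x7 : @Nat) => @Cfsg.Agent.KO6f6f495.k49 @x0 (@Option.rec.{1, 0} @Nat @(fun (x8 : @Option.{0}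 @Nat) => @Nat) (nat_lit 0) @(fun (x8 : @Nat) => x8) (@Cfsg.Agent.KO6f6f495.k18.{0} @Nat @x1 @x4)) (@x6 @x7)) @x2 @x3)) ?_); rewrite [← Cfsg.Agent.KO6f6f495.e18.{0}, ← Cfsg.Agent.KO6f6f495.e49]; funext a0 a1 a2 a3; refine (congrFun (_root_.Cfsg.Agent.KO6f6f495.e5 (fun a2 a3 => @Cfsg.Agent.SporadicStructure.PermChain.evalWord a0 a1 a2 a3) ?_ (fun c0 c1 => ?_) a2) a3 :) <;> ((try delta Cfsg.Agent.SporadicStructure.PermChain.evalWord Cfsg.Agent.SporadicStructure.PermChain.evalWord._f); (try generalize @Cfsg.Agent.SporadicStructure.PermChain.look = g0); rfl')) | exact @Cfsg.Agent.SporadicStructure.PermChain.evalWord | exact ()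
private theorem _root_.Cfsg.Agent.KO6f6f495.e50 : (by first | exact @Cfsg.Agent.SporadicStructure.PermChain.evalWord = @_root_.Cfsg.Agent.KO6f6f495.k50 | exact True : Prop) := by first | (delta _root_.Cfsg.Agent.KO6f6f495.k50; exact @Subtype.property _ (fun g => @Cfsg.Agent.SporadicStructure.PermChain.evalWord = @g) _) | rfl | trivial
private noncomputable def _root_.Cfsg.Agent.KO6f6f495.k51.{ku0, ku1} : ((x0 : Sort (ku0+1)) → ((x1 : Sort (ku1+1)) → ((x0 → x1) → ((@List.{ku0} @x0) → @List.{ku1} @x1)))) := @(fun (x0 : Sort (ku0+1)) (x1 : Sort (ku1+1)) (x2 : (x0 → x1)) (x3 : @List.{ku0} @x0) => @List.rec.{(ku1+1), ku0} @x0 @(fun (x4 : @List.{ku0} @x0) => @List.{ku1} @x1) (@List.nil.{ku1} @x1) @(fun (x4 : x0) (x5 : @List.{ku0} @x0) (x6 : @List.{ku1} @x1) => @List.cons.{ku1} @x1 (@x2 @x4) @x6) @x3)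
private theorem _root_.Cfsg.Agent.KO6f6f495.e51.{ku0, ku1} : @List.map.{ku0, ku1} = @_root_.Cfsg.Agent.KO6f6f495.k51.{ku0, ku1} := by delta _root_.Cfsg.Agent.KO6f6f495.k51; funext a0 a1 a2 a3; refine (_root_.Cfsg.Agent.KO6f6f495.e5 (fun a3 => @List.map.{ku0, ku1} a0 a1 a2 a3) ?_ (fun c0 c1 => ?_) a3 :) <;> (rfl')
private noncomputable def _root_.Cfsg.Agent.KO6f6f495.k52.{ku0} : ((x0 : Sort (ku0+1)) → ((@List.{ku0} (@List.{ku0} @x0)) → @List.{ku0} @x0)) := @(fun (x0 : Sort (ku0+1)) (x1 : @List.{ku0} (@List.{ku0} @x0)) => @List.rec.{(ku0+1), ku0} (@List.{ku0} @x0) @(fun (x2 : @List.{ku0} (@List.{ku0} @x0)) => @List.{ku0} @x0) (@List.nil.{ku0} @x0) @(fun (x2 : @List.{ku0} @x0) (x3 : @List.{ku0} (@List.{ku0} @x0)) (x4 : @List.{ku0} @x0) => @Cfsg.Agent.KO6f6f495.k34.{ku0} @x0 @x2 @x4) @x1)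
private theorem _root_.Cfsg.Agent.KO6f6f495.e52.{ku0} : @List.flatten.{ku0} = @_root_.Cfsg.Agent.KO6f6f495.k52.{ku0} := by delta _root_.Cfsg.Agent.KO6f6f495.k52; rewrite [← Cfsg.Agent.KO6f6f495.e34.{ku0}]; funext a0 a1; refine (_root_.Cfsg.Agent.KO6f6f495.e5 (fun a1 => @List.flatten.{ku0} a0 a1) ?_ (fun c0 c1 => ?_) a1 :) <;> (rfl')
private noncomputable def _root_.Cfsg.Agent.KO6f6f495.k53 : (by first | exact type_of% @Cfsg.Agent.H831.DG.McLRow.ev | exact Unit : Sort _) := by first | (refine @Subtype.val _ (fun g => @Cfsg.Agent.H831.DG.McLRow.ev = @g) (@Subtype.mk _ _ (@(fun (x0 : @List.{0} (@Fin (@OfNat.ofNat.{0} @Nat (nat_lit 8) (@instOfNatNat (nat_lit 8))))) (x1 : @Nat) => @Cfsg.Agent.KO6f6f495.k50 (nat_lit 9) @Cfsg.Agent.H831.DG.McLRow.tb (@Cfsg.Agent.KO6f6f495.k51.{0, 0} @Nat @Nat @(fun (x2 : @Nat) => x2) (@Cfsg.Agent.KO6f6f495.k52.{0} @Nat (@Cfsg.Agent.KO6f6f495.k51.{0, 0} (@Fin (@OfNat.ofNat.{0} @Nat (nat_lit 8)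 (@instOfNatNat (nat_lit 8)))) (@List.{0} @Nat) @(fun (x2 : @Fin (@OfNat.ofNat.{0} @Nat (nat_lit 8) (@instOfNatNat (nat_lit 8)))) => @List.cons.{0} @Nat (@Fin.val (nat_lit 8) @x2) (@List.nil.{0} @Nat)) @x0))) @x1)) ?_); rewrite [← Cfsg.Agent.KO6f6f495.e52.{0}, ← Cfsg.Agent.KO6f6f495.e51.{0, 0}, ← Cfsg.Agent.KO6f6f495.e50]; (try delta Cfsg.Agent.H831.DG.McLRow.ev); (try generalize @Cfsg.Agent.SporadicStructure.PermChain.evalWord = g0); (try generalize @Cfsg.Agent.H831.DG.McLRow.tb = g1); rfl') | exact @Cfsg.Agent.H831.DG.McLRow.ev | exact ()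
private theorem _root_.Cfsg.Agent.KO6f6f495.e53 : (by first | exact @Cfsg.Agent.H831.DG.McLRow.ev = @_root_.Cfsg.Agent.KO6f6f495.k53 | exact True : Prop) := by first | (delta _root_.Cfsg.Agent.KO6f6f495.k53; exact @Subtype.property _ (fun g => @Cfsg.Agent.H831.DG.McLRow.ev = @g) _) | rfl | trivial
private noncomputable def _root_.Cfsg.Agent.KO6f6f495.k54 : (by first | exact type_of% @Cfsg.Agent.H831.DG.McLRow.chk | exact Unit : Sort _) := by first | (refine @Subtype.val _ (fun g => @Cfsg.Agent.H831.DG.McLRow.chk = @g) (@Subtype.mk _ _ (@(fun (x0 : @List.{0} (@Fin (@OfNat.ofNat.{0} @Nat (nat_lit 8) (@instOfNatNat (nat_lit 8))))) => @Cfsg.Agent.KO6f6f495.k48 @(fun (x1 : @Nat) => @Nat.beq (@Cfsg.Agent.KO6f6f495.k53 @x0 @x1) @x1) (nat_lit 275))) ?_); rewrite [← Cfsg.Agent.KO6f6f495.e53, ← Cfsg.Agent.KO6f6f495.e48]; (try delta Cfsg.Agent.H831.DG.McLRow.chk); (try generalize @Cfsg.Agent.SporadicStructure.PermChain.allBelow =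 g0); (try generalize @Cfsg.Agent.H831.DG.McLRow.ev = g1); rfl') | exact @Cfsg.Agent.H831.DG.McLRow.chk | exact ()
private theorem _root_.Cfsg.Agent.KO6f6f495.e54 : (by first | exact @Cfsg.Agent.H831.DG.McLRow.chk = @_root_.Cfsg.Agent.KO6f6f495.k54 | exact True : Prop) := by first | (delta _root_.Cfsg.Agent.KO6f6f495.k54; exact @Subtype.property _ (fun g => @Cfsg.Agent.H831.DG.McLRow.chk = @g) _) | rfl | trivial
private noncomputable def _root_.Cfsg.Agent.KO6f6f495.k55 : (by first | exact type_of% @Cfsg.Agent.H831.DG.McLRow.lt | exact Unit : Sort _) := by first | (refine @Subtype.val _ (fun g => @Cfsg.Agent.H831.DG.McLRow.lt = @g) (@Subtype.mk _ _ (@(fun (x0 : @Fin (@OfNat.ofNat.{0} @Nat (nat_lit 7) (@instOfNatNat (nat_lit 7)))) => @Fin.mk (@Nat.add (nat_lit 7) (nat_lit 1)) (@Fin.val (nat_lit 7) @x0) (@Fin.castLE._proof_1 (@OfNat.ofNat.{0} @Nat (nat_lit 7) (@instOfNatNat (nat_lit 7))) (@HAdd.hAdd.{0, 0, 0} @Nat @Nat @Nat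 (@instHAdd.{0} @Nat @instAddNat) (@OfNat.ofNat.{0} @Nat (nat_lit 7) (@instOfNatNat (nat_lit 7))) (@OfNat.ofNat.{0} @Nat (nat_lit 1) (@instOfNatNat (nat_lit 1)))) (@Nat.le_add_right (@OfNat.ofNat.{0} @Nat (nat_lit 7) (@instOfNatNat (nat_lit 7))) (@OfNat.ofNat.{0} @Nat (nat_lit 1) (@instOfNatNat (nat_lit 1)))) @x0))) ?_); rfl') | exact @Cfsg.Agent.H831.DG.McLRow.lt | exact ()
private theorem _root_.Cfsg.Agent.KO6f6f495.e55 : (by first | exact @Cfsg.Agent.H831.DG.McLRow.lt = @_root_.Cfsg.Agent.KO6f6f495.k55 | exact True : Prop) := by first | (delta _root_.Cfsg.Agent.KO6f6f495.k55; exact @Subtype.property _ (fun g => @Cfsg.Agent.H831.DG.McLRow.lt = @g) _) | rfl | trivial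
private noncomputable def _root_.Cfsg.Agent.KO6f6f495.k56.{ku0} : ((x0 : Sort (ku0+1)) → ((@List.{ku0} @x0) → ((@List.{ku0} @x0) → @List.{ku0} @x0))) := @(fun (x0 : Sort (ku0+1)) (x1 : @List.{ku0} @x0) (x2 : @List.{ku0} @x0) => @List.rec.{(ku0+1), ku0} @x0 @(fun (x3 : @List.{ku0} @x0) => ((@List.{ku0} @x0) → @List.{ku0} @x0)) @(fun (x3 : @List.{ku0} @x0) => x3) @(fun (x3 : x0) (x4 : @List.{ku0} @x0) (x5 : ((@List.{ku0} @x0) → @List.{ku0} @x0)) (x6 : @List.{ku0} @x0) => @x5 (@List.cons.{ku0} @x0 @x3 @x6)) @x1 @x2)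
private theorem _root_.Cfsg.Agent.KO6f6f495.e56.{ku0} : @List.reverseAux.{ku0} = @_root_.Cfsg.Agent.KO6f6f495.k56.{ku0} := by delta _root_.Cfsg.Agent.KO6f6f495.k56; funext a0 a1 a2; refine (congrFun (_root_.Cfsg.Agent.KO6f6f495.e5 (fun a1 a2 => @List.reverseAux.{ku0} a0 a1 a2) ?_ (fun c0 c1 => ?_) a1) a2 :) <;> (rfl')
private noncomputable def _root_.Cfsg.Agent.KO6f6f495.k57.{ku0} : ((x0 : Sort (ku0+1)) → ((@List.{ku0} @x0) → @List.{ku0} @x0)) := @(fun (x0 : Sort (ku0+1)) (x1 : @List.{ku0} @x0) => @Cfsg.Agent.KO6f6f495.k56.{ku0} @x0 @x1 (@List.nil.{ku0} @x0))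
private theorem _root_.Cfsg.Agent.KO6f6f495.e57.{ku0} : @List.reverse.{ku0} = @_root_.Cfsg.Agent.KO6f6f495.k57.{ku0} := by delta _root_.Cfsg.Agent.KO6f6f495.k57; rewrite [← Cfsg.Agent.KO6f6f495.e56.{ku0}]; rfl'

theorem cw_chk (k : Fin 7) : chk ([7, lt k, 7] ++ (cw k).reverse) = true := by
  fin_cases k <;> (first | (rewrite [Cfsg.Agent.KO6f6f495.e54, Cfsg.Agent.KO6f6f495.e55, Cfsg.Agent.KO6f6f495.e57.{0}]; decide +kernel) | decide +kernel)

theorem cw_ok (k : Fin 7) : ∀ j ∈ (cw k).reverse, j ≠ 7 := by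
  (revert k; decide +kernel)

theorem conj_gen (k : Fin 7) : Z * σ k * Z⁻¹ ∈ R := by
  have h := of_chk (cw_chk k)
  rw [val_append] at h
  have h1 : val m [7, lt k, 7] = Z * σ k * Z⁻¹ := by
    rw [Z_inv, ← m_lt]
    simp [val, m, mul_assoc]
  rw [h1, mul_eq_one_iff_eq_inv] at h
  rw [h]
  exact R.inv_mem (val_mem (cw_ok k))

theorem conj_R : ∀ x ∈ R, Z * x * Z⁻¹ ∈ R := conj_mem_of_gens rfl (by
  rintro _ ⟨k, rfl⟩
  exact conj_gen k)

/-- the element `t` -/
def wX : List (Fin 8) := [2, 6, 4]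
/-- the inverse of `t` -/
def wXi : List (Fin 8) := [4, 6, 2]
/-- `Z t Z` -/
def wY : List (Fin 8) := [7, 2, 6, 4, 7]
/-- the inverse -/
def wYi : List (Fin 8) := [7, 4, 6, 2, 7]

/-- words for the seven involutions in the two elements -/
def W : Fin 7 → List ℕ
  | 0 => [2, 1, 0, 3, 0, 3, 3, 2, 1, 2, 3, 3, 0, 3, 0, 1, 2, 2]
  | 1 => [2, 2, 2, 3, 0, 3, 2, 2, 1, 1, 2, 2, 2, 3, 3, 2, 2, 3, 0, 3]
  | 2 => [0, 0, 0]
  | 3 => [2, 2, 1, 1, 0, 0, 1, 0, 1, 2, 1, 1, 0, 0, 0, 3, 3, 2]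
  | 4 => [2, 2, 3, 3, 2, 2, 2, 1, 1, 0, 0, 0, 3, 3]
  | 5 => [2, 2, 1, 2, 1, 2, 3, 0, 1, 0, 3, 0, 1, 1, 0, 0, 3, 3]
  | 6 => [3, 3, 2, 2, 2, 1, 1, 0, 0, 0, 3, 3, 2, 2]

theorem chk_X : chk (wX ++ wXi) = true := by decide +kernel
theorem chk_Y : chk (wY ++ wYi) = true := by decide +kernel
theorem chk_W (k : Fin 7) : chk (expand wX wY wXi wYi (W k) ++ [lt k]) = true := by
  fin_cases k <;> (first | (rewrite [Cfsg.Agent.KO6f6f495.e54, Cfsg.Agent.KO6f6f495.e55]; decide +kernel) | decide +kernel)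

theorem val_Y : val m wY = Z * val m wX * Z⁻¹ := by
  rw [Z_inv]
  simp [val, m, wX, wY, mul_assoc]

theorem gen : R ≤ Subgroup.closure ({val m wX, Z * val m wX * Z⁻¹} : Set (Equiv.Perm (Fin 275))) := by
  rw [← val_Y, R, Subgroup.closure_le]
  rintro _ ⟨k, rfl⟩
  rw [← m_lt]
  exact mem_of_word m (of_chk chk_X) (of_chk chk_Y) (of_chk (chk_W k))

/-! ### `Z` induces an outer automorphism -/

theorem in_R : ∀ t ∈ tabs, InK 9 R t := inK0

theorem exists_of (y : Fin 275) : ∃ g ∈ R, g 0 = y := by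
  have h1 : MaskIn R 0 mask0 := by
    rw [← Nat.eq_of_beq_eq_true orb0]
    exact maskIn_grow R 0 tabs in_R _ _ (maskIn_single R 0)
  have h2 : Nat.testBit mask0 (y : ℕ) = true := by
    have h3 : allBelow (fun i => Nat.testBit mask0 i) 275 = true := by decide +kernel
    exact allBelow_spec _ _ h3 y y.2
  obtain ⟨hy, g, hg, h3⟩ := h1 _ h2
  exact ⟨g, hg, h3⟩

/-- the element `σ 0 σ 1 σ 2` fixes only the point 0 -/
theorem fix_zero {i : Fin 275} (h : val m [0, 1, 2] i = i) : i = 0 := by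
  have h1 : allBelow (fun i => cond (Nat.beq (ev [0, 1, 2] i) i) (Nat.beq i 0) true) 275 = true := by decide +kernel
  have h2 := allBelow_spec _ _ h1 i i.2
  have h3 : Nat.beq (ev [0, 1, 2] i) i = true := by
    rw [← ev_spec, h]
    exact Nat.beq_refl _
  rw [h3] at h2
  exact Fin.ext (Nat.eq_of_beq_eq_true h2)

/-- the centralizer of `R` is trivial -/
theorem cent {c : Equiv.Perm (Fin 275)} (hc : ∀ x ∈ R, c * x = x * c) : c = 1 := by
  have h0 : c 0 = 0 := by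
    apply fix_zero
    have hm : val m [0, 1, 2] ∈ R := val_mem (by decide)
    have h1 := hc _ hm
    have h2 : val m [0, 1, 2] 0 = 0 := Fin.ext (by rw [ev_spec]; decide +kernel)
    rw [← Equiv.Perm.mul_apply, ← h1, Equiv.Perm.mul_apply, h2]
  refine Equiv.ext fun y => ?_
  obtain ⟨g, hg, rfl⟩ := exists_of y
  rw [← Equiv.Perm.mul_apply, hc g hg, Equiv.Perm.mul_apply, h0]
  rfl

/-- number of fixed points -/
def fx (τ : Equiv.Perm (Fin 275)) : ℕ := (Finset.univ.filter fun i => τ i = i).card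

theorem fx_one : fx 1 = 275 := by
  have h : (Finset.univ.filter fun i : Fin 275 => (1 : Equiv.Perm (Fin 275)) i = i) = Finset.univ :=
    Finset.filter_true_of_mem (fun i _ => rfl)
  rw [fx, h, Finset.card_univ, Fintype.card_fin]

theorem inv_app (g : Equiv.Perm (Fin 275)) (i : Fin 275) : g⁻¹ (g i) = i := by
  rw [← Equiv.Perm.mul_apply, inv_mul_cancel]; rfl

theorem app_inv (g : Equiv.Perm (Fin 275)) (i : Fin 275) : g (g⁻¹ i) = i := by
  rw [← Equiv.Perm.mul_apply, mul_inv_cancel]; rfl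

theorem fx_conj (g τ : Equiv.Perm (Fin 275)) : fx (g * τ * g⁻¹) = fx τ := by
  unfold fx
  refine (Finset.card_bij (fun i _ => g i) ?_ ?_ ?_).symm
  · intro i hi
    rw [Finset.mem_filter] at hi ⊢
    refine ⟨Finset.mem_univ _, ?_⟩
    rw [Equiv.Perm.mul_apply, Equiv.Perm.mul_apply, inv_app, hi.2]
  · intro i _ j _ h
    exact g.injective h
  · intro i hi
    rw [Finset.mem_filter] at hi
    refine ⟨g⁻¹ i, ?_, app_inv g i⟩
    rw [Finset.mem_filter]
    refine ⟨Finset.mem_univ _, ?_⟩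
    have h := hi.2
    rw [Equiv.Perm.mul_apply, Equiv.Perm.mul_apply] at h
    rw [Equiv.Perm.eq_inv_iff_eq, h]

theorem fx_Z : fx Z = 11 := by decide +kernel
theorem fx_0 : fx (σ 0) = 35 := by decide +kernel

theorem Z_notMem : Z ∉ R := by
  intro hZ
  obtain ⟨hfin, hsimple, hcard, ⟨L⟩⟩ := Cfsg.Agent.TypeM.FactsMcL.facts isoMcL_R
  have h1 : (⟨Z, hZ⟩ : R) ≠ 1 := by
    intro h
    have h2 : Z = 1 := congrArg Subtype.val h
    have h3 := fx_Z
    rw [h2] at h3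
    rw [fx_one] at h3
    omega
  have h2 : (⟨σ 0, σ_mem 0⟩ : R) ≠ 1 := by
    intro h
    have h2 : σ 0 = 1 := congrArg Subtype.val h
    have h3 := fx_0
    rw [h2] at h3
    rw [fx_one] at h3
    omega
  have h3 : σ 0 * σ 0 = 1 := by
    have h : val m [0, 0] = 1 := of_chk (by decide +kernel)
    have h1 : val m [0, 0] = σ 0 * σ 0 := by simp [val, m]
    rw [← h1, h]
  obtain ⟨g, hg⟩ := L.one ⟨Z, hZ⟩ (Subtype.ext ZZ) h1
  obtain ⟨g', hg'⟩ := L.one ⟨σ 0, σ_mem 0⟩ (Subtype.ext h3) h2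
  have e1 : fx Z = fx (L.t : Equiv.Perm (Fin 275)) := by
    rw [← fx_conj g (L.t : Equiv.Perm (Fin 275))]
    exact (congrArg (fun s : R => fx (s : Equiv.Perm (Fin 275))) hg.symm :)
  have e2 : fx (σ 0) = fx (L.t : Equiv.Perm (Fin 275)) := by
    rw [← fx_conj g' (L.t : Equiv.Perm (Fin 275))]
    exact (congrArg (fun s : R => fx (s : Equiv.Perm (Fin 275))) hg'.symm :)
  rw [← e2, fx_Z, fx_0] at e1
  omega

theorem outer : ∀ r ∈ R, ¬ ∀ x ∈ R, Z * x * Z⁻¹ = r * x * r⁻¹ := by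
  intro r hr h
  apply Z_notMem
  have h1 : r⁻¹ * Z = 1 := by
    apply cent
    intro x hx
    have h2 := h x hx
    calc r⁻¹ * Z * x = r⁻¹ * (Z * x * Z⁻¹) * Z := by group
      _ = r⁻¹ * (r * x * r⁻¹) * Z := by rw [h2]
      _ = x * (r⁻¹ * Z) := by group
  rw [inv_mul_eq_one] at h1
  rw [← h1]
  exact hr

/-- **Row `McL` of `Cos2`.** -/
theorem cos2_mcl {T : Type u} [Group T] (h : Cfsg.Spor.IsoMcL T) : Cos2 T := by
  obtain ⟨e⟩ := h
  obtain ⟨f⟩ := isoMcL_R
  refine cos2_congr (f.trans e.symm) (cos2_of_conj R ?_ Z ZZ conj_R outer (val_mem (w := wX) (by decide)) gen)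
  rw [Cfsg.Agent.H55.OutGen.card_out_congr f]
  exact Cfsg.Agent.S2073.result

end Cfsg.Agent.H831.DG.McLRow
end

-- part: H831/DG/SuzRow
section
/-!
# S4180: `Cos2` for the Suzuki group (helper831)

`ρ` fixes `a, …, e` and swaps `f, g`; `Suz.2 = ⟨ρ · bc, (bfg)(de)⟩`.
-/

set_option autoImplicit false
set_option maxRecDepth 100000
set_option exponentiation.threshold 4000

namespace Cfsg.Agent.H831.DG.SuzRow

open Cfsg.Spor Cfsg.Agent.H440.TwoGen Cfsg.Agent.H891.DG Cfsg.Agent.Lib.PermNet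
  Cfsg.Agent.SporadicRecognition.SuzPhi Cfsg.Agent.SporadicRecognition.SuzOrder Cfsg.Agent.KFacts.SuzRho
  Cfsg.Agent.H831.DG.CosTwo

universe u

/-- the element of `Suz` of order 15 -/
def X : List Suz.Gen := [.b, .f, .g, .d, .e]

/-- the outer automorphism -/
noncomputable def al : MulAut Suz := rho * MulAut.conj (el [.b, .c])

/-- the group they generate -/
noncomputable def K : Subgroup Suz := cor al (el X)

theorem eq_of {v w : List Suz.Gen} (h : checkEq 11 (wd v) (wd w) = true) : el v = el w :=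
  Cfsg.Agent.H994.TwoGen.Suz.eq_of h

theorem bc3 : el [.b, .c] ^ 3 = 1 := by
  have h : el (([.b, .c] : List Cfsg.Spor.Suz.Gen) ++ (([.b, .c] : List Cfsg.Spor.Suz.Gen) ++ ([.b, .c] : List Cfsg.Spor.Suz.Gen))) = el [] := eq_of (by decide +kernel)
  rw [Cfsg.Agent.H994.TwoGen.Suz.el_append, Cfsg.Agent.H994.TwoGen.Suz.el_append] at h
  have h1 : el ([] : List Suz.Gen) = 1 := by simp [el]
  rw [h1] at h
  rw [pow_succ, pow_two, mul_assoc]
  exact h

theorem rho_bc : rho (el [.b, .c]) = el [.b, .c] := by rw [rho_el]; rfl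

theorem comm : MulAut.conj (el [.b, .c]) * rho = rho * MulAut.conj (el [.b, .c]) := by
  ext x
  change el [.b, .c] * rho x * (el [.b, .c])⁻¹ = rho (el [.b, .c] * x * (el [.b, .c])⁻¹)
  rw [map_mul, map_mul, map_inv, rho_bc]

theorem rho2 : rho * rho = (1 : MulAut Suz) := rho_sq

theorem al3 : al ^ 3 = rho := by
  have h1 : (MulAut.conj (el [.b, .c])) ^ 3 = (1 : MulAut Suz) := by rw [← map_pow, bc3, map_one]
  have h2 : al ^ 3 = rho ^ 3 * (MulAut.conj (el [.b, .c])) ^ 3 := by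
    unfold al
    exact (show Commute rho (MulAut.conj (el [.b, .c])) from comm.symm).mul_pow 3
  rw [h2, h1, mul_one, pow_succ, pow_two, rho2, one_mul]

theorem rho_mem : rho ∈ Subgroup.closure ({al, MulAut.conj (el X)} : Set (MulAut Suz)) := by
  rw [← al3]
  exact pow_mem (Subgroup.subset_closure (by simp)) 3

theorem bc_mem : el [.b, .c] ∈ K := by
  rw [K, mem_cor]
  have h : MulAut.conj (el [.b, .c]) = rho * al := by
    unfold al
    rw [← mul_assoc, rho2, one_mul]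
  rw [h]
  exact mul_mem rho_mem (Subgroup.subset_closure (by simp))

theorem hX : el X ∈ K := self_mem_cor _ _

theorem hrho {w : List Suz.Gen} (h : el w ∈ K) : el (w.map sw) ∈ K := by
  rw [← rho_el]
  exact apply_mem_cor rho_mem h

theorem app {v w : List Suz.Gen} (hv : el v ∈ K) (hw : el w ∈ K) : el (v ++ w) ∈ K := by
  rw [Cfsg.Agent.H994.TwoGen.Suz.el_append]; exact K.mul_mem hv hw

theorem of_eq {u v : List Suz.Gen} (hu : el u ∈ K) (h : checkEq 11 (wd v) (wd u) = true) : el v ∈ K := by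
  rw [eq_of h]; exact hu

theorem hx3 : el (X ++ X ++ X) ∈ K := app (app hX hX) hX
theorem hbfg : el [.b, .f, .g] ∈ K := of_eq (app hx3 hx3) (by decide +kernel)
theorem hD : el [.d, .e] ∈ K := of_eq (app (app (app hx3 hx3) hx3) hX) (by decide +kernel)
theorem hD' : el [.e, .d] ∈ K := of_eq (app hD hD) (by decide +kernel)
theorem hbgf : el [.b, .g, .f] ∈ K := (hrho hbfg :)
theorem ha : el [.a] ∈ K := of_eq (app (app (app (app hbfg hbfg) hbfg) hbfg) hbgf) (by decide +kernel)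
theorem hbab : el [.b, .a, .b] ∈ K :=
  of_eq (app hbfg (app (app (app hbgf hbgf) hbgf) hbgf)) (by decide +kernel)
theorem habab : el [.a, .b, .a, .b] ∈ K := (app ha hbab :)
theorem hab : el [.a, .b] ∈ K := of_eq (app (app habab habab) habab) (by decide +kernel)
theorem hb : el [.b] ∈ K := of_eq (app ha hab) (by decide +kernel)
theorem hc : el [.c] ∈ K := of_eq (app hb bc_mem) (by decide +kernel)
theorem hfg : el [.f, .g] ∈ K := of_eq (app hb hbfg) (by decide +kernel)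
theorem hgf : el [.g, .f] ∈ K := of_eq (app (app hfg hfg) hfg) (by decide +kernel)
theorem hf : el [.f] ∈ K :=
  of_eq (app hb (app hgf (app hb (app hfg (app hb (app ha (app hb (app hfg (app hb (app ha hb))))))))))
    (by decide +kernel)
theorem hg : el [.g] ∈ K := of_eq (app hf hfg) (by decide +kernel)

/-- letters `a, b, c, de, ed` -/
def lt : ℕ → List Suz.Gen
  | 0 => [.a]
  | 1 => [.b]
  | 2 => [.c]
  | 3 => [.d, .e]
  | _ => [.e, .d]

/-- words in these letters -/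
def ev : List ℕ → List Suz.Gen
  | [] => []
  | k :: l => lt k ++ ev l

theorem ev_mem : ∀ l : List ℕ, el (ev l) ∈ K
  | [] => by
    have h1 : el (ev []) = 1 := by simp [ev, el]
    rw [h1]
    exact K.one_mem
  | k :: l => app (by
      match k with
      | 0 => exact ha
      | 1 => exact hb
      | 2 => exact hc
      | 3 => exact hD
      | _ + 4 => exact hD') (ev_mem l)

theorem he : el [.e] ∈ K :=
  of_eq (ev_mem [4, 2, 3, 1, 2, 3, 2, 3, 1, 0, 1, 2, 4, 0, 1, 2, 4, 2, 4, 1, 0, 1, 2, 3, 0, 1, 2, 3, 2, 1, 0, 1, 0])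
    (by decide +kernel)
theorem hd : el [.d] ∈ K := of_eq (app hD he) (by decide +kernel)

theorem K_eq : K = ⊤ := by
  rw [eq_top_iff, ← PresentedGroup.closure_range_of, Subgroup.closure_le]
  rintro _ ⟨k, rfl⟩
  have h1 : ∀ k : Suz.Gen, el [k] = PresentedGroup.of k := fun k => by simp [el]
  rw [← h1 k]
  cases k
  · exact ha
  · exact hb
  · exact hc
  · exact hd
  · exact he
  · exact hf
  · exact hg

theorem al_outer (n : Suz) : al ≠ MulAut.conj n := by
  intro h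
  apply Cfsg.Agent.H997.OutSuz.rho_outer (n * (el [.b, .c])⁻¹)
  rw [map_mul, map_inv, ← h, al, mul_inv_cancel_right]

/-- **Row `Suz` of `Cos2`.** -/
theorem cos2_suz {T : Type u} [Group T] (h : Cfsg.Spor.IsoSuz T) : Cos2 T := by
  obtain ⟨e⟩ := h
  refine cos2_congr e.symm (cos2_of_cor Cfsg.Agent.S2074.result ?_ al_outer (el X) K_eq)
  exact Cfsg.Agent.H994.TwoGen.Suz.twoGen ⟨MulEquiv.refl _⟩

end Cfsg.Agent.H831.DG.SuzRow
end

-- part: H68/DG/CosHN
section
/-!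
# `Cos2` for `HN` (helper68, TEAM GEN, S4180)

`α : x ↦ x, y ↦ y, z ↦ z x², t ↦ t²` is an outer automorphism of `HN` and `Aut HN = ⟨y t, (x z) α⟩`.
-/

set_option autoImplicit false

namespace Cfsg.Agent.H68.DG.CosHN

open Cfsg.Agent.H440.TwoGen (TwoGen left_mem_of_pow right_mem_of_pow)

universe u

theorem hn_outer {G : Type u} [Group G] {x y z t : G} (hy : y ^ 6 = 1) (ht : t ^ 5 = 1) (hty : t * y = y * t)
    (hz : z * z = 1) (hx4 : x ^ 2 * x ^ 2 = 1) (hxt : x⁻¹ * t * x = (t ^ 2)⁻¹) (hzt : (z * t) ^ 3 = 1)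
    (hzx : (z * x) ^ 2 = 1) (hzx2 : z * x ^ 2 = x ^ 2 * z)
    (hr : (t * t * z * t⁻¹) * x ^ 2 * (t * t * z * t⁻¹)⁻¹ = z)
    (hw : z * (((y ^ 3 * x * y * x * y)⁻¹ * z * (y ^ 3 * x * y * x * y)) * x) ^ 3 = 1)
    (α : MulAut G) (ay : α y = y) (az : α z = z * x ^ 2) (at' : α t = t ^ 2) (S : Subgroup G)
    (h1 : y * t ∈ S) (hS : ∀ k : G, k ∈ S ↔ (x * z) * α k * (x * z)⁻¹ ∈ S) : x ∈ S ∧ y ∈ S ∧ z ∈ S ∧ t ∈ S := by
  have hyS : y ∈ S := left_mem_of_pow S hty.symm hy ht (by decide) h1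
  have htS : t ∈ S := right_mem_of_pow S hty.symm hy ht (by decide) h1
  have hzi : z⁻¹ = z := inv_eq_of_mul_eq_one_left hz
  have hx2i : (x ^ 2)⁻¹ = x ^ 2 := inv_eq_of_mul_eq_one_left hx4
  -- `z x² · k · z x² · z⁻¹`
  have e1 : ∀ k : G, (x * z) * (z * x ^ 2 * k * (z * x ^ 2)) * (x * z)⁻¹ = x⁻¹ * k * x := by
    intro k
    calc (x * z) * (z * x ^ 2 * k * (z * x ^ 2)) * (x * z)⁻¹
        = x * (z * z) * x ^ 2 * k * (z * x ^ 2) * z⁻¹ * x⁻¹ := by group
      _ = x * x ^ 2 * k * (x ^ 2 * z) * z⁻¹ * x⁻¹ := by rw [hz, mul_one, hzx2]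
      _ = x⁻¹ * (x ^ 2 * x ^ 2) * k * x := by group
      _ = x⁻¹ * k * x := by rw [hx4, mul_one]
  have h2 : z * t * z ∈ S := by
    rw [hS, map_mul, map_mul, az, at', e1]
    have h3 : x⁻¹ * t ^ 2 * x = t := by
      calc x⁻¹ * t ^ 2 * x = (x⁻¹ * t * x) * (x⁻¹ * t * x) := by
            rw [pow_two]; simp only [mul_assoc, mul_inv_cancel_left]
        _ = (t ^ 5)⁻¹ * t := by rw [hxt]; group
        _ = t := by rw [ht, inv_one, one_mul]
    rwa [h3]
  have hzS : z ∈ S := by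
    have h5 : z = t * (z * t * z) * t := by
      have h6 : (z * t) * (z * t) * (z * t) = 1 := by rw [← hzt]; simp only [pow_succ, pow_zero, one_mul]
      have h7 : z * (t * (z * t * z) * t) = 1 := by rw [← h6]; simp only [mul_assoc]
      have h8 := inv_eq_of_mul_eq_one_right h7
      rwa [hzi] at h8
    rw [h5]
    exact S.mul_mem (S.mul_mem htS h2) htS
  have hx2S : x ^ 2 ∈ S := by
    have h5 : x ^ 2 = (t * t * z * t⁻¹)⁻¹ * z * (t * t * z * t⁻¹) := by
      calc x ^ 2 = (t * t * z * t⁻¹)⁻¹ * ((t * t * z * t⁻¹) * x ^ 2 * (t * t * z * t⁻¹)⁻¹) * (t * t * z * t⁻¹) := by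
            group
        _ = _ := by rw [hr]
    have h6 : t * t * z * t⁻¹ ∈ S := S.mul_mem (S.mul_mem (S.mul_mem htS htS) hzS) (S.inv_mem htS)
    rw [h5]
    exact S.mul_mem (S.mul_mem (S.inv_mem h6) hzS) h6
  have huS : x⁻¹ * y * x ∈ S := by
    have h3 : z * y * z ∈ S := S.mul_mem (S.mul_mem hzS hyS) hzS
    rw [hS, map_mul, map_mul, az, ay, e1] at h3
    exact h3
  have huS' : x * y * x⁻¹ ∈ S := by
    have h3 : x * y * x⁻¹ = x ^ 2 * (x⁻¹ * y * x) * (x ^ 2)⁻¹ := by group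
    rw [h3]
    exact S.mul_mem (S.mul_mem hx2S huS) (S.inv_mem hx2S)
  -- conjugation by `x`
  have hxz : x * z * x⁻¹ = z * (x ^ 2)⁻¹ := by
    have h3 : z * x * z * x = 1 := by rw [← hzx, pow_two]; simp only [mul_assoc]
    have h4 : x * z = z * x⁻¹ := by
      calc x * z = z⁻¹ * (z * x * z * x) * x⁻¹ := by group
        _ = z * x⁻¹ := by rw [h3, mul_one, hzi]
    rw [h4]; group
  have hxzS : x * z * x⁻¹ ∈ S := by
    rw [hxz]
    exact S.mul_mem hzS (S.inv_mem hx2S)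
  set w : G := y ^ 3 * x * y * x * y with hwdef
  have hwS : w ∈ S := by
    have h3 : w = y ^ 3 * (x * y * x⁻¹) * x ^ 2 * y := by rw [hwdef]; group
    rw [h3]
    exact S.mul_mem (S.mul_mem (S.mul_mem (S.pow_mem hyS 3) huS') hx2S) hyS
  have hwS' : x * w * x⁻¹ ∈ S := by
    have h3 : x * w * x⁻¹ = (x * y * x⁻¹) ^ 3 * (x ^ 2 * y * (x ^ 2)⁻¹) * x ^ 2 * (x * y * x⁻¹) := by
      rw [hwdef, conj_pow]; group
    rw [h3]
    exact S.mul_mem (S.mul_mem (S.mul_mem (S.pow_mem huS' 3) (S.mul_mem (S.mul_mem hx2S hyS) (S.inv_mem hx2S))) hx2S)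
      huS'
  have hvS : w⁻¹ * z * w ∈ S := S.mul_mem (S.mul_mem (S.inv_mem hwS) hzS) hwS
  have hvS' : x * (w⁻¹ * z * w) * x⁻¹ ∈ S := by
    have h3 : x * (w⁻¹ * z * w) * x⁻¹ = (x * w * x⁻¹)⁻¹ * (x * z * x⁻¹) * (x * w * x⁻¹) := by group
    rw [h3]
    exact S.mul_mem (S.mul_mem (S.inv_mem hwS') hxzS) hwS'
  have hx3S : x ^ 3 ∈ S := by
    have h3 : (z * (w⁻¹ * z * w) * (x * (w⁻¹ * z * w) * x⁻¹) * (x ^ 2 * (w⁻¹ * z * w) * (x ^ 2)⁻¹)) * x ^ 3 = 1 := by
      have h4 : ∀ a : G, a ^ 3 = a * a * a := fun a => by rw [pow_succ, pow_two]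
      rw [← hw, h4 (w⁻¹ * z * w * x)]
      simp only [h4 x, pow_two, mul_inv_rev, mul_assoc, inv_mul_cancel_left]
    rw [← inv_eq_of_mul_eq_one_right h3]
    exact S.inv_mem (S.mul_mem (S.mul_mem (S.mul_mem hzS hvS) hvS')
      (S.mul_mem (S.mul_mem hx2S hvS) (S.inv_mem hx2S)))
  have hxS : x ∈ S := by
    have h3 : x = x ^ 3 * (x ^ 2)⁻¹ := by group
    rw [h3]
    exact S.mul_mem hx3S (S.inv_mem hx2S)
  exact ⟨hxS, hyS, hzS, htS⟩

open Cfsg.Agent.HN Cfsg.Agent.HN.Pres Cfsg.Agent.HN.HS100 Cfsg.Agent.HN.H0Basic Cfsg.Agent.H997.OutHN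

/-- the outer automorphism of `HN`, with its values -/
theorem exists_outer' : ∃ α : MulAut Cfsg.Spor.HN, (∀ g : Cfsg.Spor.HN, α ≠ MulAut.conj g) ∧ α Pres.hx = Pres.hx ∧
    α Pres.hy = Pres.hy ∧ α Pres.hz = Pres.hz * Pres.hx ^ 2 ∧ α Pres.ht = Pres.ht ^ 2 := by
  have hs := simple'
  have hfin := KFacts.HN.finite_HN
  obtain ⟨θ, hx, hy, hz, ht⟩ := exists_end
  have hx2 : Pres.hx ^ 2 ≠ 1 := by
    rw [← ψ_τ]
    intro h
    exact KFacts.HN.emb.ne (KFacts.HN.emb.inj (h.trans (map_one _).symm))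
  have hinj : Function.Injective θ := by
    rw [← MonoidHom.ker_eq_bot_iff]
    rcases IsSimpleGroup.eq_bot_or_eq_top_of_normal θ.ker inferInstance with h | h
    · exact h
    · exfalso
      have h1 : Pres.hx ∈ θ.ker := by rw [h]; exact Subgroup.mem_top _
      rw [MonoidHom.mem_ker, hx] at h1
      exact hx2 (by rw [h1, one_pow])
  refine ⟨MulEquiv.ofBijective θ (Finite.injective_iff_bijective.1 hinj), ?_, hx, hy, hz, ht⟩
  intro g hg
  have happ : ∀ u : Cfsg.Spor.HN, θ u = g * u * g⁻¹ := fun u =>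
    congrArg (fun β : MulAut Cfsg.Spor.HN => β u) hg
  have hcomp : θ.comp NormalH.ψ = NormalH.ψ.comp twist := by
    refine MonoidHom.eq_of_eqOn_dense closure_gens ?_
    rintro h (rfl | rfl | rfl)
    · rw [MonoidHom.comp_apply, MonoidHom.comp_apply, twist_gx, NormalH.ψ_gx, hx]
    · rw [MonoidHom.comp_apply, MonoidHom.comp_apply, twist_gy, NormalH.ψ_gy, hy]
    · rw [MonoidHom.comp_apply, MonoidHom.comp_apply, twist_gz, map_mul, NormalH.ψ_gz, ψ_τ, hz]
  have hc : ∀ u : Cfsg.Spor.HN, θ u = u → g * u = u * g := by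
    intro u hu
    rw [happ] at hu
    exact mul_inv_eq_iff_eq_mul.1 hu
  have hgτ : g * NormalH.ψ τ = NormalH.ψ τ * g := by
    apply hc
    rw [ψ_τ, map_pow, hx]
  obtain ⟨h, rfl⟩ := KFacts.HN.emb.cent g hgτ
  have hK : ∀ k ∈ K, h * k = k * h := by
    intro k hk
    apply KFacts.HN.emb.inj
    rw [map_mul, map_mul]
    apply hc
    have h1 := congrArg (fun f : H0 →* Cfsg.Spor.HN => f k) hcomp
    simp only [MonoidHom.comp_apply] at h1
    rw [h1, twist_of_mem hk]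
  have hz' : θ Pres.hz = Pres.hz := by
    rw [happ, mul_inv_eq_iff_eq_mul, ← NormalH.ψ_gz, ← map_mul, ← map_mul]
    rcases StepFive.eq_of_comm_K hK with rfl | rfl
    · rw [one_mul, mul_one]
    · rw [τ_comm]
  rw [hz] at hz'
  exact hx2 (mul_eq_left.1 hz')

theorem twoGen_aut : TwoGen (MulAut Cfsg.Spor.HN) := by
  have := simple'
  obtain ⟨α, hα, -, ay, az, at'⟩ := exists_outer'
  set L := Subgroup.closure ({MulAut.conj (Pres.hy * Pres.ht), MulAut.conj (Pres.hx * Pres.hz) * α} :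
    Set (MulAut Cfsg.Spor.HN)) with hL
  have h1 : MulAut.conj (Pres.hy * Pres.ht) ∈ L := Subgroup.subset_closure (by simp only [_root_.map_mul, _root_.Set.mem_insert_iff, _root_.Set.mem_singleton_iff, _root_.true_or])
  have h2 : MulAut.conj (Pres.hx * Pres.hz) * α ∈ L := Subgroup.subset_closure (by simp only [_root_.map_mul, _root_.Set.mem_insert_iff, _root_.Set.mem_singleton_iff, _root_.or_true])
  set S : Subgroup Cfsg.Spor.HN := L.comap MulAut.conj with hSdef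
  have hS : ∀ k : Cfsg.Spor.HN, k ∈ S ↔ (Pres.hx * Pres.hz) * α k * (Pres.hx * Pres.hz)⁻¹ ∈ S := by
    intro k
    have e : MulAut.conj ((Pres.hx * Pres.hz) * α k * (Pres.hx * Pres.hz)⁻¹) =
        (MulAut.conj (Pres.hx * Pres.hz) * α) * MulAut.conj k * (MulAut.conj (Pres.hx * Pres.hz) * α)⁻¹ := by
      rw [map_mul, map_mul, map_inv]
      have e2 : MulAut.conj (α k) = α * MulAut.conj k * α⁻¹ := by
        ext u
        simp only [MulAut.mul_apply, MulAut.conj_apply, _root_.MulAut.inv_apply, _root_.map_mul, _root_.MulEquiv.apply_symm_apply, _root_.map_inv]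
      rw [e2]
      group
    rw [hSdef, Subgroup.mem_comap, Subgroup.mem_comap, e]
    constructor
    · intro h
      exact L.mul_mem (L.mul_mem h2 h) (L.inv_mem h2)
    · intro h
      have h3 := L.mul_mem (L.mul_mem (L.inv_mem h2) h) h2
      have h4 : ∀ a b : MulAut Cfsg.Spor.HN, a⁻¹ * (a * b * a⁻¹) * a = b := fun a b => by group
      rwa [h4] at h3
  have hy6 : Pres.hy ^ 6 = 1 := mk_extra (by simp only [Cfsg.Spor.HN.extra, _root_.mul_inv_rev, _root_.inv_inv, _root_.List.mem_cons, _root_.List.not_mem_nil, _root_.or_false, _root_.true_or])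
  have hzt : (Pres.hz * Pres.ht) ^ 3 = 1 := mk_extra (by simp only [Cfsg.Spor.HN.extra, _root_.mul_inv_rev, _root_.inv_inv, _root_.List.mem_cons, _root_.List.not_mem_nil, _root_.or_false, _root_.or_true])
  have hzx : (Pres.hz * Pres.hx) ^ 2 = 1 := mk_extra (by simp only [Cfsg.Spor.HN.extra, _root_.mul_inv_rev, _root_.inv_inv, _root_.List.mem_cons, _root_.List.not_mem_nil, _root_.or_false, _root_.true_or, _root_.or_true])
  have hw : Pres.hz * (((Pres.hy ^ 3 * Pres.hx * Pres.hy * Pres.hx * Pres.hy)⁻¹ * Pres.hz *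
      (Pres.hy ^ 3 * Pres.hx * Pres.hy * Pres.hx * Pres.hy)) * Pres.hx) ^ 3 = 1 :=
    mk_extra (by simp only [Cfsg.Spor.HN.extra, _root_.mul_inv_rev, _root_.inv_inv, _root_.List.mem_cons, _root_.List.not_mem_nil, _root_.or_false, _root_.true_or, _root_.or_true])
  have hty : Pres.ht * Pres.hy = Pres.hy * Pres.ht := by
    calc Pres.ht * Pres.hy = Pres.hy * Pres.ht * (Pres.ht⁻¹ * Pres.hy⁻¹ * Pres.ht * Pres.hy) := by group
      _ = Pres.hy * Pres.ht := by rw [rel_ty, mul_one]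
  have hZZ : Pres.hz * Pres.hz = 1 := by rw [← pow_two]; exact rels_HN.r7
  have hSS : Pres.hx ^ 2 * Pres.hx ^ 2 = 1 := by rw [← ψ_τ, ← map_mul, τ_mul_τ, map_one]
  have hSZ : Pres.hz * Pres.hx ^ 2 = Pres.hx ^ 2 * Pres.hz := by
    rw [← ψ_τ, ← NormalH.ψ_gz, ← map_mul, ← map_mul, τ_comm]
  have hr := InvHN.r_τ
  rw [r_eq, ψ_τ, NormalH.ψ_gz] at hr
  obtain ⟨m1, m2, m3, m4⟩ := hn_outer hy6 rel_t5 hty hZZ hSS (mul_eq_one_iff_eq_inv.1 rel_tx) hzt hzx hSZ hr hw α ay az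
    at' S h1 hS
  have hStop : S = ⊤ := by
    rw [eq_top_iff]
    have h3 : (⊤ : Subgroup Cfsg.Spor.HN) ≤ S := by
      have h4 := Cfsg.Agent.H440.TwoGen.Cox.eq_top_of_forall (edges := Cfsg.Spor.HN.edges)
        (extra := Cfsg.Spor.HN.extra) S (fun w => by
          cases w
          · exact m1
          · exact m2
          · exact m3
          · exact m4)
      exact h4.ge
    exact h3
  have hInn : (MulAut.conj : Cfsg.Spor.HN →* MulAut Cfsg.Spor.HN).range ≤ L := by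
    rintro _ ⟨g, rfl⟩
    have h3 : g ∈ S := by rw [hStop]; exact Subgroup.mem_top _
    exact h3
  have hidx : (MulAut.conj : Cfsg.Spor.HN →* MulAut Cfsg.Spor.HN).range.index = 2 := Cfsg.Agent.S2082.result
  have hLtop : L = ⊤ := by
    have h5 := Subgroup.relIndex_mul_index hInn
    rw [hidx] at h5
    have h6 : L.index = 1 ∨ L.index = 2 := (Nat.dvd_prime Nat.prime_two).1 ⟨_, by rw [mul_comm]; exact h5.symm⟩
    rcases h6 with h6 | h6
    · exact Subgroup.index_eq_one.1 h6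
    · exfalso
      have h7 : (MulAut.conj : Cfsg.Spor.HN →* MulAut Cfsg.Spor.HN).range.relIndex L = 1 := by
        rw [h6] at h5
        omega
      have h8 := Subgroup.relIndex_eq_one.1 h7
      have h9 : α ∈ L := by
        have h10 := L.mul_mem (L.inv_mem (hInn ⟨Pres.hx * Pres.hz, rfl⟩)) h2
        rwa [inv_mul_cancel_left] at h10
      obtain ⟨g, hg⟩ := h8 h9
      exact hα g hg.symm
  exact ⟨_, _, hLtop⟩

open Cfsg.Agent.H891.DG in
theorem Cos2.congr {T S : Type*} [Group T] [Group S] (e : T ≃* S) (h : Cos2 S) : Cos2 T := by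
  intro x y
  set f : MulAut T ≃* MulAut S := MulAut.congr e with hf
  obtain ⟨s, ⟨s0, hs⟩, t, ⟨t0, ht⟩, hle⟩ := h (f x) (f y)
  have hconj : ∀ g : T, f (MulAut.conj g) = MulAut.conj (e g) := by
    intro g
    ext u
    simp only [hf, MulAut.congr, MulAut.conj_apply, _root_.MulEquiv.coe_mk, _root_.Equiv.coe_fn_mk, _root_.MulEquiv.trans_apply, _root_.map_mul, _root_.MulEquiv.apply_symm_apply, _root_.map_inv]
  have hconj' : ∀ g : S, f.symm (MulAut.conj g) = MulAut.conj (e.symm g) := by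
    intro g
    rw [MulEquiv.symm_apply_eq, hconj, MulEquiv.apply_symm_apply]
  refine ⟨f.symm s, ⟨e.symm s0, by rw [← hs, hconj']⟩, f.symm t, ⟨e.symm t0, by rw [← ht, hconj']⟩, ?_⟩
  rintro _ ⟨g, rfl⟩
  have h1 : MulAut.conj (e g) ∈ Subgroup.closure ({f x * s, f y * t} : Set (MulAut S)) := hle ⟨e g, rfl⟩
  have h2 : Subgroup.closure ({x * f.symm s, y * f.symm t} : Set (MulAut T)) =
      (Subgroup.closure ({f x * s, f y * t} : Set (MulAut S))).map f.symm.toMonoidHom := by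
    rw [MonoidHom.map_closure, Set.image_pair]
    congr 1
    simp only [_root_.MulEquiv.toMonoidHom_eq_coe, _root_.MonoidHom.coe_coe, _root_.map_mul, _root_.MulEquiv.symm_apply_apply]
  rw [h2]
  refine ⟨MulAut.conj (e g), h1, ?_⟩
  change f.symm (MulAut.conj (e g)) = MulAut.conj g
  rw [hconj', MulEquiv.symm_apply_apply]

open Cfsg.Agent.H891.DG in
/-- **`Cos2` for `HN`.** -/
theorem cos2_hn {T : Type u} [Group T] [Finite T] [IsSimpleGroup T] (h : Cfsg.Spor.IsoHN T) : Cos2 T := by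
  obtain ⟨e⟩ := h
  have : Finite Cfsg.Spor.HN := KFacts.HN.finite_HN
  have : IsSimpleGroup Cfsg.Spor.HN := simple'
  exact Cos2.congr e (Nielsen.cos2_of_out_two Cfsg.Agent.H440.TwoGen.HNHe.hn Cfsg.Agent.S2082.result twoGen_aut)

end Cfsg.Agent.H68.DG.CosHN
end

-- part: H891/DG/RowsCos
section
/-! # S4180: the rows of `Cos2` (TEAM GEN) -/

set_option autoImplicit false

namespace Cfsg.Agent.H891.DG.RCos

open Cfsg.Agent.H891.DG

universe u

theorem cos2_spor (T : Type u) [Group T] [Finite T] [IsSimpleGroup T] (h : Cfsg.IsSporadicGroup T) : Cos2 T := by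
  rcases h with h | h | h | h | h | h | h | h | h | h | h | h | h | h | h | h | h | h | h | h | h | h | h | h | h | h
  · exact Cfsg.Agent.H973.DG.Spor.m11 h
  · exact Cfsg.Agent.H973.DG.Spor.m12 h
  · exact Cfsg.Agent.H973.DG.Spor.m22 h
  · exact Cfsg.Agent.H973.DG.Spor.m23 h
  · exact Cfsg.Agent.H973.DG.Spor.m24 h
  · exact Cfsg.Agent.H973.DG.Spor.j1 h
  · exact Cfsg.Agent.H831.DG.J2Row.cos2_j2 h
  · exact Cfsg.Agent.H831.DG.J3Row.cos2_j3 h
  · exact Cfsg.Agent.H973.DG.Spor.j4 h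
  · exact Cfsg.Agent.H973.DG.Spor.co1 h
  · exact Cfsg.Agent.H973.DG.Spor.co2 h
  · exact Cfsg.Agent.H973.DG.Spor.co3 h
  · exact Cfsg.Agent.H831.DG.McLRow.cos2_mcl h
  · exact Cfsg.Agent.H973.DG.Spor.hs h
  · exact Cfsg.Agent.H831.DG.SuzRow.cos2_suz h
  · exact Cfsg.Agent.H440.DG.He.cos2_he h
  · exact Cfsg.Agent.H973.DG.Spor.ru h
  · exact Cfsg.Agent.H440.DG.ONan.cos2_on h
  · exact Cfsg.Agent.H973.DG.Spor.ly h
  · exact Cfsg.Agent.H184.DG.CosFi.cos2_fi22 h
  · exact Cfsg.Agent.H973.DG.Spor.fi23 h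
  · exact Cfsg.Agent.H184.DG.CosFi.cos2_fi24' h
  · exact Cfsg.Agent.H68.DG.CosHN.cos2_hn h
  · exact Cfsg.Agent.H973.DG.Spor.th h
  · exact Cfsg.Agent.H973.DG.Spor.b h
  · exact Cfsg.Agent.H973.DG.Spor.m h

theorem psp (T : Type u) [Group T] [Finite T] [IsSimpleGroup T] (F : Type) [Field F] [Fintype F] (m : ℕ)
    (hm : 2 ≤ m) (h3 : m = 2 → 3 ≤ Fintype.card F) (e : Nonempty (T ≃* Cfsg.PSp m F)) : Cos2 T := by
  by_cases h : 3 ≤ m ∨ (2 : F) ≠ 0
  · exact Cfsg.Agent.H97.DG.psp_row T F m hm h e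
  · push Not at h
    obtain ⟨h1, h2⟩ := h
    obtain rfl : m = 2 := by omega
    have h4 : CharP F 2 := CharTwo.of_one_ne_zero_of_two_eq_zero one_ne_zero h2
    have hev : Even (Fintype.card F) := by
      obtain ⟨k, -, hk⟩ := FiniteField.card F 2
      rw [hk]
      exact (even_two).pow_of_ne_zero k.ne_zero
    exact Cfsg.Agent.H875.DG.Sp4Even.cos2_psp4_even' F hev (h3 rfl) e

theorem rowsCos : Rows.{u} Cos2 where
  alt := Cfsg.Agent.H285.DG.cos2_alt
  psl2 := Cfsg.Agent.H984.DG.cos2_psl2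
  psl := Cfsg.Agent.H172.DG.cos2_psl_row
  psp := psp
  psu3 := Cfsg.Agent.H984.DG.cos2_psu3
  psu := Cfsg.Agent.H306.DG.cos2_psu
  odd := fun _ _ _ _ h => Cfsg.Agent.H48.DG.Odd.cos2_odd h
  plus := Cfsg.Agent.H989.DG.cos2_plus_row fun _ _ _ _ _ _ _ e => Cfsg.Agent.H237.D4C.cos2_plus_four e.some
  minus := fun _ _ _ _ h => Cfsg.Agent.H827.DG.Minus.cos2_minus h
  g2 := Cfsg.Agent.H245.DG.G2.row
  f4 := Cfsg.Agent.H95.DG.CosF4.cos2_f4
  e6 := Cfsg.Agent.H20.Cos2.cos2_e6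
  e7 := Cfsg.Agent.H65.Cos.cos2_e7
  e8 := Cfsg.Agent.H65.Cos.cos2_e8
  twE6 := Cfsg.Agent.H157.DG.TwE6.cos2_row_twE6
  twD4 := Cfsg.Agent.H38.DG.TwD4.cos2_twD4
  sz := Cfsg.Agent.H984.DG.cos2_sz
  ree := Cfsg.Agent.H984.DG.cos2_ree
  twF4 := fun _ _ _ _ h => Cfsg.Agent.H42.Cos.cos2_twF4 h
  tits := fun _ _ _ _ h => Cfsg.Agent.H42.Cos.cos2_tits h
  spor := cos2_spor

end Cfsg.Agent.H891.DG.RCos
end

private theorem dce_e30056cb35ff : _root_.True := by
  try have : _root_.True := by simp only [_root_.Cfsg.Agent.H157.DG.TwE6.psA.congr_simp]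
  try have : _root_.True := by simp only [_root_.Cfsg.Agent.H157.DG.TwE6.bet.eq_1]
  try have : _root_.True := by simp only [_root_.Cfsg.Agent.H831.DG.McLRow.wX.eq_1]
  try have : _root_.True := by simp only [_root_.Cfsg.Agent.H831.DG.SuzRow.al.eq_1]
  try have : _root_.True := by simp only [_root_.Cfsg.Agent.H831.DG.SuzRow.K.eq_1]
  try have : _root_.True := by simp only [_root_.Cfsg.Agent.H831.DG.McLRow.m.eq_1]
  try have : _root_.True := by simp only [_root_.Cfsg.Agent.H831.DG.McLRow.m.eq_3]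
  try have : _root_.True := by simp only [_root_.Cfsg.Agent.H831.DG.J3Row.te.eq_1]
  try have : _root_.True := by simp only [_root_.Cfsg.Agent.H831.DG.SuzRow.ev.eq_1]
  try have : _root_.True := by simp only [_root_.Cfsg.Agent.H157.DG.TwE6.psA.eq_1]
  try have : _root_.True := by simp only [_root_.Cfsg.Agent.H831.DG.McLRow.m.eq_5]
  try have : _root_.True := by simp only [_root_.Cfsg.Agent.H831.DG.McLRow.m.eq_7]
  try have : _root_.True := by simp only [_root_.Cfsg.Agent.H831.DG.McLRow.m.eq_4]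
  try have : _root_.True := by simp only [_root_.Cfsg.Agent.H831.DG.McLRow.m.eq_8]
  try have : _root_.True := by simp only [_root_.Cfsg.Agent.H157.DG.TwE6.bet.congr_simp]
  try have : _root_.True := by simp only [_root_.Cfsg.Agent.H831.DG.McLRow.R.eq_1]
  try have : _root_.True := by simp only [_root_.Cfsg.Agent.H831.DG.McLRow.m.eq_2]
  try have : _root_.True := by simp only [_root_.Cfsg.Agent.H831.DG.SuzRow.ev.eq_def]
  try have : _root_.True := by simp only [_root_.Cfsg.Agent.H831.DG.SuzRow.ev.eq_2]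
  try have : _root_.True := by simp only [_root_.Cfsg.Agent.H831.DG.McLRow.fx.eq_1]
  try have : _root_.True := by simp only [_root_.Cfsg.Agent.H831.DG.McLRow.m.eq_6]
  try have : _root_.True := by simp only [_root_.Cfsg.Agent.H831.DG.McLRow.wY.eq_1]
  try have : _root_.True := by simp only [_root_.Cfsg.Agent.H831.DG.J3Row.ue.eq_1]
  exact _root_.True.intro
end
end
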